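import Mathlib
import Cfsg.Agent.PT.Iface
import Cfsg.Agent.GT.QuadSL2
import Cfsg.Agent.TT.Def2
import Cfsg.Agent.KS.Defs

/-! Groups generated by a class of root elements of order `p ≥ 5`: definitions. -/

set_option autoImplicit false

namespace Cfsg.Agent.PT

open Subgroup MulAction Cfsg.Agent.GT Cfsg.Agent.TT Cfsg.Agent.Perm.TT Cfsg.Agent.Perm.TwoCount
open Cfsg.Agent.KS (St NT)
open scoped MatrixGroups commutatorElement

universe u v

/-- the diagonal matrix `diag (l, l⁻¹)` -/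
def dg {F : Type*} [Field F] (l : Fˣ) : SL(2, F) :=
  ⟨!![(l : F), 0; 0, ((l⁻¹ : Fˣ) : F)], by simp [Matrix.det_fin_two]⟩

/-- the matrix `!![0, s; -s⁻¹, 0]` -/
def wy {F : Type*} [Field F] (s : F) : SL(2, F) := slUp s * slLo (-s⁻¹) * slUp s

section Grp

variable {G : Type u} [Group G]

/-- the braid relation -/
def Br (a b : G) : Prop := a * b * a = b * a * b

/-- the Weyl element of a braiding pair -/
def nn (a b : G) : G := a * b * a

/-- its square -/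
def zz (a b : G) : G := nn a b * nn a b

/-- `a` and `b` are opposite root elements of a local `SL₂` -/
def Loc (p : ℕ) (a b : G) : Prop :=
  ∃ (F : Type) (_ : Field F) (_ : Finite F) (_ : CharP F p) (ρ : SL(2, F) →* G) (μ : F),
    μ ≠ 0 ∧ ρ (slUp 1) = a ∧ ρ (slLo μ) = b ∧ ρ.range = closure {a, b}

/-- the relations between `a`, `a' = a * w`, and a common braid partner `b` -/
structure Tl (p : ℕ) (a b w c e : G) : Prop where
  br : Br a b
  br' : Br (a * w) b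
  aw : Commute a w
  bb : Commute b (w * b * w⁻¹)
  cdef : c = (w * b * w⁻¹)⁻¹ * b
  edef : e = w * c * w⁻¹ * c⁻¹
  bc : Commute b c
  ca : c * a * c⁻¹ = a * w
  ac : a * c * a⁻¹ = w⁻¹ * c
  bw : b * w * b⁻¹ = c * w
  ea : Commute e a
  eb : Commute e b
  ew : Commute e w
  ec : Commute e c
  nw : nn a b * w * (nn a b)⁻¹ = w⁻¹ * c * w
  nc : nn a b * c * (nn a b)⁻¹ = w⁻¹
  zw : zz a b * w * (zz a b)⁻¹ = w⁻¹ * e⁻¹
  zc : zz a b * c * (zz a b)⁻¹ = c⁻¹ * e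
  ap : a ^ p = 1
  wp : w ^ p = 1
  cp : c ^ p = 1
  ep : e ^ p = 1
  ne : w ≠ 1

/-- the torus element `h(2)` of a braiding pair of elements of order `5` -/
def hh (a b : G) : G := a ^ 2 * b ^ 3 * a ^ 2 * (nn a b)⁻¹

/-- relations of `SL₂(5)` -/
structure R5 (a b : G) : Prop where
  a5 : a ^ 5 = 1
  b5 : b ^ 5 = 1
  br : Br a b
  n4 : zz a b * zz a b = 1
  ha : hh a b * a * (hh a b)⁻¹ = a ^ 4
  hb : hh a b * b * (hh a b)⁻¹ = b ^ 4

end Grp

variable {G : Type u} {Ω : Type v} [Group G] [MulAction G Ω]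

section Defs

variable (E : Ω → Set G)

/-- collinearity -/
def R (x y : Ω) : Prop := ∀ a ∈ E x, ∀ b ∈ E y, Commute a b

/-- the group generated by the root elements of a point -/
def Z (x : Ω) : Subgroup G := closure (E x)

/-- root elements of order `p`, sorted into points -/
structure TG (p : ℕ) : Prop where
  prime : p.Prime
  five : 5 ≤ p
  ne : ∀ x, (E x).Nonempty
  ord : ∀ x, ∀ a ∈ E x, orderOf a = p
  pow : ∀ x, ∀ a ∈ E x, ∀ k : ℕ, a ^ k ≠ 1 → a ^ k ∈ E x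
  conj : ∀ (g : G) x, ∀ a ∈ E x, g * a * g⁻¹ ∈ E (g • x)
  pair : ∀ x y, ∀ a ∈ E x, ∀ b ∈ E y, Commute a b ∨ Loc p a b
  same : ∀ x y, ∀ a ∈ E x, ∀ a' ∈ E x, ∀ d ∈ E y, Commute a d → Commute a' d
  sep : ∀ x y, ∀ a ∈ E x, ∀ b ∈ E y, (∀ z, ∀ d ∈ E z, Commute a d ↔ Commute b d) → x = y
  gen : closure (⋃ x, E x) = ⊤
  tr : ∀ x y : Ω, ∃ g : G, g • x = y
  nc : ∃ x y, ¬ R E x y

/-- a local chart at the opposite points `x`, `y` -/
structure Ch (p : ℕ) {F : Type} [Field F] (ρ : SL(2, F) →* G) (x y : Ω) : Prop where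
  fin : Finite F
  char : CharP F p
  opp : ¬ R E x y
  up : ∀ s : F, s ≠ 0 → ρ (slUp (s ^ 2)) ∈ E x
  lo : ∀ s : F, s ≠ 0 → ρ (slLo (-s ^ 2)) ∈ E y

/-- a chart containing the whole groups `Z x` and `Z y` -/
structure GC (p : ℕ) {F : Type} [Field F] (ρ : SL(2, F) →* G) (x y : Ω) : Prop
    extends Ch E p ρ x y where
  allup : ∀ u ∈ Z E x, ∃ s, u = ρ (slUp s)
  alllo : ∀ u ∈ Z E y, ∃ s, u = ρ (slLo s)

/-- rank one -/
def R1 : Prop := ∀ x y, R E x y → x = y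

/-- the braid partners of `a` at the point `y` -/
def Pa (a : G) (y : Ω) : Set G := {b | b ∈ E y ∧ Br a b}

/-- some root element at `x` has two partners at `y` -/
def Imp (x y : Ω) : Prop := ¬ R E x y ∧ ∃ a ∈ E x, ∃ b ∈ Pa E a y, ∃ b' ∈ Pa E a y, b ≠ b'

/-- partners are unique -/
def Pure : Prop := ∀ x y, ¬ Imp E x y

/-- a pair of type `SL₂` -/
def SLp (x y : Ω) : Prop := ¬ R E x y ∧ ∃ a ∈ E x, ∃ b ∈ Pa E a y, zz a b ≠ 1

/-- `g` fixes `x` and raises the elements of `Z x` to the power `k` -/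
def Sc (x : Ω) (g : G) (k : ℤ) : Prop := g • x = x ∧ ∀ u ∈ Z E x, g * u * g⁻¹ = u ^ k

/-- all nonidentity elements of `Z x` are root elements -/
def Full : Prop := ∀ x, ∀ u ∈ Z E x, u ≠ 1 → u ∈ E x

/-- the group generated by the root elements collinear with `x` -/
def LL (x : Ω) : Subgroup G := closure {a | ∃ c, R E x c ∧ a ∈ E c}

/-- the group generated by the root elements collinear with `x` and `y` -/
def HH (x y : Ω) : Subgroup G := closure {a | ∃ c, R E x c ∧ R E y c ∧ a ∈ E c}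

/-- `g` fixes `x` and all lines through `x` -/
def FL (x : Ω) (g : G) : Prop :=
  g • x = x ∧ ∀ c, R E x c → pp (R E) {x, g • c} = pp (R E) {x, c}

/-- the unipotent radical of the point `x` -/
structure Rd (p : ℕ) (x : Ω) (Q : Subgroup G) : Prop where
  pg : IsPGroup p Q
  fl : ∀ g ∈ Q, FL E x g
  norm : ∀ h : G, h • x = x → ∀ g ∈ Q, h * g * h⁻¹ ∈ Q
  tr : ∀ b c, ¬ R E x b → ¬ R E x c → ∃ g ∈ Q, g • b = c

/-- the stabilizer of `y` in `Z x` -/
def VV (x y : Ω) : Subgroup G := Z E x ⊓ stabilizer G y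

/-- the centralizer of `Z x` -/
def CZ (x : Ω) : Subgroup G := centralizer (Z E x : Set G)

/-- the stabilizer of `y` in it -/
def KK (x y : Ω) : Subgroup G := CZ E x ⊓ stabilizer G y

/-- the group generated by `Z x` and `Z y` -/
def YY (x y : Ω) : Subgroup G := Z E x ⊔ Z E y

/-- the hyperbolic line through `x` and `y` -/
def hl (x y : Ω) : Set Ω := {c | c = x ∨ ∃ u ∈ Z E x, u • y = c}

/-- the points with a root element in `X` -/
def Px (X : Subgroup G) : Set Ω := {x | ∃ a ∈ E x, a ∈ X}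

/-- the group generated by the root elements in `X` -/
def HX (X : Subgroup G) : Subgroup G := closure {a | a ∈ X ∧ ∃ x, a ∈ E x}

/-- `X` acts on its points as a linear group -/
def TyL (p : ℕ) (X : Subgroup G) (x y : Ω) : Prop :=
  ∃ (F : Type) (_ : Field F) (ρ : SL(2, F) →* G), Ch E p ρ x y ∧ ρ.range ≤ X ∧
    ∀ c ∈ Px E X, c ≠ x → ∃ s, ρ (slUp s) • y = c

/-- `X` acts on its points as a unitary group -/
structure TyU (X : Subgroup G) (x y : Ω) : Prop where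
  mv : ∀ a ∈ E x, ∀ b ∈ Pa E a y, a ∈ X → b ∈ X → ∃ c ∈ Px E X, zz a b • c ≠ c
  ua : ∀ g ∈ normalizer (X : Set G), (∀ c ∈ Px E X, (g * g) • c = c) → ∃ c ∈ Px E X, g • c = c

/-- what the theorem says about a subgroup with two points -/
structure SubC (p : ℕ) (X : Subgroup G) (x y : Ω) : Prop where
  even : Even (Px E X).ncard
  t2 : T2 (HX E X) (Px E X)
  pm : ∀ x' y', x' ≠ y' → ∀ a ∈ E x', ∀ b ∈ Pa E a y', ∀ b' ∈ Pa E a y', a ∈ X → b ∈ X → b' ∈ X →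
    ∀ c ∈ Px E X, b • c = b' • c
  ty : TyL E p X x y ∨ TyU E X x y

/-- faithful of rank one -/
structure FR (p : ℕ) : Prop extends TG E p where
  r1 : R1 E
  faith : ∀ g : G, (∀ x : Ω, g • x = x) → g = 1

/-- the theorem in rank one -/
structure RC : Prop where
  pure : Pure E
  even : Even (Nat.card Ω)
  nt : ∃ (x : Ω) (U : Subgroup G), NT x U

/-- the inductive situation -/
structure MC (p : ℕ) : Prop extends FR E p where
  sub : ∀ X : Subgroup G, X ≠ ⊤ → ∀ x ∈ Px E X, ∀ y ∈ Px E X, x ≠ y → SubC E p X x y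

/-- the inductive situation with unique partners -/
structure MP (p : ℕ) : Prop extends MC E p where
  pure : Pure E

/-- `t` is an `r`-element acting as a scalar `k ≠ 1` on `Z x` and fixing only `x` and `y` -/
structure TD (p r : ℕ) (k : ℤ) (x y : Ω) (t : G) : Prop where
  prime : r.Prime
  ne : r ≠ p
  pw : ∃ j : ℕ, t ^ r ^ j = 1
  odd : r ≠ 2 → t ^ r = 1
  two : r = 2 → p % 4 = 1
  sc : Sc E x t k
  k1 : ¬ k ≡ 1 [ZMOD p]
  fy : t • y = y
  fix : ∀ c : Ω, t • c = c → c = x ∨ c = y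

/-- if all involutions fixing `x` and `y` invert `Z x`, then one of them fixes no third point, or
a torus element of order four in a local `L₂` fixes no third point -/
def D8 (p : ℕ) (x y : Ω) : Prop :=
  (∀ j : G, orderOf j = 2 → j • x = x → j • y = y → Sc E x j (-1)) →
    (∃ j : G, orderOf j = 2 ∧ j • x = x ∧ j • y = y ∧ ∀ c : Ω, j • c = c → c = x ∨ c = y) ∨
      ∃ (F : Type) (_ : Field F) (ρ : SL(2, F) →* G) (l : Fˣ), Ch E p ρ x y ∧ (l : F) ^ 4 = -1 ∧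
        ∀ c : Ω, ρ (dg l) • c = c → c = x ∨ c = y

/-- the elements `t` exist for all pairs -/
structure TX (p r : ℕ) (k : ℤ) : Prop extends MP E p where
  ex : ∀ x y : Ω, x ≠ y → ∃ t, TD E p r k x y t
  d8 : r = 2 → ∀ x y : Ω, x ≠ y → KK E x y = ⊥ → D8 E p x y

/-- the doubly transitive situation -/
structure M2 (p r : ℕ) (k : ℤ) : Prop extends TX E p r k where
  two : Two G Ω
  gl : ∀ x y : Ω, ∀ t, x ≠ y → TD E p r k x y t → ∀ c : Ω, c ≠ x →
    ∃ g ∈ ⁅CZ E x, zpowers t⁆, g • y = c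

/-- the doubly transitive situation with lines -/
structure LN (p : ℕ) : Prop extends MP E p where
  two : Two G Ω
  ctr : ∀ x y c : Ω, y ≠ x → c ≠ x → ∃ g ∈ CZ E x, g • y = c
  ne_bot : ∀ x y : Ω, x ≠ y → KK E x y ≠ ⊥

/-- the unitary alternative for the fixed points `S` of a subgroup `W` of `KK x y` -/
structure US (W : Subgroup G) (S : Set Ω) (x y : Ω) : Prop where
  even : Even S.ncard
  t2 : T2 (centralizer (W : Set G)) S
  mv : ∀ a ∈ E x, ∀ b ∈ Pa E a y, ∃ c ∈ S, zz a b • c ≠ c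
  ua : ∀ g ∈ normalizer (W : Set G), (∀ c ∈ S, (g * g) • c = c) → ∃ c ∈ S, g • c = c

/-- involutions fixing a line pointwise fix no other point -/
structure KE (p : ℕ) : Prop extends LN E p where
  even : ∀ x y : Ω, x ≠ y → Even (Nat.card (KK E x y))
  ifx : ∀ x y : Ω, x ≠ y → ∀ t ∈ KK E x y, orderOf t = 2 → fixedBy Ω t = hl E x y

/-- `O` has odd order, is normal in the stabilizer of `x` and transitive on the other points -/
structure OT (x : Ω) (O : Subgroup G) : Prop where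
  le : O ≤ CZ E x
  ge : Z E x ≤ O
  odd : Odd (Nat.card O)
  norm : ∀ g : G, g • x = x → ∀ u ∈ O, g * u * g⁻¹ ∈ O
  tr : ∀ c d : Ω, c ≠ x → d ≠ x → ∃ u ∈ O, u • c = d

end Defs

/-- the root elements of `X` seen in a constituent -/
def EC (E : Ω → Set G) (X : Subgroup G) {N : Subgroup G} {B Δ : Type*} [Group B] (π : N →* B)
    (ι : Δ → Ω) (L : Subgroup B) (x : Δ) : Set L :=
  {β | ∃ a : N, (a : G) ∈ E (ι x) ∧ (a : G) ∈ X ∧ π a = (β : B)}

/-- the theorem in rank one for groups of order less than `m` -/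
def IH (p m : ℕ) : Prop :=
  ∀ (B Δ : Type v) [Group B] [Finite B] [MulAction B Δ] [Finite Δ] (E : Δ → Set B),
    Nat.card B < m → FR E p → RC E

/-- The abstract form of the case that `KK` has odd order: `B` is a point stabilizer, `Z ≅ F`. -/
structure TW {B : Type u} [Group B] (p : ℕ) (C Z K : Subgroup B) {F : Type} [Field F]
    (φ : F → B) (τ : Fˣ → B) (t : B) (k : ℤ) (r : ℕ) : Prop where
  prime : p.Prime
  five : 5 ≤ p
  fin : Finite F
  char : CharP F p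
  nC : C.Normal
  nZ : Z.Normal
  ZC : Z ≤ C
  KC : K ≤ C
  Kne : K ≠ ⊥
  odd : Odd (Nat.card C)
  cen : ∀ c ∈ C, ∀ z ∈ Z, Commute c z
  add : ∀ s s', φ (s + s') = φ s * φ s'
  inj : Function.Injective φ
  mem : ∀ z, z ∈ Z ↔ ∃ s, z = φ s
  disj : ∀ z ∈ Z, z ∈ K → z = 1
  ti : ∀ c ∈ C, ∀ x ∈ K, x ≠ 1 → c * x * c⁻¹ ∈ K → c ∈ K ⊔ Z
  τK : ∀ l, ∀ x ∈ K, Commute (τ l) x
  τZ : ∀ l s, τ l * φ s * (τ l)⁻¹ = φ ((l : F) ^ 2 * s)
  τt : ∀ l, Commute (τ l) t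
  rp : r.Prime
  rne : r ≠ p
  pw : ∃ j : ℕ, t ^ r ^ j = 1
  rodd : r ≠ 2 → t ^ r = 1
  tf : ∀ j : ℕ, (∀ z ∈ Z, Commute (t ^ j) z) → t ^ j = 1
  tK : ∀ x ∈ K, Commute t x
  tZ : ∀ z ∈ Z, t * z * t⁻¹ = z ^ k
  k1 : ¬ k ≡ 1 [ZMOD p]
  tfix : ∀ c ∈ C, c⁻¹ * (t * c * t⁻¹) ∈ K → c ∈ K
  gl : ∀ c ∈ C, ∃ g ∈ ⁅C, zpowers t⁆, g⁻¹ * c ∈ K
  big : 5 < Nat.card F ∨ ∃ a : ℕ, K.relIndex C = p ^ a

/-- the conclusion of the abstract form -/
def TWc {B : Type u} [Group B] (C K : Subgroup B) : Prop :=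
  ∃ U : Subgroup B, U ≤ C ∧ (∀ c ∈ C, ∀ u ∈ U, c * u * c⁻¹ ∈ U) ∧ Group.IsNilpotent U ∧
    ∀ c ∈ C, ∃ u ∈ U, u⁻¹ * c ∈ K

/-- the elements of `C` centralizing `x` modulo `Z` -/
def CM {B : Type u} [Group B] (C Z : Subgroup B) (x : B) : Set B := {c | c ∈ C ∧ ⁅c, x⁆ ∈ Z}

/-- `M / Z` is a nontrivial normal elementary abelian `p`-subgroup -/
structure TM {B : Type u} [Group B] (p : ℕ) (C Z M : Subgroup B) : Prop where
  normal : M.Normal
  ZM : Z ≤ M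
  MC : M ≤ C
  ne : ¬ M ≤ Z
  comm : ∀ m ∈ M, ∀ m' ∈ M, ⁅m, m'⁆ ∈ Z
  pow : ∀ m ∈ M, m ^ p ∈ Z

/-- an element `x` of order `p` of `K` fixing a second line, and the group `R₁` -/
structure TR {B : Type u} [Group B] (p : ℕ) (C Z K : Subgroup B) {F : Type} [Field F]
    (φ : F → B) (τ : Fˣ → B) (t : B) (k : ℤ) (r : ℕ) (x : B) (P A : Subgroup B) : Prop
    extends TW p C Z K φ τ t k r where
  xP : x ∈ P
  xp : orderOf x = p
  PK : P ≤ K
  Pel : ∀ y ∈ P, y ^ p = 1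
  Pc : ∀ y ∈ P, ∀ y' ∈ P, Commute y y'
  cK : ∀ y ∈ P, y ≠ 1 → ∀ c ∈ K, Commute c y → c ∈ P
  ZA : Z ≤ A
  AC : A ≤ C
  Ac : ∀ a ∈ A, ∀ a' ∈ A, Commute a a'
  Ap : ∀ a ∈ A, a ^ p ∈ Z
  At : ∀ a ∈ A, t * a * t⁻¹ * (a ^ k)⁻¹ ∈ Z
  Aτ : ∀ l, ∀ a ∈ A, τ l * a * (τ l)⁻¹ ∈ A
  cm : ∀ y ∈ P, y ≠ 1 → ∀ c, c ∈ CM C Z y ↔ ∃ y' ∈ P, ∃ a ∈ A, c = y' * a
  onto : ∀ y ∈ P, y ≠ 1 → ∀ z ∈ Z, ∃ a ∈ A, ⁅a, y⁆ = z
  ker : ∀ y ∈ P, y ≠ 1 → ∀ a ∈ A, Commute a y → a ∈ Z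

end Cfsg.Agent.PT
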