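import Mathlib
import Cfsg.Agent.PT.Defs

set_option autoImplicit false
set_option linter.unusedSectionVars false
set_option linter.unusedVariables false

namespace Cfsg.Agent.PT

open Subgroup MulAction Cfsg.Agent.GT Cfsg.Agent.TT Cfsg.Agent.Perm.TT Cfsg.Agent.Perm.TwoCount
open Cfsg.Agent.KS (St NT)
open scoped MatrixGroups commutatorElement

universe u v

variable {G : Type u} {Ω : Type v} [Group G] [MulAction G Ω] [Finite G] [Finite Ω]
  {E : Ω → Set G} {p : ℕ} {x y x' y' c : Ω} {a b a' b' d g : G}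

namespace B1

theorem two_three {F : Type} [Field F] [CharP F p] (hp : p.Prime) (h5 : 5 ≤ p) : (2 : F) ≠ 0 ∧ (3 : F) ≠ 0 := by
  constructor
  · intro e
    have := Nat.le_of_dvd two_pos ((CharP.cast_eq_zero_iff F p 2).1 (by exact_mod_cast e))
    omega
  · intro e
    have := Nat.le_of_dvd three_pos ((CharP.cast_eq_zero_iff F p 3).1 (by exact_mod_cast e))
    omega

theorem up_comm {F : Type} [Field F] (h2 : (2 : F) ≠ 0) (h3 : (3 : F) ≠ 0) :
    slUp (1 : F) = ⁅dg (Units.mk0 2 h2), slUp (3⁻¹ : F)⁆ := by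
  have e : dg (Units.mk0 2 h2) * slUp (3⁻¹ : F) = slUp (1 + 3⁻¹) * dg (Units.mk0 2 h2) := by
    refine Subtype.ext ?_
    rw [Matrix.SpecialLinearGroup.coe_mul, Matrix.SpecialLinearGroup.coe_mul, coe_slUp, coe_slUp]
    ext i j
    fin_cases i <;> fin_cases j <;> simp [dg, Matrix.mul_apply, Fin.sum_univ_two]
    field_simp
    norm_num
  rw [commutatorElement_def, e, mul_inv_cancel_right, slUp_add, mul_inv_cancel_right]

theorem sq_one {F : Type} [Field F] (h2 : (2 : F) ≠ 0) (h3 : (3 : F) ≠ 0) (ρ : SL(2, F) →* G)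
    (hn : ¬ ∀ A B, Commute (ρ A) (ρ B)) {M : SL(2, F)} (hM : ∀ l ∈ ρ.range, Commute (ρ M) l) : ρ M ^ 2 = 1 := by
  have : ((centralizer (ρ.range : Set G)).comap ρ).Normal := ⟨fun n hn g => by
    have := mem_centralizer_iff.1 hn (ρ g) ⟨g, rfl⟩
    rw [mem_comap, map_mul, map_mul, this, map_inv, mul_inv_cancel_right]
    exact hn⟩
  rcases Cl.sl_normal_le_center_or_eq_top (Or.inr ⟨2, h2, fun e => h3 (by linear_combination e)⟩)
    ((centralizer (ρ.range : Set G)).comap ρ) with k | k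
  · rcases Cl.L2.mem_center_iff_pm.1 (k (mem_centralizer_iff.2 fun l hl => (hM l hl).symm.eq)) with rfl | rfl
    · simp
    · rw [← map_pow]; simp
  · exact absurd (fun A B => mem_centralizer_iff.1 (k.ge (mem_top B)) (ρ A) ⟨A, rfl⟩) hn

/-- The product of `L` with the cyclic group generated by an element centralizing it. -/
def S {L : Subgroup G} {k : G} (h : ∀ l ∈ L, Commute k l) : Subgroup G where
  carrier := {g | ∃ l ∈ L, ∃ n : ℤ, g = l * k ^ n}
  one_mem' := ⟨1, one_mem _, 0, by simp⟩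
  mul_mem' := by
    rintro _ _ ⟨l, hl, n, rfl⟩ ⟨l', hl', n', rfl⟩
    exact ⟨l * l', mul_mem hl hl', n + n', by
      rw [zpow_add, mul_assoc, ← mul_assoc (k ^ n), ((h l' hl').zpow_left n).eq]; group⟩
  inv_mem' := by
    rintro _ ⟨l, hl, n, rfl⟩
    exact ⟨l⁻¹, inv_mem hl, -n, by rw [mul_inv_rev, ← zpow_neg, ((h _ (inv_mem hl)).zpow_left (-n)).eq]⟩

theorem comm_S {L : Subgroup G} {k : G} (h : ∀ l ∈ L, Commute k l) : ⁅S h, S h⁆ ≤ L := by
  refine commutator_le.2 ?_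
  rintro _ ⟨l, hl, n, rfl⟩ _ ⟨l', hl', n', rfl⟩
  have c1 : Commute (k ^ n) (l' * k ^ n') := ((h l' hl').zpow_left n).mul_right (Commute.zpow_zpow_self k n n')
  have c2 : Commute (k ^ n') l⁻¹ := (h _ (inv_mem hl)).zpow_left n'
  have : ⁅l * k ^ n, l' * k ^ n'⁆ = ⁅l, l'⁆ := by
    calc _ = l * (k ^ n * (l' * k ^ n') * (k ^ n)⁻¹) * l⁻¹ * (l' * k ^ n')⁻¹ := by
          rw [commutatorElement_def]; group
      _ = l * l' * (k ^ n' * l⁻¹) * (k ^ n')⁻¹ * l'⁻¹ := by rw [c1.eq]; group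
      _ = _ := by rw [c2.eq, commutatorElement_def]; group
  rw [this, commutatorElement_def]
  exact mul_mem (mul_mem (mul_mem hl hl') (inv_mem hl)) (inv_mem hl')

end B1

namespace TG

variable (h : TG E p)
include h

theorem R_refl (x : Ω) : R E x x :=
  fun a ha b hb => (h.same x x a ha b hb a ha (Commute.refl a)).symm

theorem R_symm (hr : R E x y) : R E y x :=
  fun a ha b hb => (hr b hb a ha).symm

theorem R_smul (g : G) : R E (g • x) (g • y) ↔ R E x y := by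
  have k : ∀ (g : G) {x y : Ω}, R E x y → R E (g • x) (g • y) := fun g x y hr a ha b hb => by
    have h1 := h.conj g⁻¹ _ a ha
    have h2 := h.conj g⁻¹ _ b hb
    rw [inv_smul_smul] at h1 h2
    have := (hr _ h1 _ h2).conj g
    simpa [mul_assoc] using this
  exact ⟨fun hr => by simpa using k g⁻¹ hr, k g⟩

theorem R_iff (ha : a ∈ E x) (hb : b ∈ E y) : R E x y ↔ Commute a b :=
  ⟨fun hr => hr a ha b hb, fun hc a' ha' b' hb' =>
    (h.same y x b hb b' hb' a' ha' (h.same x y a ha a' ha' b hb hc).symm).symm⟩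

theorem ne_one (ha : a ∈ E x) : a ≠ 1 :=
  fun e => by
  have := h.ord x a ha
  have := h.five
  rw [e, orderOf_one] at *
  omega

theorem pow_p (ha : a ∈ E x) : a ^ p = 1 :=
  h.ord x a ha ▸ pow_orderOf_eq_one a

theorem zpow_mem (ha : a ∈ E x) {k : ℤ} (hk : ¬ (p : ℤ) ∣ k) : a ^ k ∈ E x := by
  obtain ⟨n, hn⟩ := mem_powers_iff_mem_zpowers.2 (zpow_mem_zpowers a k)
  have e : a ^ n = a ^ k := hn
  rw [← e]
  refine h.pow x a ha n fun e1 => hk ?_
  rw [← h.ord x a ha, orderOf_dvd_iff_zpow_eq_one, ← e, e1]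

theorem inv_mem (ha : a ∈ E x) : a⁻¹ ∈ E x := by
  rw [← zpow_neg_one]
  refine h.zpow_mem ha fun k => ?_
  have := Int.le_of_dvd one_pos (dvd_neg.1 k)
  have := h.five
  omega

theorem mem_unique (ha : a ∈ E x) (hb : a ∈ E y) : x = y :=
  h.sep x y a ha a hb fun _ _ _ => Iff.rfl

theorem conj_iff : g * a * g⁻¹ ∈ E (g • x) ↔ a ∈ E x :=
  ⟨fun k => by simpa [mul_assoc] using h.conj g⁻¹ _ _ k, h.conj g x a⟩

theorem smul_eq (ha : a ∈ E x) (hb : g * a * g⁻¹ ∈ E y) : g • x = y :=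
  h.mem_unique (h.conj g x a ha) hb

theorem fix_of_commute (ha : a ∈ E x) (hc : Commute g a) : g • x = x :=
  h.smul_eq ha (by rwa [hc.eq, mul_inv_cancel_right])

theorem mem_Z (ha : a ∈ E x) : a ∈ Z E x :=
  subset_closure ha

theorem Z_commute (hr : R E x y) {u v : G} (hu : u ∈ Z E x) (hv : v ∈ Z E y) : Commute u v := by
  have h1 : Z E y ≤ centralizer {u} := (closure_le _).2 fun b hb => by
    have h2 : Z E x ≤ centralizer {b} := (closure_le _).2 fun a ha =>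
      mem_centralizer_singleton_iff.2 (hr a ha b hb).eq
    exact mem_centralizer_singleton_iff.2 (mem_centralizer_singleton_iff.1 (h2 hu)).symm
  exact (mem_centralizer_singleton_iff.1 (h1 hv)).symm

theorem Z_pow {u : G} (hu : u ∈ Z E x) : u ^ p = 1 := by
  induction hu using closure_induction with
  | mem a ha => exact h.pow_p ha
  | one => exact one_pow _
  | mul a b ha hb ia ib => rw [(h.Z_commute (h.R_refl x) ha hb).mul_pow, ia, ib, one_mul]
  | inv a _ ia => rw [inv_pow, ia, inv_one]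

theorem Z_isPGroup (x : Ω) : IsPGroup p (Z E x) :=
  fun u => ⟨1, Subtype.ext (by simpa using h.Z_pow u.2)⟩

theorem Z_ne_bot (x : Ω) : Z E x ≠ ⊥ :=
  fun e => by
  obtain ⟨a, ha⟩ := h.ne x
  exact h.ne_one ha (mem_bot.1 (e ▸ h.mem_Z ha))

theorem Z_conj (g : G) {u : G} : g * u * g⁻¹ ∈ Z E (g • x) ↔ u ∈ Z E x := by
  have k : ∀ (g : G) {x : Ω} {u : G}, u ∈ Z E x → g * u * g⁻¹ ∈ Z E (g • x) := fun g x u hu =>
    (show Z E x ≤ (Z E (g • x)).comap (MulAut.conj g).toMonoidHom from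
      (closure_le _).2 fun a ha => h.mem_Z (h.conj g x a ha)) hu
  exact ⟨fun hu => by simpa [mul_assoc] using k g⁻¹ hu, k g⟩

theorem Z_fix (hr : R E x y) {u : G} (hu : u ∈ Z E x) : u • y = y := by
  obtain ⟨b, hb⟩ := h.ne y
  exact h.fix_of_commute hb (h.Z_commute hr hu (h.mem_Z hb))

theorem CZ_fix (hg : g ∈ CZ E x) : g • x = x := by
  obtain ⟨a, ha⟩ := h.ne x
  exact h.fix_of_commute ha (mem_centralizer_iff.1 hg a (h.mem_Z ha)).symm

theorem CZ_conj (g : G) {k : G} : g * k * g⁻¹ ∈ CZ E (g • x) ↔ k ∈ CZ E x := by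
  have j : ∀ (g : G) {x : Ω} {k : G}, k ∈ CZ E x → g * k * g⁻¹ ∈ CZ E (g • x) := fun g x k hk =>
    mem_centralizer_iff.2 fun u hu => by
      have h1 : g⁻¹ * u * g ∈ Z E x := (h.Z_conj g).1 (by simpa [mul_assoc] using hu)
      have h2 : Commute (g⁻¹ * u * g) k := mem_centralizer_iff.1 hk _ h1
      have := (h2.conj g).eq
      simpa [mul_assoc] using this
  exact ⟨fun hk => by simpa [mul_assoc] using j g⁻¹ hk, j g⟩

theorem mem_CZ : g ∈ CZ E x ↔ ∀ a ∈ E x, Commute g a := by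
  rw [CZ, Z, centralizer_closure, mem_centralizer_iff]
  exact forall₂_congr fun a _ => eq_comm

theorem Z_le_CZ (x : Ω) : Z E x ≤ CZ E x :=
  fun _ hu => h.mem_CZ.2 fun _ ha => h.Z_commute (h.R_refl x) hu (h.mem_Z ha)

theorem Sc_iff {k : ℤ} : Sc E x g k ↔ g • x = x ∧ ∀ a ∈ E x, g * a * g⁻¹ = a ^ k := by
  refine and_congr_right fun _ => ⟨fun j a ha => j a (h.mem_Z ha), fun j u hu => ?_⟩
  induction hu using closure_induction with
  | mem a ha => exact j a ha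
  | one => simp
  | mul a b ha hb ia ib => rw [(h.Z_commute (h.R_refl x) ha hb).mul_zpow, ← ia, ← ib, conj_mul]
  | inv a _ ia => rw [inv_zpow, ← ia, conj_inv]

theorem Sc_conj {k : ℤ} (hs : Sc E x g k) (f : G) : Sc E (f • x) (f * g * f⁻¹) k := by
  refine ⟨by rw [mul_smul, mul_smul, inv_smul_smul, hs.1], fun u hu => ?_⟩
  have h1 : f⁻¹ * u * f ∈ Z E x := (h.Z_conj f).1 (by simpa [mul_assoc] using hu)
  calc _ = f * (g * (f⁻¹ * u * f) * g⁻¹) * f⁻¹ := by group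
    _ = (f * (f⁻¹ * u * f) * f⁻¹) ^ k := by rw [hs.2 _ h1, conj_zpow]
    _ = _ := by congr 1; group

theorem Sc_mul {k k' : ℤ} {g' : G} (hs : Sc E x g k) (hs' : Sc E x g' k') :
    Sc E x (g * g') (k * k') := by
  refine ⟨by rw [mul_smul, hs'.1, hs.1], fun u hu => ?_⟩
  calc _ = g * (g' * u * g'⁻¹) * g⁻¹ := by group
    _ = _ := by rw [hs'.2 u hu, ← conj_zpow, hs.2 u hu, zpow_mul]

theorem Sc_congr {k k' : ℤ} (hs : Sc E x g k) (hk : k ≡ k' [ZMOD p]) : Sc E x g k' :=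
  ⟨hs.1, fun u hu => (hs.2 u hu).trans (zpow_eq_zpow_iff_modEq.2
    (hk.of_dvd (Int.natCast_dvd_natCast.2 (orderOf_dvd_of_pow_eq_one (h.Z_pow hu)))))⟩

theorem Sc_uniq {k k' : ℤ} (hs : Sc E x g k) (hs' : Sc E x g k') : k ≡ k' [ZMOD p] := by
  obtain ⟨a, ha⟩ := h.ne x
  rw [← h.ord x a ha, ← zpow_eq_zpow_iff_modEq, ← hs.2 a (h.mem_Z ha), hs'.2 a (h.mem_Z ha)]

theorem Sc_div {k : ℤ} {g' : G} (hs : Sc E x g k) (hs' : Sc E x g' k) : g * g'⁻¹ ∈ CZ E x :=
  mem_centralizer_iff.2 fun u hu => by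
  have h1 : g'⁻¹ * u * g' ∈ Z E x := (h.Z_conj g').1 (by rw [hs'.1]; simpa [mul_assoc] using hu)
  have h2 := (hs.2 _ h1).trans (hs'.2 _ h1).symm
  calc u * (g * g'⁻¹) = g' * (g'⁻¹ * u * g') * g'⁻¹ * (g * g'⁻¹) := by group
    _ = _ := by rw [← h2]; group

theorem Sc_one : Sc E x g 1 ↔ g ∈ CZ E x := by
  rw [h.Sc_iff]
  refine ⟨fun j => h.mem_CZ.2 fun a ha => mul_inv_eq_iff_eq_mul.1 ((j.2 a ha).trans (zpow_one a)),
    fun j => ⟨h.CZ_fix j, fun a ha => ?_⟩⟩
  rw [(h.mem_CZ.1 j a ha).eq, mul_inv_cancel_right, zpow_one]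

theorem exists_opp (x : Ω) : ∃ y, ¬ R E x y := by
  obtain ⟨x₀, y₀, k⟩ := h.nc
  obtain ⟨g, rfl⟩ := h.tr x₀ x
  exact ⟨g • y₀, fun j => k ((h.R_smul g).1 j)⟩

theorem mem_commutator (ha : a ∈ E x) (hb : b ∈ E y) (hr : ¬ R E x y) :
    a ∈ ⁅closure ({a, b} : Set G), closure ({a, b} : Set G)⁆ := by
  obtain ⟨F, _, _, _, ρ, μ, -, e1, -, e3⟩ := (h.pair x y a ha b hb).resolve_left fun k => hr ((h.R_iff ha hb).2 k)
  obtain ⟨h2, h3⟩ := B1.two_three (F := F) h.prime h.five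
  rw [← e3, ← e1, B1.up_comm h2 h3, map_commutatorElement]
  exact commutator_mem_commutator ⟨_, rfl⟩ ⟨_, rfl⟩

/-- A root element `a' = u * k` with `u ∈ ⟨a, d⟩`, `k` a `p`-element centralizing `a` and `d`. -/
theorem eq_one_of_prod (ha : a ∈ E x) (hd : d ∈ E y) (hr : ¬ R E x y) {u k : G}
    (hu : u ∈ closure ({a, d} : Set G)) (h1 : Commute k a) (h2 : Commute k d) (hk : k ^ p = 1)
    (ha' : u * k ∈ E x') (hn : ¬ Commute (u * k) d) : k = 1 := by
  have kL : ∀ l ∈ closure ({a, d} : Set G), Commute k l := fun l hl =>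
    (mem_centralizer_singleton_iff.1 ((show closure ({a, d} : Set G) ≤ centralizer {k} from (closure_le _).2 (by
      rintro _ (rfl | rfl)
      · exact mem_centralizer_singleton_iff.2 h1.symm.eq
      · exact mem_centralizer_singleton_iff.2 h2.symm.eq)) hl)).symm
  have m1 := h.mem_commutator ha' hd fun j => hn ((h.R_iff ha' hd).1 j)
  have m2 : closure ({u * k, d} : Set G) ≤ B1.S kL := (closure_le _).2 (by
    rintro _ (rfl | rfl)
    · exact ⟨u, hu, 1, by rw [zpow_one]⟩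
    · exact ⟨_, subset_closure (Or.inr rfl), 0, by rw [zpow_zero, mul_one]⟩)
  have m3 : k ∈ closure ({a, d} : Set G) :=
    (Subgroup.mul_mem_cancel_left _ hu).1 (B1.comm_S kL (commutator_mono m2 m2 m1))
  obtain ⟨F, _, _, _, ρ, μ, -, e1, e2, e3⟩ := (h.pair x y a ha d hd).resolve_left fun j => hr ((h.R_iff ha hd).2 j)
  obtain ⟨t2, t3⟩ := B1.two_three (F := F) h.prime h.five
  rw [← e3] at m3 kL
  obtain ⟨M, rfl⟩ := m3
  have o2 := orderOf_dvd_of_pow_eq_one (B1.sq_one t2 t3 ρ (fun j => hr ((h.R_iff ha hd).2 (e1 ▸ e2 ▸ j _ _))) kL)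
  have := Nat.eq_one_of_dvd_coprimes ((Nat.coprime_primes Nat.prime_two h.prime).2 (by have := h.five; omega)) o2
    (orderOf_dvd_of_pow_eq_one hk)
  exact orderOf_eq_one_iff.1 this

theorem lemA (ha : a ∈ E x) (hb : b ∈ E y) (hc : Commute a b) (h1 : a * b ≠ 1) (hd : d ∈ E c)
    (hcd : Commute d (a * b)) : Commute d a := by
  by_contra hn
  refine h1 (h.eq_one_of_prod (u := a⁻¹) (x' := y) ha hd (fun j => hn ((h.R_iff ha hd).1 j).symm)
    (Subgroup.inv_mem _ (subset_closure (Or.inl rfl))) ((Commute.refl a).mul_left hc.symm) hcd.symm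
    (by rw [hc.mul_pow, h.pow_p ha, h.pow_p hb, one_mul]) (by rwa [inv_mul_cancel_left]) fun j => hn ?_)
  rw [inv_mul_cancel_left] at j
  simpa using hcd.mul_right j.symm.inv_right

theorem same_of_mul (ha : a ∈ E x) (hb : b ∈ E y) (hc : Commute a b) (hab : a * b ∈ E c) :
    x = c ∧ y = c := by
  have k : ∀ {x y : Ω} {a b : G}, a ∈ E x → b ∈ E y → Commute a b → a * b ∈ E c → x = c :=
    fun {x y a b} ha hb hc hab => h.sep x c a ha _ hab fun z d hd =>
      ⟨fun j => (h.lemA hab (h.inv_mem hb) (hc.mul_left (Commute.refl b)).inv_right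
          (by rw [mul_inv_cancel_right]; exact h.ne_one ha) hd (by rw [mul_inv_cancel_right]; exact j.symm)).symm,
        fun j => (h.lemA ha hb hc (h.ne_one hab) hd j.symm).symm⟩
  exact ⟨k ha hb hc hab, k hb ha hc.symm (hc.eq ▸ hab)⟩

end TG

end Cfsg.Agent.PT
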