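import Mathlib
import Cfsg.Agent.PT.B1
import Cfsg.Agent.Cl.LinearBasic

/-! Matrix facts in `SL₂` and the construction of charts. -/

set_option autoImplicit false
set_option linter.unusedSectionVars false
set_option linter.unusedVariables false

namespace Cfsg.Agent.PT

open Subgroup MulAction Cfsg.Agent.GT Cfsg.Agent.TT Cfsg.Agent.Perm.TT Cfsg.Agent.Perm.TwoCount
open Cfsg.Agent.KS (St NT)
open scoped MatrixGroups commutatorElement

universe u v

variable {G : Type u} {Ω : Type v} [Group G] [MulAction G Ω] [Finite G] [Finite Ω]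
  {E : Ω → Set G} {p : ℕ} {x y x' y' c : Ω} {a b a' b' d g : G}

variable {F : Type} [Field F] {ρ : SL(2, F) →* G} {s μ : F} {l : Fˣ}

namespace B2

variable {K : Type*} [Field K]

theorem coe_dg (l : Kˣ) : (dg l).1 = !![(l : K), 0; 0, (l : K)⁻¹] := by simp [dg]

theorem coe_wy {s : K} (hs : s ≠ 0) : (wy s).1 = !![0, s; -s⁻¹, 0] := by
  ext i j
  fin_cases i <;> fin_cases j <;> simp [wy, coe_slUp, coe_slLo, Matrix.mul_apply, hs]

theorem det (M : SL(2, K)) : M.1 0 0 * M.1 1 1 - M.1 0 1 * M.1 1 0 = 1 := by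
  rw [← Matrix.det_fin_two]; exact M.2

theorem ext {M N : SL(2, K)} (h0 : M.1 0 0 = N.1 0 0) (h1 : M.1 0 1 = N.1 0 1) (h2 : M.1 1 0 = N.1 1 0)
    (h3 : M.1 1 1 = N.1 1 1) : M = N := by
  ext i j
  fin_cases i <;> fin_cases j
  exacts [h0, h1, h2, h3]

theorem mul_ap (M N : SL(2, K)) (i j : Fin 2) : (M * N).1 i j = M.1 i 0 * N.1 0 j + M.1 i 1 * N.1 1 j := by
  simp [Matrix.mul_apply]

theorem neg_ap (M : SL(2, K)) (i j : Fin 2) : (-M).1 i j = -M.1 i j := rfl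

theorem coe_inv (M : SL(2, K)) : (M⁻¹).1 = !![M.1 1 1, -M.1 0 1; -M.1 1 0, M.1 0 0] := by
  rw [Matrix.SpecialLinearGroup.SL2_inv_expl]; rfl

/-- Conjugation by `diag (s, 1)`. -/
def tw0 (s : Kˣ) (M : SL(2, K)) : SL(2, K) :=
  ⟨!![M.1 0 0, s * M.1 0 1; M.1 1 0 / s, M.1 1 1], by
    rw [Matrix.det_fin_two_of]; refine .trans ?_ (det M); field_simp⟩

theorem coe_tw0 (s : Kˣ) (M : SL(2, K)) : (tw0 s M).1 = !![M.1 0 0, s * M.1 0 1; M.1 1 0 / s, M.1 1 1] := rfl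

/-- The same as a homomorphism. -/
def tw (s : Kˣ) : SL(2, K) →* SL(2, K) :=
  MonoidHom.mk' (tw0 s) fun M N => by
    apply ext <;> simp only [mul_ap, coe_tw0] <;> simp [Matrix.mul_apply] <;> field_simp

theorem coe_tw (s : Kˣ) (M : SL(2, K)) : (tw s M).1 = !![M.1 0 0, s * M.1 0 1; M.1 1 0 / s, M.1 1 1] := rfl

theorem tw_up (s : Kˣ) (t : K) : tw s (slUp t) = slUp (s * t) := by apply ext <;> simp [coe_tw, coe_slUp]

theorem tw_lo (s : Kˣ) (t : K) : tw s (slLo t) = slLo (t / s) := by apply ext <;> simp [coe_tw, coe_slLo]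

theorem tw_dg (s l : Kˣ) : tw s (dg l) = dg l := by apply ext <;> simp [coe_tw, coe_dg]

theorem tw_neg (s : Kˣ) : tw s (-1) = -1 := by apply ext <;> simp [coe_tw]

theorem tw_tw (s : Kˣ) (M : SL(2, K)) : tw s (tw s⁻¹ M) = M := by apply ext <;> simp [coe_tw]

theorem up_zpow (t : K) (k : ℤ) : slUp t ^ k = slUp (k * t) := by
  cases k <;> simp [slUp_pow, ← slUp_neg] <;> ring_nf

theorem lo_zpow (t : K) (k : ℤ) : slLo t ^ k = slLo (k * t) := by
  cases k <;> simp [slLo_pow, ← slLo_neg] <;> ring_nf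

end B2

section
open B2

theorem dg_up {K : Type*} [Field K] (l : Kˣ) (s : K) :
    dg l * slUp s * (dg l)⁻¹ = slUp ((l : K) ^ 2 * s) := by
  rw [mul_inv_eq_iff_eq_mul]
  apply B2.ext <;> simp [mul_ap, coe_dg, coe_slUp]
  field_simp

theorem dg_lo {K : Type*} [Field K] (l : Kˣ) (s : K) :
    dg l * slLo s * (dg l)⁻¹ = slLo (((l⁻¹ : Kˣ) : K) ^ 2 * s) := by
  rw [mul_inv_eq_iff_eq_mul]
  apply B2.ext <;> simp [mul_ap, coe_dg, coe_slLo]
  field_simp

theorem dg_mul {K : Type*} [Field K] (l l' : Kˣ) : dg (l * l') = dg l * dg l' := by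
  apply B2.ext <;> simp [mul_ap, coe_dg, mul_comm]

theorem dg_one {K : Type*} [Field K] : dg (1 : Kˣ) = 1 := by
  apply B2.ext <;> simp [coe_dg]

theorem dg_neg {K : Type*} [Field K] (l : Kˣ) : dg (-l) = -dg l := by
  apply B2.ext <;> simp [coe_dg, neg_ap]

theorem wy_sq {K : Type*} [Field K] {s : K} (hs : s ≠ 0) : wy s * wy s = -1 := by
  apply B2.ext <;> simp [mul_ap, coe_wy hs, hs]

theorem wy_neg {K : Type*} [Field K] {s : K} (hs : s ≠ 0) : wy (-s) = -wy s := by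
  apply B2.ext <;> simp [coe_wy hs, coe_wy (neg_ne_zero.2 hs), neg_ap]

theorem wy_div {K : Type*} [Field K] (l : Kˣ) {s : K} (hs : s ≠ 0) :
    wy ((l : K) * s) * (wy s)⁻¹ = dg l := by
  rw [mul_inv_eq_iff_eq_mul]
  apply B2.ext <;> simp [mul_ap, coe_wy hs, coe_wy (mul_ne_zero l.ne_zero hs), coe_dg]
  ring

theorem wy_dg {K : Type*} [Field K] (l : Kˣ) {s : K} (hs : s ≠ 0) :
    wy s * dg l * (wy s)⁻¹ = dg l⁻¹ := by
  rw [mul_inv_eq_iff_eq_mul]
  apply B2.ext <;> simp [mul_ap, coe_wy hs, coe_dg, mul_comm]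

theorem wy_up {K : Type*} [Field K] {s : K} (hs : s ≠ 0) (t : K) :
    wy s * slUp t * (wy s)⁻¹ = slLo (-(t / s ^ 2)) := by
  rw [mul_inv_eq_iff_eq_mul]
  apply B2.ext <;> simp [mul_ap, coe_wy hs, coe_slUp, coe_slLo]
  field_simp

theorem wy_lo {K : Type*} [Field K] {s : K} (hs : s ≠ 0) (t : K) :
    wy s * slLo t * (wy s)⁻¹ = slUp (-(s ^ 2 * t)) := by
  rw [mul_inv_eq_iff_eq_mul]
  apply B2.ext <;> simp [mul_ap, coe_wy hs, coe_slUp, coe_slLo]
  field_simp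

namespace B2

theorem cast_ne (h : TG E p) [CharP F p] {k : ℕ} (h0 : k ≠ 0) (h4 : k ≤ 4) : (k : F) ≠ 0 := fun e => by
  have := Nat.le_of_dvd (Nat.pos_of_ne_zero h0) ((CharP.cast_eq_zero_iff F p k).1 e)
  have := h.five
  omega

theorem two_ne (h : TG E p) [CharP F p] : (2 : F) ≠ 0 := by exact_mod_cast cast_ne h (k := 2) (by decide) (by decide)

theorem three_ne (h : TG E p) [CharP F p] : (3 : F) ≠ 0 := by exact_mod_cast cast_ne h (k := 3) (by decide) (by decide)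

variable (h : TG E p) [CharP F p] (hu : ρ (slUp 1) ∈ E x)
include h hu

theorem ker {M : SL(2, F)} (hM : ρ M = 1) : M = 1 ∨ M = -1 := by
  rcases Cl.sl_normal_le_center_or_eq_top (.inr ⟨(2 : F), two_ne h, fun e => three_ne (F := F) h
    (by linear_combination e)⟩) ρ.ker with k | k
  · have c := fun N => mem_center_iff.1 (k hM) N
    have e1 := congrArg (·.1 0 0) (c (slUp 1))
    have e2 := congrArg (·.1 0 1) (c (slUp 1))
    have e3 := congrArg (·.1 1 1) (c (slLo 1))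
    simp [mul_ap, coe_slUp, coe_slLo] at e1 e2 e3
    have e4 := det M
    have e5 : M.1 1 1 = M.1 0 0 := by linear_combination e2
    rw [e1, e5, mul_zero, sub_zero] at e4
    rcases mul_self_eq_one_iff.1 e4 with e | e
    · left; apply ext <;> simp [*]
    · right; apply ext <;> simp [*]
  · exact absurd (k ▸ mem_top _ : slUp 1 ∈ ρ.ker) (h.ne_one hu)

theorem eq_pm {M N : SL(2, F)} (e : ρ M = ρ N) : M = N ∨ M = -N :=
  (ker h hu (M := M * N⁻¹) (by rw [map_mul, map_inv, e, mul_inv_cancel])).imp mul_inv_eq_one.1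
    fun k => by rw [mul_inv_eq_iff_eq_mul.1 k, neg_one_mul]

theorem up_inj {s' : F} (e : ρ (slUp s) = ρ (slUp s')) : s = s' := by
  rcases eq_pm h hu e with k | k
  · exact slUp_injective k
  · have := congrArg (·.1 0 0) k
    simp only [neg_ap, coe_slUp, Matrix.of_apply, Matrix.cons_val', Matrix.cons_val_zero] at this
    exact absurd (by linear_combination this) (two_ne (F := F) h)

theorem sq_mem {t : F} (ht : t ≠ 0) : ρ (slUp (t ^ 2)) ∈ E (ρ (dg (Units.mk0 t ht)) • x) := by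
  have := h.conj (ρ (dg (Units.mk0 t ht))) x _ hu
  rwa [← map_inv, ← map_mul, ← map_mul, dg_up, mul_one] at this

/-- A root element commuting with one element of the root group commutes with all of them. -/
theorem comm_all (hd : d ∈ E c) (hc : Commute d (ρ (slUp 1))) (r : F) : Commute d (ρ (slUp r)) := by
  have h2 := two_ne (F := F) h
  let X : AddSubgroup F :=
    { carrier := {r | Commute d (ρ (slUp r))}
      zero_mem' := by simp [slUp_zero]
      add_mem' := fun {a b} ha hb => by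
        rw [Set.mem_setOf_eq, slUp_add, map_mul]; exact Commute.mul_right ha hb
      neg_mem' := fun {a} ha => by rw [Set.mem_setOf_eq, slUp_neg, map_inv]; exact Commute.inv_right ha }
  have hn : ∀ n : ℕ, (n : F) ∈ X := fun n => by simpa using X.nsmul_mem (x := 1) hc n
  have k1 : ∀ u v : F, u ^ 2 - v ^ 2 ≠ 0 → u ^ 2 - v ^ 2 ∈ X → u ^ 2 ∈ X := fun u v h0 hm => by
    by_cases u0 : u = 0
    · simp [u0]
    by_cases v0 : v = 0
    · simpa [v0] using hm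
    have e : ρ (slUp (u ^ 2)) * (ρ (slUp (v ^ 2)))⁻¹ = ρ (slUp (u ^ 2 - v ^ 2)) := by
      rw [sub_eq_add_neg, slUp_add, slUp_neg, map_mul, map_inv]
    refine h.lemA (sq_mem h hu u0) (h.inv_mem (sq_mem h hu v0)) (Commute.inv_right ?_) ?_ hd (e ▸ hm)
    · rw [Commute, SemiconjBy, ← map_mul, ← map_mul, ← slUp_add, ← slUp_add, add_comm]
    · rw [e]
      exact fun k => h0 (up_inj h hu (by rw [k, slUp_zero, map_one]))
  have k2 : ∀ t : F, 3 * t ^ 2 ∈ X := fun t => by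
    by_cases t0 : t = 0
    · simp [t0]
    have e1 : (t⁻¹ + t) ^ 2 - (t⁻¹ - t) ^ 2 = ((4 : ℕ) : F) := by push_cast; field_simp; ring
    have e2 : (t⁻¹ + 2 * t) ^ 2 - (t⁻¹ - 2 * t) ^ 2 = ((8 : ℕ) : F) := by push_cast; field_simp; ring
    have a1 := k1 _ _ (e1 ▸ cast_ne h (by decide) le_rfl) (e1 ▸ hn 4)
    have a2 := k1 _ _ (e2 ▸ fun e => pow_ne_zero 3 h2 (by rw [← e]; norm_num)) (e2 ▸ hn 8)
    convert X.sub_mem (X.sub_mem a2 a1) (hn 2) using 1
    push_cast; field_simp; ring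
  have := three_ne (F := F) h
  convert X.sub_mem (k2 ((r / 3 + 1) / 2)) (k2 ((r / 3 - 1) / 2)) using 1
  change _ ↔ Commute d (ρ (slUp _))
  congr! 3
  field_simp; ring

theorem same (hs : s ≠ 0) (hm : ρ (slUp s) ∈ E y) : x = y := by
  refine h.sep x y _ hu _ hm fun z d hd => ⟨fun k => (comm_all h hu hd k.symm s).symm, fun k => ?_⟩
  have := comm_all (ρ := ρ.comp (tw (Units.mk0 s hs))) (x := y) h (by simpa [tw_up] using hm) hd
    (by simpa [tw_up] using k.symm) s⁻¹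
  simpa [tw_up, hs] using this.symm

theorem sq_mem' {t : F} (ht : t ≠ 0) : ρ (slUp (t ^ 2)) ∈ E x :=
  same h hu (pow_ne_zero 2 ht) (sq_mem h hu ht) ▸ sq_mem h hu ht

end B2

theorem TG.exists_ch (h : TG E p) (ha : a ∈ E x) (hd : d ∈ E y) (hr : ¬ R E x y) :
    ∃ (F : Type) (_ : Field F) (ρ : SL(2, F) →* G) (μ : F), Ch E p ρ x y ∧ μ ≠ 0 ∧
      ρ (slUp 1) = a ∧ ρ (slLo μ) = d ∧ ρ.range = closure {a, d} := by
  obtain ⟨F, _, _, _, ρ, μ, h0, rfl, rfl, e⟩ := (h.pair x y a ha d hd).resolve_left (mt (h.R_iff ha hd).2 hr)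
  refine ⟨F, inferInstance, ρ, μ, ⟨inferInstance, inferInstance, hr, fun s hs => sq_mem' h ha hs, fun s hs => ?_⟩,
    h0, rfl, rfl, e⟩
  have e' : ∀ t, ρ.comp (MulAut.conj (wy 1)).toMonoidHom (slUp t) = ρ (slLo (-t)) := fun t => by
    simpa using congrArg ρ (wy_up one_ne_zero t)
  have h1 : ρ.comp (MulAut.conj (wy 1)).toMonoidHom (slUp 1) ∈ E (ρ (wy 1) • x) := by
    simpa using h.conj (ρ (wy 1)) x _ ha
  rw [← e', ← B2.same (y := y) h h1 (neg_ne_zero.2 h0) (by rwa [e', neg_neg])]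
  exact sq_mem' h h1 hs

end

open B2 (mul_ap neg_ap coe_dg coe_wy two_ne eq_pm tw tw_up tw_lo tw_dg tw_neg tw_tw up_zpow lo_zpow)

theorem B2.cj (ρ : SL(2, F) →* G) (M N : SL(2, F)) : ρ M * ρ N * (ρ M)⁻¹ = ρ (M * N * M⁻¹) := by simp

namespace Ch

variable (h : TG E p) (hc : Ch E p ρ x y)
include h hc

theorem up_one : ρ (slUp 1) ∈ E x := by
  simpa using hc.up 1 one_ne_zero

theorem ker {M : SL(2, F)} (hM : ρ M = 1) : M = 1 ∨ M = -1 :=
  haveI := hc.char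
  B2.ker h (hc.up_one h) hM

theorem lo_one : ρ (slLo (-1)) ∈ E y := by
  simpa using hc.lo 1 one_ne_zero

theorem B2_two : (2 : F) ≠ 0 :=
  haveI := hc.char
  two_ne h

theorem B2_pm {M N : SL(2, F)} (e : ρ M = ρ N) : M = N ∨ M = -N :=
  haveI := hc.char
  eq_pm h (hc.up_one h) e

theorem upZ (s : F) : ρ (slUp s) ∈ Z E x := by
  have k : ∀ t : F, ρ (slUp (t ^ 2)) ∈ Z E x := fun t => by
    by_cases t0 : t = 0
    · simp [t0, slUp_zero]
    · exact h.mem_Z (hc.up t t0)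
  have := hc.B2_two h
  rw [show s = ((s + 1) / 2) ^ 2 + -((s - 1) / 2) ^ 2 by field_simp; ring, slUp_add, slUp_neg, map_mul, map_inv]
  exact mul_mem (k _) (inv_mem (k _))

theorem flip : ∃ ρ' : SL(2, F) →* G, Ch E p ρ' y x ∧ (∀ s, ρ' (slUp s) = ρ (slLo (-s))) ∧
    (∀ s, ρ' (slLo s) = ρ (slUp (-s))) ∧ (∀ l, ρ' (dg l) = ρ (dg l⁻¹)) ∧ ρ' (-1) = ρ (-1) ∧
    ρ'.range = ρ.range := by
  have e1 : ∀ t, ρ.comp (MulAut.conj (wy 1)).toMonoidHom (slUp t) = ρ (slLo (-t)) := fun t => by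
    simpa using congrArg ρ (wy_up one_ne_zero t)
  have e2 : ∀ t, ρ.comp (MulAut.conj (wy 1)).toMonoidHom (slLo t) = ρ (slUp (-t)) := fun t => by
    simpa using congrArg ρ (wy_lo one_ne_zero t)
  refine ⟨_, ⟨hc.fin, hc.char, fun k => hc.opp (h.R_symm k), fun s hs => e1 _ ▸ hc.lo s hs, fun s hs => ?_⟩, e1, e2,
    fun l => congrArg ρ (wy_dg l one_ne_zero), congrArg ρ (by simp), ?_⟩
  · rw [e2, neg_neg]; exact hc.up s hs
  · rw [MonoidHom.range_comp, MonoidHom.range_eq_top.2 (MulAut.conj (wy (1 : F))).surjective, ← MonoidHom.range_eq_map]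

theorem loZ (s : F) : ρ (slLo s) ∈ Z E y := by
  obtain ⟨ρ', k, e, -⟩ := hc.flip h
  simpa [e] using k.upZ h (-s)

theorem up_inj {s' : F} (e : ρ (slUp s) = ρ (slUp s')) : s = s' :=
  haveI := hc.char
  B2.up_inj h (hc.up_one h) e

theorem lo_inj {s' : F} (e : ρ (slLo s) = ρ (slLo s')) : s = s' := by
  obtain ⟨ρ', k, e', -⟩ := hc.flip h
  exact neg_injective (k.up_inj h (by rw [e', e', neg_neg, neg_neg, e]))

theorem br_iff (hs : s ≠ 0) : Br (ρ (slUp s)) (ρ (slLo μ)) ↔ s * μ = -1 := by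
  rw [Br, ← map_mul, ← map_mul, ← map_mul, ← map_mul]
  refine ⟨fun e => ?_, fun e => congrArg ρ ?_⟩
  · rcases hc.B2_pm h e with k | k
    · have := congrArg (·.1 0 1) k
      simp [mul_ap, coe_slUp, coe_slLo] at this
      rcases this with k | k
      · linear_combination k
      · exact absurd k hs
    · have := congrArg (·.1 0 0) k
      simp only [mul_ap, neg_ap, coe_slUp, coe_slLo] at this
      simp at this
      exact mul_left_cancel₀ (hc.B2_two h) (by linear_combination this)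
  · apply B2.ext <;> simp [mul_ap, coe_slUp, coe_slLo]
    all_goals grind

theorem nn_eq (s : F) : nn (ρ (slUp s)) (ρ (slLo (-s⁻¹))) = ρ (wy s) := by
  rw [nn, wy, map_mul, map_mul]

theorem zz_eq (hs : s ≠ 0) : zz (ρ (slUp s)) (ρ (slLo (-s⁻¹))) = ρ (-1) := by
  rw [zz, hc.nn_eq h, ← map_mul, wy_sq hs]

theorem wy_swap (hs : s ≠ 0) : ρ (wy s) • x = y ∧ ρ (wy s) • y = x :=
  ⟨h.smul_eq (hc.up_one h) (by rw [B2.cj, wy_up hs]; simpa using hc.lo _ (inv_ne_zero hs)),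
    h.smul_eq (hc.lo_one h) (by rw [B2.cj, wy_lo hs]; simpa using hc.up _ hs)⟩

theorem lo_mem (hs : s ≠ 0) (hm : ρ (slUp s) ∈ E x) : ρ (slLo (-s⁻¹)) ∈ Pa E (ρ (slUp s)) y := by
  refine ⟨?_, (hc.br_iff h hs).2 (by simp [hs])⟩
  have := h.conj (ρ (wy s)) x _ hm
  rwa [B2.cj, wy_up hs, (hc.wy_swap h hs).1, show s / s ^ 2 = s⁻¹ by field_simp] at this

theorem up_mem (hs : μ ≠ 0) (hm : ρ (slLo μ) ∈ E y) : ρ (slUp (-μ⁻¹)) ∈ E x := by
  have := h.conj (ρ (wy μ⁻¹)) y _ hm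
  rwa [B2.cj, wy_lo (inv_ne_zero hs), (hc.wy_swap h (inv_ne_zero hs)).2, show μ⁻¹ ^ 2 * μ = μ⁻¹ by field_simp] at this

theorem B2_comm {M : SL(2, F)} (k : Commute (ρ M) (ρ (slUp 1))) : M.1 1 0 = 0 ∧ M.1 1 1 = M.1 0 0 := by
  have h2 := hc.B2_two h
  rcases hc.B2_pm h (M := M * slUp 1) (N := slUp 1 * M) (by rw [map_mul, map_mul, k.eq]) with e | e
  · have e1 := congrArg (·.1 0 0) e
    have e2 := congrArg (·.1 0 1) e
    simp [mul_ap, coe_slUp] at e1 e2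
    exact ⟨e1, by linear_combination -e2⟩
  · have e1 := congrArg (·.1 1 0) e
    have e2 := congrArg (·.1 0 0) e
    simp only [mul_ap, neg_ap, coe_slUp] at e1 e2
    simp at e1 e2
    have a1 : M.1 1 0 = 0 := mul_left_cancel₀ h2 (by linear_combination e1)
    have a2 : M.1 0 0 = 0 := mul_left_cancel₀ h2 (by linear_combination e2 - a1)
    have := B2.det M
    simp [a1, a2] at this

theorem fix_x {M : SL(2, F)} : ρ M • x = x ↔ M.1 1 0 = 0 := by
  refine ⟨fun e => ?_, fun e => h.smul_eq (hc.up_one h) ?_⟩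
  · have k := h.conj (ρ M) x _ (hc.up_one h)
    rw [e, B2.cj] at k
    have := (hc.B2_comm h (h.R_refl x _ k _ (hc.up_one h))).1
    simp only [mul_ap, B2.coe_inv, coe_slUp] at this
    simp at this
    exact pow_eq_zero_iff two_ne_zero |>.1 (by linear_combination -this)
  · have hd := B2.det M
    rw [e, mul_zero, sub_zero] at hd
    rw [B2.cj, show M * slUp 1 * M⁻¹ = slUp (M.1 0 0 ^ 2) by
      rw [mul_inv_eq_iff_eq_mul]
      apply B2.ext <;> simp [mul_ap, coe_slUp, e]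
      grind]
    exact hc.up _ (left_ne_zero_of_mul_eq_one hd)

theorem fix_y {M : SL(2, F)} : ρ M • y = y ↔ M.1 0 1 = 0 := by
  have e : ((wy 1)⁻¹ * M * wy 1).1 1 0 = -M.1 0 1 := by
    simp only [mul_ap, B2.coe_inv, coe_wy (one_ne_zero (α := F))]
    simp
  rw [← neg_eq_zero, ← e, ← hc.fix_x h, map_mul, map_mul, map_inv, mul_smul, mul_smul, (hc.wy_swap h one_ne_zero).1,
    inv_smul_eq_iff, (hc.wy_swap h one_ne_zero).1]

theorem dg_fix (l : Fˣ) : ρ (dg l) • x = x ∧ ρ (dg l) • y = y :=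
  ⟨(hc.fix_x h).2 (by simp [coe_dg]), (hc.fix_y h).2 (by simp [coe_dg])⟩

theorem up_sq_mem (hm : ρ (slUp s) ∈ E x) {t : F} (ht : t ≠ 0) : ρ (slUp (t ^ 2 * s)) ∈ E x := by
  have := h.conj (ρ (dg (Units.mk0 t ht))) x _ hm
  rwa [B2.cj, dg_up, (hc.dg_fix h _).1] at this

theorem bruhat (M : SL(2, F)) : ρ M • y = x ∨ ∃ s, ρ M • y = ρ (slUp s) • y := by
  by_cases k : M.1 1 1 = 0
  · have := (hc.fix_y h (M := wy 1 * M)).2 (by simp [mul_ap, coe_wy (one_ne_zero (α := F)), k])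
    rw [map_mul, mul_smul] at this
    exact .inl (MulAction.injective _ (this.trans (hc.wy_swap h one_ne_zero).1.symm))
  · have := (hc.fix_y h (M := slUp (-(M.1 0 1 / M.1 1 1)) * M)).2 (by simp [mul_ap, coe_slUp, k])
    rw [map_mul, mul_smul, slUp_neg, map_inv, inv_smul_eq_iff] at this
    exact .inr ⟨_, this⟩

theorem up_opp (hs : s ≠ 0) : ¬ R E (ρ (slUp s) • y) y := fun k => by
  have := (hc.fix_y h).1 (B2.cj ρ _ _ ▸ h.Z_fix k (h.mem_Z (h.conj (ρ (slUp s)) y _ (hc.lo_one h))))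
  simp only [mul_ap, B2.coe_inv, coe_slUp, coe_slLo] at this
  simp at this
  exact hs (pow_eq_zero_iff two_ne_zero |>.1 (by linear_combination this))

theorem mem_Z {M : SL(2, F)} (hM : ρ M ∈ Z E x) : ∃ s, ρ M = ρ (slUp s) := by
  obtain ⟨e1, e2⟩ := hc.B2_comm h (h.Z_commute (h.R_refl x) hM (hc.upZ h 1))
  have hd := B2.det M
  rw [e1, e2, mul_zero, sub_zero] at hd
  rcases mul_self_eq_one_iff.1 hd with e | e
  · exact ⟨M.1 0 1, congrArg ρ (by apply B2.ext <;> simp [coe_slUp, *])⟩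
  · have e3 : M = -1 * slUp (-M.1 0 1) := by
      rw [neg_one_mul]
      apply B2.ext <;> simp only [neg_ap, coe_slUp] <;> simp [*]
    have k := h.Z_pow (mul_mem hM (inv_mem (hc.upZ h (-M.1 0 1))))
    have e4 := congrArg ρ e3
    rw [map_mul] at e4
    rw [e4, mul_inv_cancel_right, ← map_pow, (h.prime.odd_of_ne_two (by have := h.five; omega)).neg_one_pow] at k
    exact ⟨_, by rw [e4, k, one_mul]⟩

theorem mem_Z' {M : SL(2, F)} (hM : ρ M ∈ Z E y) : ∃ s, ρ M = ρ (slLo s) := by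
  obtain ⟨ρ', k, e, -, -, -, e'⟩ := hc.flip h
  obtain ⟨N, hN⟩ : ρ M ∈ ρ'.range := e' ▸ ⟨M, rfl⟩
  obtain ⟨s, hs⟩ := k.mem_Z h (hN ▸ hM)
  exact ⟨-s, by rw [← hN, hs, e]⟩

theorem range_le : ρ.range ≤ YY E x y := by
  rintro _ ⟨M, rfl⟩
  exact (eq_top_of_slUp_slLo_mem ((YY E x y).comap ρ) (fun t => mem_sup_left (hc.upZ h t))
    fun t => mem_sup_right (hc.loZ h t)).ge (mem_top M)

theorem comm_perp (h1 : R E x c) (h2 : R E y c) (M : SL(2, F)) (hd : d ∈ E c) : Commute (ρ M) d :=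
  mem_centralizer_singleton_iff.1 ((eq_top_of_slUp_slLo_mem ((centralizer {d}).comap ρ)
    (fun t => mem_centralizer_singleton_iff.2 (h.Z_commute h1 (hc.upZ h t) (h.mem_Z hd)))
    fun t => mem_centralizer_singleton_iff.2 (h.Z_commute h2 (hc.loZ h t) (h.mem_Z hd))).ge (mem_top M))

theorem fix_perp (h1 : R E x c) (h2 : R E y c) (M : SL(2, F)) : ρ M • c = c :=
  (h.ne c).elim fun _ hd => h.fix_of_commute hd (hc.comm_perp h h1 h2 M hd)

theorem smul (g : G) : Ch E p ((MulAut.conj g).toMonoidHom.comp ρ) (g • x) (g • y) :=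
  ⟨hc.fin, hc.char, fun k => hc.opp ((h.R_smul g).1 k), fun s hs => h.conj g x _ (hc.up s hs),
    fun s hs => h.conj g y _ (hc.lo s hs)⟩

theorem scale (hs : s ≠ 0) (hm : ρ (slUp s) ∈ E x) : ∃ ρ' : SL(2, F) →* G, Ch E p ρ' x y ∧
    (∀ t, ρ' (slUp t) = ρ (slUp (s * t))) ∧ (∀ t, ρ' (slLo t) = ρ (slLo (t / s))) ∧
    (∀ l, ρ' (dg l) = ρ (dg l)) ∧ ρ' (-1) = ρ (-1) ∧ ρ'.range = ρ.range := by
  refine ⟨ρ.comp (tw (Units.mk0 s hs)), ⟨hc.fin, hc.char, hc.opp, fun t ht => ?_, fun t ht => ?_⟩,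
    fun t => congrArg ρ (tw_up _ t), fun t => congrArg ρ (tw_lo _ t), fun l => congrArg ρ (tw_dg _ l),
    congrArg ρ (tw_neg _), ?_⟩
  · simpa [tw_up, mul_comm] using hc.up_sq_mem h hm ht
  · have := h.conj (ρ (dg (Units.mk0 t ht)⁻¹)) y _ (hc.lo_mem h hs hm).1
    rw [B2.cj, dg_lo, (hc.dg_fix h _).2] at this
    simpa [tw_lo, div_eq_mul_inv] using this
  · rw [MonoidHom.range_comp, MonoidHom.range_eq_top.2 fun M => ⟨_, tw_tw _ M⟩, ← MonoidHom.range_eq_map]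

end Ch

theorem TG.exists_pa (h : TG E p) (ha : a ∈ E x) (hr : ¬ R E x y) : (Pa E a y).Nonempty := by
  obtain ⟨d, hd⟩ := h.ne y
  obtain ⟨F, _, ρ, μ, hc, -, rfl, -⟩ := h.exists_ch ha hd hr
  exact ⟨_, hc.lo_mem h one_ne_zero ha⟩

namespace TG

variable (h : TG E p)
include h

theorem moves (ha : a ∈ E x) (hr : ¬ R E x y) : ¬ R E (a • y) y := by
  obtain ⟨d, hd⟩ := h.ne y
  obtain ⟨F, _, ρ, μ, hc, -, rfl, -⟩ := h.exists_ch ha hd hr
  exact hc.up_opp h one_ne_zero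

theorem R_of_fix (ha : a ∈ E x) (hf : a • y = y) : R E x y :=
  by_contra fun k => h.moves ha k (hf.symm ▸ h.R_refl y)

theorem exists_ch_pa (ha : a ∈ E x) (hr : ¬ R E x y) (hb : b ∈ Pa E a y) :
    ∃ (F : Type) (_ : Field F) (ρ : SL(2, F) →* G), Ch E p ρ x y ∧ ρ (slUp 1) = a ∧
      ρ (slLo (-1)) = b ∧ ρ.range = closure {a, b} := by
  obtain ⟨F, _, ρ, μ, hc, -, rfl, rfl, e⟩ := h.exists_ch ha hb.1 hr
  obtain rfl : μ = -1 := by simpa using (hc.br_iff h one_ne_zero).1 hb.2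
  exact ⟨F, inferInstance, ρ, hc, rfl, rfl, e⟩

theorem pa_symm (ha : a ∈ E x) (hb : b ∈ Pa E a y) : a ∈ Pa E b x := ⟨ha, Eq.symm hb.2⟩

theorem pa_conj (hb : b ∈ Pa E a y) (g : G) : g * b * g⁻¹ ∈ Pa E (g * a * g⁻¹) (g • y) :=
  ⟨h.conj g y b hb.1, by
    have : a * b * a = b * a * b := hb.2
    simp only [Br, conj_mul, this]⟩

theorem pa_zpow (ha : a ∈ E x) (hr : ¬ R E x y) (hb : b ∈ Pa E a y) {k k' : ℤ}
    (hk : k * k' ≡ 1 [ZMOD p]) : b ^ k' ∈ Pa E (a ^ k) y := by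
  obtain ⟨F, _, ρ, hc, rfl, rfl, -⟩ := h.exists_ch_pa ha hr hb
  haveI := hc.char
  have e : (k : F) * k' = 1 := by exact_mod_cast (CharP.intCast_eq_intCast F p).2 hk
  refine ⟨h.zpow_mem hb.1 fun hp => right_ne_zero_of_mul_eq_one e ((CharP.intCast_eq_zero_iff F p _).2 hp), ?_⟩
  rw [← map_zpow, ← map_zpow, up_zpow, lo_zpow, mul_one, hc.br_iff h (left_ne_zero_of_mul_eq_one e)]
  linear_combination -e

theorem pa_zpow_uniq (ha : a ∈ E x) (hr : ¬ R E x y) (hb : b ∈ Pa E a y) {k : ℤ}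
    (hk : b ^ k ∈ Pa E a y) : k ≡ 1 [ZMOD p] := by
  obtain ⟨F, _, ρ, hc, rfl, rfl, -⟩ := h.exists_ch_pa ha hr hb
  haveI := hc.char
  have := hk.2
  rw [← map_zpow, lo_zpow, hc.br_iff h one_ne_zero] at this
  exact (CharP.intCast_eq_intCast F p).1 (by push_cast; linear_combination -this)

theorem nn_swap (ha : a ∈ E x) (hr : ¬ R E x y) (hb : b ∈ Pa E a y) :
    nn a b • x = y ∧ nn a b • y = x ∧ ∀ c, R E x c → R E y c → nn a b • c = c := by
  obtain ⟨F, _, ρ, hc, rfl, rfl, -⟩ := h.exists_ch_pa ha hr hb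
  have := hc.nn_eq h 1
  rw [inv_one] at this
  rw [this]
  exact ⟨(hc.wy_swap h one_ne_zero).1, (hc.wy_swap h one_ne_zero).2, fun c h1 h2 => hc.fix_perp h h1 h2 _⟩

theorem zz_sq (ha : a ∈ E x) (hr : ¬ R E x y) (hb : b ∈ Pa E a y) :
    zz a b * zz a b = 1 ∧ Commute (zz a b) a ∧ Commute (zz a b) b ∧ zz b a = zz a b := by
  have e : zz b a = zz a b := by rw [zz, zz, nn, nn, show a * b * a = b * a * b from hb.2]
  obtain ⟨F, _, ρ, hc, rfl, rfl, -⟩ := h.exists_ch_pa ha hr hb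
  have := hc.zz_eq h one_ne_zero
  rw [inv_one] at this
  rw [e, this]
  exact ⟨by rw [← map_mul]; simp, (Commute.neg_one_left _).map ρ, (Commute.neg_one_left _).map ρ, rfl⟩

end TG

end Cfsg.Agent.PT
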