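import Mathlib
import Cfsg.Agent.PT.B2
import Cfsg.Agent.GT.Cores

set_option autoImplicit false
set_option linter.unusedSectionVars false

namespace Cfsg.Agent.PT

open Subgroup MulAction Cfsg.Agent.GT Cfsg.Agent.TT Cfsg.Agent.Perm.TT Cfsg.Agent.Perm.TwoCount
open Cfsg.Agent.KS (St NT)
open scoped MatrixGroups commutatorElement

universe u v

variable {G : Type u} {Ω : Type v} [Group G] [MulAction G Ω] [Finite G] [Finite Ω]
  {E : Ω → Set G} {p : ℕ} {x y x' y' c : Ω} {a b a' b' d g : G}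

namespace TG

variable (h : TG E p)
include h

theorem B3_mod {N : Subgroup G} [N.Normal] (ha : a ∈ E x) (hb : b ∈ E y) (hr : ¬ R E x y)
    (hm : (b : G ⧸ N) ∈ zpowers (a : G ⧸ N)) : a ∈ N := by
  have k : closure ({a, b} : Set G) ≤ (zpowers (a : G ⧸ N)).comap (QuotientGroup.mk' N) :=
    (closure_le _).2 (Set.insert_subset (mem_zpowers _) (Set.singleton_subset_iff.2 hm))
  refine commutator_le.2 (fun u hu v hv => ?_) (h.mem_commutator ha hb hr)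
  obtain ⟨i, hi⟩ := k hu
  obtain ⟨j, hj⟩ := k hv
  rw [← QuotientGroup.eq_one_iff, ← QuotientGroup.mk'_apply, map_commutatorElement, ← hi, ← hj,
    commutatorElement_eq_one_iff_commute]
  exact Commute.zpow_zpow_self _ i j

theorem B3_top {H : Subgroup G} (hH : ∀ x, ∀ a ∈ E x, a ∈ H) (g : G) : g ∈ H :=
  (closure_le H).2 (Set.iUnion_subset hH) (h.gen ▸ mem_top g)

theorem normal_top {N : Subgroup G} (hN : N.Normal) (ha : a ∈ E x) (haN : a ∈ N) : N = ⊤ := by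
  refine eq_top_iff.2 fun g _ => h.B3_top (fun y d hd => ?_) g
  obtain ⟨z, hz⟩ := h.exists_opp y
  obtain ⟨k, rfl⟩ := h.tr x z
  refine h.B3_mod hd (h.conj k x a ha) hz ?_
  rw [(QuotientGroup.eq_one_iff _).2 (hN.conj_mem a haN k)]
  exact one_mem _

theorem opp2 (x y : Ω) : ∃ z, ¬ R E x z ∧ ¬ R E y z := by
  by_contra hn
  push Not at hn
  let L := closure {d | ∃ z, ¬ R E x z ∧ d ∈ E z}
  have nL : L.Normal := normalizer_eq_top_iff.1 (eq_top_iff.2 fun g _ => h.B3_top (fun v d hd => by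
    by_cases hv : R E v x
    · refine mem_normalizer_fintype fun n hn => ?_
      have : L ≤ L.comap (MulAut.conj d).toMonoidHom := (closure_le _).2 fun e ⟨z, hz, he⟩ =>
        subset_closure ⟨d • z, by rwa [← h.Z_fix hv (h.mem_Z hd), h.R_smul], h.conj d z e he⟩
      exact this hn
    · exact le_normalizer (subset_closure ⟨v, fun k => hv (h.R_symm k), hd⟩)) g)
  obtain ⟨z, hz⟩ := h.exists_opp x
  obtain ⟨a, ha⟩ := h.ne z
  have top := h.normal_top nL ha (subset_closure ⟨z, hz, ha⟩)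
  obtain ⟨w, hw⟩ := h.exists_opp y
  refine hw fun b hb d _ => ?_
  have : L ≤ centralizer {b} := (closure_le _).2 fun e ⟨z, hz, he⟩ =>
    mem_centralizer_singleton_iff.2 (hn z hz b hb e he).symm.eq
  exact (mem_centralizer_singleton_iff.1 (this (top ▸ mem_top d))).symm

theorem nd0 (hxy : ∀ c, R E x c → R E y c) : x = y := by
  obtain ⟨g, rfl⟩ := h.tr x y
  have e : {c | R E x c} = {c | R E (g • x) c} :=
    Set.eq_of_subset_of_ncard_le hxy (Set.ncard_le_ncard_of_injOn (fun c => g⁻¹ • c)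
      (fun c hc => (h.R_smul g).1 (by rwa [smul_inv_smul])) (MulAction.injective _).injOn)
  obtain ⟨a, ha⟩ := h.ne x
  obtain ⟨b, hb⟩ := h.ne (g • x)
  exact h.sep _ _ a ha b hb fun z d hd => by
    rw [← h.R_iff ha hd, ← h.R_iff hb hd]; exact Set.ext_iff.1 e z

theorem simple (hf : ∀ g : G, (∀ x : Ω, g • x = x) → g = 1) :
    IsSimpleGroup G ∧ ¬ IsMulCommutative G := by
  obtain ⟨x0, y0, h0⟩ := h.nc
  obtain ⟨a0, ha0⟩ := h.ne x0
  have : Nontrivial G := ⟨a0, 1, h.ne_one ha0⟩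
  refine ⟨⟨fun N hN => or_iff_not_imp_left.2 fun ne => ?_⟩, fun c => h0 fun a _ b _ => c.is_comm.comm a b⟩
  obtain ⟨⟨n, hn⟩, n1⟩ := ne_bot_iff_exists_ne_one.1 ne
  obtain ⟨x, hx⟩ : ∃ x : Ω, n • x ≠ x := by
    by_contra k
    push Not at k
    exact n1 (Subtype.ext (hf n k))
  by_cases k : ∀ m ∈ N, ∀ x : Ω, R E x (m • x)
  · obtain ⟨δ, h1, h2⟩ : ∃ δ, R E x δ ∧ ¬ R E (n • x) δ := by
      by_contra k
      push Not at k
      exact hx (h.nd0 k).symm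
    obtain ⟨d, hd⟩ := h.ne δ
    have e : d⁻¹ • x = x := h.Z_fix (h.R_symm h1) ((Z E δ).inv_mem (h.mem_Z hd))
    have := k _ (mul_mem (hN.conj_mem n hn d) (N.inv_mem hn)) (n • x)
    rw [mul_smul, inv_smul_smul, mul_smul, mul_smul, e] at this
    exact absurd (h.R_symm this) (h.moves hd fun k => h2 (h.R_symm k))
  · push Not at k
    obtain ⟨m, hm, z, hz⟩ := k
    obtain ⟨a, ha⟩ := h.ne z
    refine h.normal_top hN ha (h.B3_mod ha (h.conj m z a ha) hz ?_)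
    rw [QuotientGroup.mk_mul, QuotientGroup.mk_mul, QuotientGroup.mk_inv, (QuotientGroup.eq_one_iff _).2 hm,
      one_mul, inv_one, mul_one]
    exact mem_zpowers _

theorem not_hasReg (hf : ∀ g : G, (∀ x : Ω, g • x = x) → g = 1) : ¬ HasReg G Ω := by
  rintro ⟨N, hN, h1, h2⟩
  obtain ⟨x, y, hxy⟩ := h.nc
  have := (h.simple hf).1
  rcases hN.eq_bot_or_eq_top with rfl | rfl
  · obtain ⟨r, hr, rfl⟩ := h1 x y
    rw [mem_bot.1 hr, one_smul] at hxy
    exact hxy (h.R_refl x)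
  · obtain ⟨a, ha⟩ := h.ne x
    exact h.ne_one ha (h2 x a (mem_top a) (h.fix_of_commute ha (Commute.refl a)))

theorem central (hf : ∀ g : G, (∀ x : Ω, g • x = x) → g = 1) (hg : ∀ k : G, Commute g k) : g = 1 :=
  hf g fun x => let ⟨a, ha⟩ := h.ne x; h.fix_of_commute ha (hg a)

theorem faith_of (hS : ∀ M : Subgroup G, M.Normal → Group.IsSolvable M → M = ⊥) (g : G)
    (hg : ∀ x : Ω, g • x = x) : g = 1 := by
  have := Fact.mk h.prime
  let N := (toPermHom G Ω).ker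
  have mN : ∀ n, n ∈ N ↔ ∀ x : Ω, n • x = x := fun n => Equiv.ext_iff
  have h0 : pCore p G = ⊥ := hS _ inferInstance (by
    have := (isPGroup_pCore (G := G) p).isNilpotent
    infer_instance)
  have h1 : ∀ x, Z E x ⊓ N = ⊥ := fun x => eq_bot_iff.2 (h0 ▸ (le_pCoreOf inf_le_right (fun n hn =>
    mem_normalizer_fintype fun u hu => ⟨(mN n).1 hn x ▸ (h.Z_conj n).2 hu.1, Normal.conj_mem inferInstance u hu.2 n⟩)
      ((h.Z_isPGroup x).to_le inf_le_left)).trans (pCoreOf_le_pCore N))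
  have h2 : ∀ n ∈ N, ∀ k, k ∈ centralizer {n} := fun n hn => h.B3_top fun x a ha => by
    have k1 : n * a * n⁻¹ * a⁻¹ ∈ Z E x ⊓ N :=
      ⟨mul_mem ((mN n).1 hn x ▸ (h.Z_conj n).2 (h.mem_Z ha)) ((Z E x).inv_mem (h.mem_Z ha)), by
        rw [mul_assoc, mul_assoc, ← mul_assoc a]
        exact mul_mem hn (Normal.conj_mem inferInstance _ (N.inv_mem hn) a)⟩
    rw [h1, mem_bot, mul_inv_eq_one, mul_inv_eq_iff_eq_mul] at k1
    exact mem_centralizer_singleton_iff.2 k1.symm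
  have h3 := hS N inferInstance (Group.isSolvable_of_comm fun a b =>
    Subtype.ext (mem_centralizer_singleton_iff.1 (h2 b b.2 a)))
  exact mem_bot.1 (h3 ▸ (mN g).2 hg)

/-- The group induced on the points of `X`. -/
theorem con {X N : Subgroup G} {B Δ : Type*} [Group B] [MulAction B Δ] {π : N →* B} {ι : Δ → Ω}
    (hc : Con N (Px E X) π ι) (hX : HX E X ≤ N)
    (hnd : ∀ a ∈ Px E X, ∀ b ∈ Px E X, (∀ c ∈ Px E X, R E a c ↔ R E b c) → a = b)
    (hop : ∀ a ∈ Px E X, ∃ b ∈ Px E X, ¬ R E a b)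
    (htr : ∀ a ∈ Px E X, ∀ b ∈ Px E X, ∃ g ∈ HX E X, g • a = b) (hne : (Px E X).Nonempty) :
    TG (EC E X π ι (((HX E X).subgroupOf N).map π)) p ∧
      ∀ x y : Δ, R (EC E X π ι (((HX E X).subgroupOf N).map π)) x y ↔ R E (ι x) (ι y) := by
  have := Fact.mk h.prime
  let θ : HX E X →* ((HX E X).subgroupOf N).map π :=
    (π.comp (inclusion hX)).codRestrict _ fun g => ⟨_, g.2, rfl⟩
  have θs : ∀ β, ∃ g, θ g = β := by
    rintro ⟨_, g, hg, rfl⟩
    exact ⟨⟨g, hg⟩, rfl⟩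
  have le : HX E X ≤ X := (closure_le _).2 fun _ k => k.1
  have mem : ∀ x β, β ∈ EC E X π ι (((HX E X).subgroupOf N).map π) x ↔
      ∃ a : HX E X, (a : G) ∈ E (ι x) ∧ θ a = β := fun x β =>
    ⟨fun ⟨a, h1, h2, h3⟩ => ⟨⟨a, subset_closure ⟨h2, _, h1⟩⟩, h1, Subtype.ext h3⟩,
      fun ⟨a, h1, h2⟩ => ⟨inclusion hX a, h1, le a.2, congrArg Subtype.val h2⟩⟩
  have sm : ∀ (g : HX E X) (x : Δ), ι (θ g • x) = (g : G) • ι x := fun g x => hc.smul (inclusion hX g) x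
  have px : ∀ x, ι x ∈ Px E X := fun x => hc.range ▸ Set.mem_range_self x
  have ex : ∀ c ∈ Px E X, ∃ x, ι x = c := fun c k => (hc.range ▸ k : c ∈ Set.range ι)
  have ne : ∀ x, ∃ a : HX E X, (a : G) ∈ E (ι x) := fun x =>
    let ⟨a, h1, h2⟩ := px x; ⟨⟨a, subset_closure ⟨h2, _, h1⟩⟩, h1⟩
  have cm : ∀ x y (a d : HX E X), (a : G) ∈ E (ι x) → (d : G) ∈ E (ι y) →
      (Commute (θ a) (θ d) ↔ R E (ι x) (ι y)) := fun x y a d ha hd => by
    refine ⟨fun k => by_contra fun hr => h.moves ha hr (h.R_of_fix (h.conj a _ _ hd) ?_), fun k =>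
      Commute.map (Subtype.ext (k _ ha _ hd).eq) θ⟩
    have e : θ (a * d * a⁻¹) = θ d := by rw [map_mul, map_mul, map_inv, k.eq, mul_inv_cancel_right]
    exact (sm (a * d * a⁻¹) y).symm.trans (by rw [e, sm, h.fix_of_commute hd (Commute.refl _)])
  have rr : ∀ x y : Δ, R (EC E X π ι (((HX E X).subgroupOf N).map π)) x y ↔ R E (ι x) (ι y) := fun x y => by
    obtain ⟨a, ha⟩ := ne x
    obtain ⟨d, hd⟩ := ne y
    refine ⟨fun k => (cm x y a d ha hd).1 (k _ ((mem _ _).2 ⟨a, ha, rfl⟩) _ ((mem _ _).2 ⟨d, hd, rfl⟩)),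
      fun k β hβ δ hδ => ?_⟩
    obtain ⟨a, ha, rfl⟩ := (mem _ _).1 hβ
    obtain ⟨d, hd, rfl⟩ := (mem _ _).1 hδ
    exact (cm x y a d ha hd).2 k
  refine ⟨⟨h.prime, h.five, fun x => ?_, fun x β hβ => ?_, fun x β hβ k hk => ?_, fun g x β hβ => ?_,
    fun x y β hβ δ hδ => ?_, fun x y β hβ β' hβ' δ hδ k => ?_, fun x y β hβ β' hβ' k => ?_, ?_, fun x y => ?_, ?_⟩, rr⟩
  · obtain ⟨a, ha⟩ := ne x
    exact ⟨_, (mem _ _).2 ⟨a, ha, rfl⟩⟩
  · obtain ⟨a, ha, rfl⟩ := (mem _ _).1 hβ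
    refine orderOf_eq_prime (by rw [← map_pow, show a ^ p = 1 from Subtype.ext (h.pow_p ha), map_one]) fun e => ?_
    obtain ⟨_, k, hr⟩ := hop _ (px x)
    obtain ⟨y, rfl⟩ := ex _ k
    obtain ⟨d, hd⟩ := ne y
    exact hr ((cm x y a d ha hd).1 (e ▸ Commute.one_left _))
  · obtain ⟨a, ha, rfl⟩ := (mem _ _).1 hβ
    refine (mem _ _).2 ⟨a ^ k, h.pow _ _ ha k fun e => hk ?_, map_pow _ _ _⟩
    rw [← map_pow, show a ^ k = 1 from Subtype.ext e, map_one]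
  · obtain ⟨a, ha, rfl⟩ := (mem _ _).1 hβ
    obtain ⟨g, rfl⟩ := θs g
    exact (mem _ _).2 ⟨g * a * g⁻¹, sm g x ▸ h.conj g _ _ ha, by rw [map_mul, map_mul, map_inv]⟩
  · obtain ⟨a, ha, rfl⟩ := (mem _ _).1 hβ
    obtain ⟨d, hd, rfl⟩ := (mem _ _).1 hδ
    refine (h.pair _ _ _ ha _ hd).imp (fun k => Commute.map (Subtype.ext k.eq) θ) ?_
    rintro ⟨F, _, _, _, ρ, μ, μ0, e1, e2, e3⟩
    have k1 : ρ.range ≤ HX E X :=
      e3 ▸ (closure_le _).2 (Set.insert_subset a.2 (Set.singleton_subset_iff.2 d.2))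
    let ρ' : SL(2, F) →* HX E X := ρ.codRestrict _ fun M => k1 ⟨M, rfl⟩
    have k2 : ρ'.range = closure {a, d} := map_injective (HX E X).subtype_injective (by
      rw [MonoidHom.map_range, MonoidHom.map_closure, Set.image_pair]; exact e3)
    refine ⟨F, _, inferInstance, inferInstance, θ.comp ρ', μ, μ0, congrArg θ (Subtype.ext e1),
      congrArg θ (Subtype.ext e2), ?_⟩
    rw [MonoidHom.range_comp, k2, MonoidHom.map_closure, Set.image_pair]
  · obtain ⟨a, ha, rfl⟩ := (mem _ _).1 hβ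
    obtain ⟨a', ha', rfl⟩ := (mem _ _).1 hβ'
    obtain ⟨d, hd, rfl⟩ := (mem _ _).1 hδ
    exact (cm x y a' d ha' hd).2 ((cm x y a d ha hd).1 k)
  · obtain ⟨a, ha, rfl⟩ := (mem _ _).1 hβ
    obtain ⟨a', ha', rfl⟩ := (mem _ _).1 hβ'
    refine hc.inj (hnd _ (px x) _ (px y) fun c hc => ?_)
    obtain ⟨z, rfl⟩ := ex _ hc
    obtain ⟨d, hd⟩ := ne z
    rw [← cm x z a d ha hd, ← cm y z a' d ha' hd]
    exact k z _ ((mem _ _).2 ⟨d, hd, rfl⟩)
  · refine eq_top_iff.2 fun β _ => ?_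
    obtain ⟨⟨g, hg⟩, rfl⟩ := θs β
    induction hg using closure_induction with
    | mem a ha =>
      obtain ⟨h1, c, h2⟩ := ha
      obtain ⟨z, rfl⟩ := ex c ⟨a, h2, h1⟩
      exact subset_closure (Set.mem_iUnion.2 ⟨z, (mem _ _).2 ⟨_, h2, rfl⟩⟩)
    | one => exact (map_one θ).symm ▸ one_mem _
    | mul a b ha hb ia ib => exact (map_mul θ ⟨a, ha⟩ ⟨b, hb⟩).symm ▸ mul_mem (ia trivial) (ib trivial)
    | inv a ha ia => exact (map_inv θ ⟨a, ha⟩).symm ▸ Subgroup.inv_mem _ (ia trivial)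
  · obtain ⟨g, hg, e⟩ := htr _ (px x) _ (px y)
    exact ⟨θ ⟨g, hg⟩, hc.inj ((sm _ _).trans e)⟩
  · obtain ⟨c, k⟩ := hne
    obtain ⟨c', k', hr⟩ := hop c k
    obtain ⟨x, rfl⟩ := ex c k
    obtain ⟨y, rfl⟩ := ex c' k'
    exact ⟨x, y, fun e => hr ((rr x y).1 e)⟩

end TG

end Cfsg.Agent.PT
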