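import Mathlib
import Cfsg.Agent.PT.B2

set_option autoImplicit false

namespace Cfsg.Agent.PT

open Subgroup MulAction Cfsg.Agent.GT Cfsg.Agent.TT Cfsg.Agent.Perm.TT Cfsg.Agent.Perm.TwoCount
open Cfsg.Agent.KS (St NT)
open scoped MatrixGroups commutatorElement

universe u v

variable {G : Type u} {Ω : Type v} [Group G] [MulAction G Ω] [Finite G] [Finite Ω]
  {E : Ω → Set G} {p : ℕ} {x y x' y' c : Ω} {a b a' b' d g : G}

variable {w e : G} {k : G}

namespace TLh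

omit [Finite G]

theorem cjm (g u v : G) : g * (u * v) * g⁻¹ = g * u * g⁻¹ * (g * v * g⁻¹) := by group

theorem cji (g u : G) : g * u⁻¹ * g⁻¹ = (g * u * g⁻¹)⁻¹ := by group

theorem cjc (g h u : G) : g * h * u * (g * h)⁻¹ = g * (h * u * h⁻¹) * g⁻¹ := by group

theorem comm_of {g u : G} (h : g * u * g⁻¹ = u) : Commute u g := (mul_inv_eq_iff_eq_mul.1 h).symm

theorem cj_of {g u : G} (h : Commute u g) : g * u * g⁻¹ = u := by rw [← h.eq, mul_inv_cancel_right]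

theorem br_conj (h : Br a b) : b⁻¹ * a * b = a * b * a⁻¹ := by
  calc _ = b⁻¹ * (a * b * a) * a⁻¹ := by group
    _ = _ := by rw [h]; group

theorem nn_a (h : Br a b) : nn a b * a * (nn a b)⁻¹ = b := by
  calc _ = a * b * a * (nn a b)⁻¹ * (nn a b * a * (nn a b)⁻¹) := by rw [nn]; group
    _ = (a * b * a) * a * (a * b * a)⁻¹ := by rw [nn]; group
    _ = (b * a * b) * a * (a * b * a)⁻¹ := by rw [← h]
    _ = _ := by group

theorem nn_b (h : Br a b) : nn a b * b * (nn a b)⁻¹ = a := by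
  calc _ = a * (b * a * b) * (a * b * a)⁻¹ := by rw [nn]; group
    _ = _ := by rw [← h]; group

theorem zz_a (h : Br a b) : zz a b * a * (zz a b)⁻¹ = a := by rw [zz, cjc, nn_a h, nn_b h]

theorem av (h1 : Br a b) (h2 : Br (a * w) b) :
    a⁻¹ * (b⁻¹ * w * b) * a = b⁻¹ * (w * b * w⁻¹) := by
  calc _ = b⁻¹ * a⁻¹ * ((a * b * a⁻¹) * (b⁻¹ * w * b)) * a := by group
    _ = b⁻¹ * a⁻¹ * (b⁻¹ * (a * w) * b) * a := by rw [← br_conj h1]; group
    _ = _ := by rw [br_conj h2]; group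

theorem av' (h1 : Br a b) (h2 : Br (a * w) b) (h3 : Commute a w) :
    a * (b⁻¹ * w * b) * a⁻¹ = b⁻¹ * w * b * w := by
  calc _ = a * (b⁻¹ * (w * b * w⁻¹)) * (w * a⁻¹) := by group
    _ = _ := by rw [← av h1 h2, ← h3.inv_left.eq]; group

theorem eq_of_br (h : Br a b) (hc : Commute a b) : a = b := by
  have h1 : a * b * a = a * b * b := by rw [h, ← hc.eq]
  exact mul_left_cancel h1

theorem mem_of_sq {u : G} {H : Subgroup G} (hp : Odd p) (hu : u ^ p = 1) (h : u * u ∈ H) : u ∈ H := by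
  obtain ⟨m, rfl⟩ := hp
  have : u = (u * u) ^ (m + 1) := by
    rw [← pow_two, ← pow_mul, show 2 * (m + 1) = 2 * m + 1 + 1 by ring, pow_succ, hu, one_mul]
  exact this ▸ pow_mem h _

theorem wk (h : Tl p a b w k e) : w * k * w⁻¹ = e * k := by rw [h.edef]; group

theorem wk' (h : Tl p a b w k e) : w⁻¹ * k * w = k * e⁻¹ := by
  calc _ = w⁻¹ * e⁻¹ * (e * k) * w := by group
    _ = w⁻¹ * (e⁻¹ * w) * k := by rw [← wk h]; group
    _ = _ := by rw [h.ew.inv_left.eq, ← h.ec.inv_left.eq]; group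

theorem kw (h : Tl p a b w k e) : k * w * k⁻¹ = e⁻¹ * w := by
  rw [h.edef]; group

theorem ka (h : Tl p a b w k e) : k⁻¹ * a * k = a * (w⁻¹ * e⁻¹) := by
  calc _ = k⁻¹ * (a * k * a⁻¹) * a := by group
    _ = w⁻¹ * (w * k * w⁻¹)⁻¹ * k * a := by rw [h.ac]; group
    _ = w⁻¹ * (k⁻¹ * e⁻¹ * k) * a := by rw [wk h]; group
    _ = _ := by
      rw [← h.ec.inv_left.inv_right.eq, inv_mul_cancel_right, (h.aw.inv_right.mul_right h.ea.inv_left.symm).eq]

theorem ze (h : Tl p a b w k e) : zz a b * e * (zz a b)⁻¹ = e :=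
  have k : Commute e (nn a b) := (h.ea.mul_right h.eb).mul_right h.ea
  cj_of (k.mul_right k)

end TLh

open TLh

omit [Finite G] in
theorem Tl.mk' {w : G} (h1 : Br a b) (h2 : Br (a * w) b) (h3 : Commute a w)
    (h4 : Commute b (w * b * w⁻¹)) (h5 : zz a b * zz a b = 1) (ha : a ^ p = 1) (hw : w ^ p = 1)
    (hne : w ≠ 1) : ∃ k e, Tl p a b w k e := by
  obtain ⟨c, hc⟩ : ∃ c, c = (w * b * w⁻¹)⁻¹ * b := ⟨_, rfl⟩
  obtain ⟨e, he⟩ : ∃ e, e = w * c * w⁻¹ * c⁻¹ := ⟨_, rfl⟩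
  have bc : Commute b c := hc ▸ h4.inv_right.mul_right (Commute.refl b)
  have hv : b⁻¹ * w * b = c⁻¹ * w := by rw [hc]; group
  have bw : b * w * b⁻¹ = c * w := by
    calc _ = (b * c) * (c⁻¹ * w) * b⁻¹ := by group
      _ = _ := by rw [bc.eq, ← hv]; group
  have ac' : a * c⁻¹ * a⁻¹ = c⁻¹ * w := by
    have := av' h1 h2 h3
    rw [hv, cjm, cj_of h3.symm] at this
    exact mul_right_cancel this
  have ac : a * c * a⁻¹ = w⁻¹ * c := by rw [← inv_inv c, cji, ac']; group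
  have ca : c * a * c⁻¹ = a * w := by
    calc _ = c * (a * c⁻¹ * a⁻¹) * a := by group
      _ = _ := by rw [ac', h3.eq]; group
  have nw : nn a b * w * (nn a b)⁻¹ = w⁻¹ * c * w := by
    rw [nn, cjc, cjc, cj_of h3.symm, bw, cjm, ac, cj_of h3.symm]
  have nc : nn a b * c * (nn a b)⁻¹ = w⁻¹ := by
    rw [nn, h1, cjc, cjc, cj_of bc.symm, ac, cjm, cji, bw, cj_of bc.symm]; group
  have zw : zz a b * w * (zz a b)⁻¹ = w⁻¹ * c⁻¹ * (w⁻¹ * c * w) := by
    rw [zz, cjc, nw, cjm, cjm, cji, nw, nc]; group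
  have zc : zz a b * c * (zz a b)⁻¹ = w⁻¹ * c⁻¹ * w := by
    rw [zz, cjc, nc, cji, nw]; group
  have cc : Commute (w * c * w⁻¹) c := by
    have h6 : zz a b * zz a b * c * (zz a b * zz a b)⁻¹ = c := by rw [h5]; group
    rw [cjc, zc, cjm, cjm, cji, cji, zw, zc] at h6
    have h7 : w⁻¹ * c⁻¹ * (w * c * w⁻¹) * c * w = c := Eq.trans (by group) h6
    calc w * c * w⁻¹ * c = c * w * (w⁻¹ * c⁻¹ * (w * c * w⁻¹) * c * w) * w⁻¹ := by group
      _ = _ := by rw [h7]; group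
  have ec : Commute e c := he ▸ cc.mul_left (Commute.refl c).inv_left
  have ew : Commute e w := by
    have h6 : Commute (nn a b * (w * c * w⁻¹) * (nn a b)⁻¹) (nn a b * c * (nn a b)⁻¹) :=
      cc.map (MulAut.conj (nn a b))
    rw [cjm, cjm, cji, nw, nc] at h6
    have h7 := h6.inv_right.map (MulAut.conj w)
    simp only [MulAut.conj_apply] at h7
    rw [show w * (w⁻¹ * c * w * w⁻¹ * (w⁻¹ * c * w)⁻¹) * w⁻¹ = w⁻¹ * e by rw [he]; group,
      show w * w⁻¹⁻¹ * w⁻¹ = w by group] at h7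
    simpa using (Commute.refl w).mul_left h7
  have cw : c * w * c⁻¹ = e⁻¹ * w := by rw [he]; group
  have wc : w⁻¹ * c * w = c * e⁻¹ := by
    calc _ = w⁻¹ * (c * w * c⁻¹) * c := by group
      _ = _ := by rw [cw, ew.inv_left.eq, ← ec.inv_left.eq]; group
  refine ⟨c, e, h1, h2, h3, h4, hc, he, bc, ca, ac, bw, comm_of ?_, comm_of ?_, ew, ec, nw, nc, ?_, ?_, ha, hw,
    ?_, ?_, hne⟩
  · calc a * e * a⁻¹ = (c * w * c⁻¹)⁻¹ * w := by
          rw [he, cjm, cjm, cjm, cji, cji, ac, cj_of h3.symm]; group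
      _ = _ := by rw [cw, mul_inv_rev, inv_inv, ← ew.inv_right.eq]; group
  · calc b * e * b⁻¹ = c * e * c⁻¹ := by
          rw [he, cjm b, cjm b, cjm b, cji b, cji b, bw, cj_of bc.symm]; group
      _ = _ := cj_of ec
  · rw [zw, wc]; group
  · rw [zc, ← ec.inv_right.eq, show w⁻¹ * c⁻¹ * w = (w⁻¹ * c * w)⁻¹ by group, wc]; group
  · have := conj_pow (a := nn a b) (b := c) (i := p)
    rw [nc, inv_pow, hw, inv_one] at this
    exact conj_eq_one_iff.1 this.symm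
  · have := conj_pow (a := c) (b := w) (i := p)
    rw [cw, ew.inv_left.mul_pow, hw, mul_one, mul_one, mul_inv_cancel, inv_pow, inv_eq_one] at this
    exact this

omit [Finite G] in
theorem Tl.conj_pow (h : Tl p a b w k e) (i : ℕ) :
    k ^ i * a * (k ^ i)⁻¹ = a * w ^ i * (e ^ i.choose 2)⁻¹ := by
  induction i with
  | zero => simp
  | succ i ih =>
    rw [pow_succ', cjc, ih, cjm, cjm, cji, ← _root_.conj_pow, ← _root_.conj_pow, h.ca, kw h, cj_of h.ec,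
      h.ew.inv_left.mul_pow, Nat.choose_succ_succ' i 1, Nat.choose_one_right, add_comm i, pow_add, inv_pow,
      ((h.ew.pow_pow i i).inv_left).eq, pow_succ']
    group

omit [Finite G] in
theorem Tl.w_not (h : Tl p a b w k e) : w ∉ zpowers e := by
  rintro ⟨i, hi⟩
  have h1 : Commute b w := hi ▸ (h.eb.zpow_left i).symm
  have h2 := h.ca
  rw [h.cdef, cj_of h1, inv_mul_cancel, one_mul, inv_one, mul_one, left_eq_mul] at h2
  exact h.ne h2

omit [Finite G] in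
theorem Tl.c_not (h : Tl p a b w k e) : k ∉ zpowers e := by
  rintro ⟨i, hi⟩
  have h1 : Commute a k := hi ▸ (h.ea.zpow_left i).symm
  have h2 := h.ca
  rw [cj_of h1, left_eq_mul] at h2
  exact h.ne h2

omit [Finite G] in
theorem Tl.w_sq_not (h : Tl p a b w k e) (hp : Odd p) : w * w ∉ zpowers e :=
  fun h1 => h.w_not (mem_of_sq hp h.wp h1)

omit [Finite G] in
theorem Tl.c_sq_not (h : Tl p a b w k e) (hp : Odd p) : k * k ∉ zpowers e :=
  fun h1 => h.c_not (mem_of_sq hp h.cp h1)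

omit [Finite G] in
theorem Tl.zz_ne (h : Tl p a b w k e) (hp : Odd p) :
    zz a b ≠ 1 ∧ ¬ Commute (zz a b) w ∧ ¬ Commute (zz a b) k := by
  have h1 : ¬ Commute (zz a b) w := fun c => h.w_sq_not hp (by
    have := h.zw
    rw [cj_of c.symm, eq_inv_mul_iff_mul_eq] at this
    exact this ▸ inv_mem (mem_zpowers e))
  refine ⟨fun c => h1 (c ▸ Commute.one_left w), h1, fun c => h.c_sq_not hp ?_⟩
  have := h.zc
  rw [cj_of c.symm, eq_inv_mul_iff_mul_eq] at this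
  exact this ▸ mem_zpowers e

omit [Finite G] in
theorem Tl.z1 (h : Tl p a b w k e) : zz (a * w) b = k * zz a b * k⁻¹ := by
  rw [zz, zz, nn, nn, cjm, cjm, cjm, h.ca, cj_of h.bc]

omit [Finite G] in
theorem Tl.z1a (h : Tl p a b w k e) :
    zz (a * w) b * a * (zz (a * w) b)⁻¹ = k ^ 2 * a * (k ^ 2)⁻¹ := by
  calc _ = k * (zz a b * (k⁻¹ * a * k) * (zz a b)⁻¹) * k⁻¹ := by rw [h.z1]; group
    _ = k * (a * (e * w * e⁻¹)) * k⁻¹ := by
      rw [ka h, cjm (zz a b), cjm (zz a b), cji (zz a b), cji (zz a b), zz_a h.br, h.zw, ze h]; group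
    _ = _ := by rw [cj_of h.ew.symm, ← h.ca, pow_two]; group

omit [Finite G] in
theorem Tl.za (h : Tl p a b w k e) : zz a b * (a * w) * (zz a b)⁻¹ = k⁻¹ * a * k := by
  rw [cjm, zz_a h.br, h.zw, ka h]

omit [Finite G] in
theorem Tl.symm_c (h : Tl p a b w k e) : (w⁻¹ * b * w⁻¹⁻¹)⁻¹ * b = k⁻¹ * e := by
  calc _ = (w⁻¹ * ((w * b * w⁻¹)⁻¹ * b) * w)⁻¹ := by group
    _ = _ := by rw [← h.cdef, wk' h, ← h.ec.inv_right.eq]; group

omit [Finite G] in
theorem Tl.na (h : Tl p a b w k e) : nn a b * (a * w) * (nn a b)⁻¹ = b * (k * e⁻¹) := by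
  rw [cjm, nn_a h.br, h.nw, wk' h]

namespace TLh

theorem trace {F : Type} [Field F] {ρ : SL(2, F) →* G} (h : TG E p) (hc : Ch E p ρ x y) {M : SL(2, F)}
    (hM : ρ M ^ p = 1) : M 0 0 + M 1 1 = 2 ∨ (M 0 0 + M 1 1 = -2 ∧ ρ (-1) = 1) := by
  have := Fact.mk h.prime
  have := hc.char
  rw [← map_pow] at hM
  refine (hc.ker h hM).imp (fun e => trace_eq_two_of_pow_eq_one (p := p) (k := 1) (by rwa [pow_one])) fun e => ?_
  have ho : Odd p := h.prime.odd_of_ne_two (by have := h.five; omega)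
  have h1 := trace_eq_two_of_pow_eq_one (p := p) (k := 1) (A := -M) (by rw [pow_one, ho.neg_pow, e, neg_neg])
  refine ⟨?_, e ▸ hM⟩
  have h2 : ∀ i j, (-M) i j = -(M i j) := fun _ _ => rfl
  rw [h2, h2] at h1
  linear_combination -h1

theorem negM {F : Type} [Field F] :
    slUp (-1 : F) * slLo 4 = -1 * (slLo (-2) * slUp 1 * (slLo (-2))⁻¹) := by
  rw [← slLo_neg]
  ext i j
  fin_cases i <;> fin_cases j <;> simp <;> norm_num

theorem tr1 {F : Type} [Field F] (μ : F) :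
    (slUp (-1 : F) * slLo μ : SL(2, F)) 0 0 + (slUp (-1 : F) * slLo μ : SL(2, F)) 1 1 = 2 - μ := by
  simp; ring

theorem tr2 {F : Type} [Field F] (μ t : F) :
    (slLo (-μ) * slUp 1 * slLo μ * slUp t : SL(2, F)) 0 0 + (slLo (-μ) * slUp 1 * slLo μ * slUp t : SL(2, F)) 1 1 =
      2 - t * μ ^ 2 := by
  simp; ring

end TLh

theorem TG.tl (h : TG E p) (ha : a ∈ E x) (ha' : a' ∈ E x') (hb : b ∈ E y) (hne : a ≠ a')
    (hc : Commute a a') (h1 : Br a b) (h2 : Br a' b) : ∃ k e, Tl p a b (a⁻¹ * a') k e := by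
  obtain ⟨w, rfl⟩ : ∃ w, a' = a * w := ⟨a⁻¹ * a', by group⟩
  rw [inv_mul_cancel_left]
  have h3 : Commute a w := by simpa using (Commute.refl a).inv_right.mul_right hc
  have hr : ¬ R E x y := fun k => by
    have e := eq_of_br h1 ((h.R_iff ha hb).1 k)
    exact hne (e.trans (eq_of_br h2 (e ▸ hc.symm)).symm)
  have hw : w ^ p = 1 := by
    have := h.pow_p ha'
    rwa [h3.mul_pow, h.pow_p ha, one_mul] at this
  refine Tl.mk' h1 h2 h3 ?_ (h.zz_sq ha hr ⟨hb, h1⟩).1 (h.pow_p ha) hw fun e => hne (by rw [e, mul_one])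
  by_contra hn
  have hb' := h.conj w y b hb
  have e1 : b⁻¹ * (w * b * w⁻¹) = a⁻¹ * b⁻¹ * w * (a⁻¹ * b⁻¹)⁻¹ := by rw [← av h1 h2]; group
  have e2 : b⁻¹ * w * b * w = a * b⁻¹ * w * (a * b⁻¹)⁻¹ := by rw [← av' h1 h2 h3]; group
  have p1 : (b⁻¹ * (w * b * w⁻¹)) ^ p = 1 := by rw [e1, _root_.conj_pow, hw]; group
  have p2 : (b⁻¹ * w * b * w) ^ p = 1 := by rw [e2, _root_.conj_pow, hw]; group
  have hwx : w ∈ E x := by
    obtain ⟨F, _, ρ, μ, hch, μ0, r1, r2, -⟩ := h.exists_ch hb hb' fun k => hn ((h.R_iff hb hb').1 k)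
    have e3 : ρ (slUp (-1) * slLo μ) = b⁻¹ * (w * b * w⁻¹) := by rw [map_mul, slUp_neg, map_inv, r1, r2]
    rcases trace h hch (e3 ▸ p1) with t | ⟨t, t1⟩
    · rw [tr1] at t
      exact absurd (by linear_combination -t) μ0
    rw [tr1] at t
    obtain rfl : μ = 4 := by linear_combination -t
    rw [negM, map_mul, t1, one_mul, map_mul, map_mul, map_inv, r1, e1] at e3
    have h4 := h.conj (a⁻¹ * b⁻¹)⁻¹ _ _ (h.conj (ρ (slLo (-2))) y b hb)
    rw [e3, show (a⁻¹ * b⁻¹)⁻¹ * (a⁻¹ * b⁻¹ * w * (a⁻¹ * b⁻¹)⁻¹) * (a⁻¹ * b⁻¹)⁻¹⁻¹ = w by group] at h4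
    obtain ⟨k1, k2⟩ := h.same_of_mul ha h4 h3 ha'
    rwa [k2, ← k1] at h4
  obtain ⟨F, _, ρ, μ, hch, μ0, r1, r2, -⟩ := h.exists_ch hwx hb hr
  have e3 : ρ (slLo (-μ) * slUp 1 * slLo μ * slUp (-1)) = b⁻¹ * (w * b * w⁻¹) := by
    rw [map_mul, map_mul, map_mul, slUp_neg, slLo_neg, map_inv, map_inv, r1, r2]; group
  have e4 : ρ (slLo (-μ) * slUp 1 * slLo μ * slUp 1) = b⁻¹ * w * b * w := by
    rw [map_mul, map_mul, map_mul, slLo_neg, map_inv, r1, r2]
  have m2 : μ ^ 2 ≠ 0 := pow_ne_zero 2 μ0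
  have t1 := trace h hch (e3 ▸ p1)
  have t2 := trace h hch (e4 ▸ p2)
  rw [tr2] at t1 t2
  have t3 := (t1.resolve_left fun t => m2 (by linear_combination t)).1
  have t4 := (t2.resolve_left fun t => m2 (by linear_combination -t)).1
  have := hch.char
  have t5 : ((2 ^ 3 : ℕ) : F) = 0 := by push_cast; linear_combination t3 + t4
  have t6 := h.prime.dvd_of_dvd_pow ((CharP.cast_eq_zero_iff F p _).1 t5)
  have := Nat.le_of_dvd two_pos t6
  have := h.five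
  omega

end Cfsg.Agent.PT
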