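import Mathlib
import Cfsg.Agent.PT.TL
import Cfsg.Agent.PT.B3

set_option autoImplicit false
set_option linter.unusedSectionVars false
set_option linter.unusedVariables false

namespace Cfsg.Agent.PT

open Subgroup MulAction Cfsg.Agent.GT Cfsg.Agent.TT Cfsg.Agent.Perm.TT Cfsg.Agent.Perm.TwoCount
open Cfsg.Agent.KS (St NT)
open scoped MatrixGroups commutatorElement

universe u v

variable {G : Type u} {Ω : Type v} [Group G] [MulAction G Ω] [Finite G] [Finite Ω]
  {E : Ω → Set G} {p : ℕ} {x y x' y' c : Ω} {a b a' b' d g : G}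

variable {w k e : G}

namespace A1

/-- monomials in three commuting elements -/
def f (a w e : G) (i j l : ℤ) : G := a ^ i * w ^ j * e ^ l

theorem f_mul (t : Tl p a b w k e) (i j l i' j' l' : ℤ) :
    f a w e i j l * f a w e i' j' l' = f a w e (i + i') (j + j') (l + l') := by
  have h1 : Commute (e ^ l) (a ^ i' * w ^ j') := (t.ea.zpow_zpow _ _).mul_right (t.ew.zpow_zpow _ _)
  have h2 : Commute (w ^ j) (a ^ i') := t.aw.symm.zpow_zpow _ _
  rw [f, f, f, h1.mul_mul_mul_comm, h2.mul_mul_mul_comm, zpow_add, zpow_add, zpow_add]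

theorem f_pow (t : Tl p a b w k e) (i j l : ℤ) (n : ℕ) : f a w e i j l ^ n = f a w e (n * i) (n * j) (n * l) := by
  induction n with
  | zero => simp [f]
  | succ n ih => rw [pow_succ, ih, f_mul t]; push_cast; simp only [add_mul, one_mul]

theorem f_conj (t : Tl p a b w k e) (i : ℕ) : k ^ i * a * (k ^ i)⁻¹ = f a w e 1 i (-(i.choose 2 : ℕ)) := by
  rw [t.conj_pow, f, zpow_one, zpow_neg, zpow_natCast, zpow_natCast]

theorem swap (h : TG E p) (hr : ¬ R E x y) : ∃ g : G, g • x = y ∧ ∀ c, R E x c → R E y c → g • c = c := by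
  obtain ⟨a, ha⟩ := h.ne x
  obtain ⟨b, hb⟩ := h.exists_pa ha hr
  exact ⟨_, (h.nn_swap ha hr hb).1, (h.nn_swap ha hr hb).2.2⟩

end A1

namespace TG

variable (h : TG E p)
include h

theorem step1 (t : Tl p a b w k e) (ha : a ∈ E x) (ha' : a * w ∈ E x') (hd : d ∈ E c)
    (h1 : Commute d a) (h2 : Commute d (a * w)) (i : ℕ) : Commute d (k ^ i * a * (k ^ i)⁻¹) := by
  have hw : Commute d w := by simpa using h1.inv_right.mul_right h2
  have m : ∀ i : ℕ, A1.f a w e 1 i (-(i.choose 2 : ℕ)) ∈ E (k ^ i • x) := fun i => A1.f_conj t i ▸ h.conj _ _ _ ha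
  suffices he : Commute d e by
    rw [t.conj_pow]
    exact (h1.mul_right (hw.pow_right _)).mul_right (he.pow_right _).inv_right
  have m2 : A1.f a w e 1 2 (-1) ∈ E (k ^ 2 • x) := m 2
  by_contra he
  have n2 : ¬ Commute (A1.f a w e 1 2 (-1)) d := fun c => he (by
    have := (((h1.zpow_right 1).mul_right (hw.zpow_right 2)).inv_right.mul_right c.symm).inv_right
    simpa [A1.f, mul_assoc] using this)
  have key : ∀ (n : ℕ) (s r : ℤ) (z : Ω), n.Coprime p → A1.f a w e (n * 1 + s) (n * 2 + r) (n * -1 + 0) ∈ E z →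
      A1.f a w e s r 0 = 1 := fun n s r z co hz => by
    rw [← A1.f_mul t, ← A1.f_pow t] at hz
    have c1 : Commute (A1.f a w e s r 0) d :=
      (((h1.zpow_right s).mul_right (hw.zpow_right r)).mul_right (by rw [zpow_zero]; exact Commute.one_right _)).symm
    refine h.eq_one_of_prod m2 hd (fun k => n2 ((h.R_iff m2 hd).1 k)) (pow_mem (subset_closure (by simp)) n) ?_ c1 ?_ hz
      fun c => n2 ?_
    · rw [Commute, SemiconjBy, A1.f_mul t, A1.f_mul t, add_comm s, add_comm r, add_comm 0]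
    · rw [A1.f_pow t, A1.f, zpow_mul, zpow_mul, zpow_natCast, zpow_natCast, t.ap, t.wp]; simp
    · have c2 : Commute (A1.f a w e 1 2 (-1) ^ n) d := by simpa using c.mul_left c1.inv_left
      obtain ⟨q, hq⟩ := exists_pow_eq_self_of_coprime (x := A1.f a w e 1 2 (-1)) (n := n) (by rwa [h.ord _ _ m2])
      exact hq ▸ c2.pow_left q
  have h5 := h.five
  have c6 : Nat.Coprime 6 p := by
    refine Nat.Coprime.mul_left (m := 2) (n := 3) ?_ ?_
    · exact (Nat.coprime_primes Nat.prime_two h.prime).2 (by omega)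
    · exact (Nat.coprime_primes Nat.prime_three h.prime).2 (by omega)
  have k3 := key 3 (-2) (-3) _ (c6.coprime_dvd_left (by norm_num)) (m 3)
  have k4 := key 6 (-5) (-8) _ c6 (m 4)
  have e3 := A1.f_pow t (-2) (-3) 0 5
  have e4 := A1.f_pow t (-5) (-8) 0 2
  have e5 := A1.f_mul t (-10) (-16) 0 0 1 0
  rw [k3, one_pow] at e3
  rw [k4, one_pow] at e4
  norm_num at e3 e4 e5
  rw [← e3, ← e4, one_mul] at e5
  exact t.ne (by simpa [A1.f] using e5)

theorem tl_lin (t : Tl p a b w k e) (ha : a ∈ E x) (ha' : a * w ∈ E x') (i : ℕ) :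
    k ^ i • x ∈ lin (R E) x x' := fun c hc => by
  obtain ⟨d, hd⟩ := h.ne c
  exact (h.R_iff hd (h.conj _ _ _ ha)).2 (h.step1 t ha ha' hd (hc x (by simp) a ha d hd).symm
    (hc x' (by simp) _ ha' d hd).symm i)

theorem tl_ne (t : Tl p a b w k e) (ha : a ∈ E x) (ha' : a * w ∈ E x') (hx : x ≠ x') {i : ℤ}
    (hi : k ^ i • x = x) : (p : ℤ) ∣ i := by
  by_contra hn
  obtain ⟨u, v, e⟩ := (Nat.prime_iff_prime_int.1 h.prime).coprime_iff_not_dvd.2 hn
  have h1 : k = (k ^ i) ^ v := by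
    calc k = k ^ (p * u + i * v : ℤ) := by rw [mul_comm _ u, mul_comm _ v, e, zpow_one]
      _ = _ := by rw [zpow_add, zpow_mul, zpow_mul, zpow_natCast, t.cp, one_zpow, one_mul]
  have h2 : k ∈ stabilizer G x := h1 ▸ Subgroup.zpow_mem _ (show k ^ i ∈ stabilizer G x from hi) v
  exact hx (h2.symm.trans (h.smul_eq ha (t.ca ▸ ha')))

theorem thick (hr : R E x y) (hxy : x ≠ y) : ∃ c ∈ lin (R E) x y, c ≠ x ∧ c ≠ y := by
  obtain ⟨z, h1, h2⟩ := h.opp2 x y
  obtain ⟨b, hb⟩ := h.ne z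
  obtain ⟨a, ha, br⟩ := h.exists_pa hb fun k => h1 (h.R_symm k)
  obtain ⟨a', ha', br'⟩ := h.exists_pa hb fun k => h2 (h.R_symm k)
  obtain ⟨k, e, t⟩ := h.tl ha ha' hb (fun e => hxy (h.mem_unique ha (e ▸ ha'))) (hr a ha a' ha') br.symm br'.symm
  have m : a * (a⁻¹ * a') ∈ E y := by rwa [mul_inv_cancel_left]
  have h5 := h.five
  refine ⟨_, h.tl_lin t ha m 2, fun e => ?_, fun e => ?_⟩
  · have := Int.le_of_dvd (by norm_num) (h.tl_ne t ha m hxy (i := 2) (by rwa [zpow_two, ← pow_two]))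
    omega
  · have e1 : k • x = y := h.smul_eq ha (t.ca ▸ m)
    rw [pow_two, mul_smul, ← e1, smul_left_cancel_iff] at e
    exact hxy (e.symm.trans e1)

theorem line (hr : R E x y) (hxy : x ≠ y) (hc : c ∈ lin (R E) x y) (hcx : c ≠ x) :
    pp (R E) {x, c} = pp (R E) {x, y} := by
  have mem : ∀ {s t u : Ω}, u ∈ pp (R E) {s, t} ↔ R E s u ∧ R E t u := fun {s t u} => by simp [pp]
  have sub : pp (R E) {x, y} ⊆ pp (R E) {x, c} := fun u hu => mem.2 ⟨(mem.1 hu).1, h.R_symm (hc u hu)⟩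
  have xc : R E x c := hc x (mem.2 ⟨h.R_refl x, h.R_symm hr⟩)
  obtain ⟨u, h1, h2⟩ : ∃ u, R E x u ∧ ¬ R E c u := by
    by_contra hn
    push Not at hn
    exact hcx (h.nd0 hn).symm
  have h3 : ¬ R E u y := fun k => h2 (mem.1 (sub (mem.2 ⟨h1, h.R_symm k⟩))).2
  obtain ⟨g1, e1, f1⟩ := A1.swap h h2
  obtain ⟨g2, e2, f2⟩ := A1.swap h h3
  have gx : (g2 * g1) • x = x := by
    rw [mul_smul, f1 x (h.R_symm xc) (h.R_symm h1), f2 x (h.R_symm h1) (h.R_symm hr)]
  have gc : (g2 * g1) • c = y := by rw [mul_smul, e1, e2]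
  refine (Set.eq_of_subset_of_ncard_le sub (Set.ncard_le_ncard_of_injOn ((g2 * g1) • ·) (fun δ hδ => mem.2 ?_)
    (MulAction.injective _).injOn)).symm
  have k1 := (h.R_smul (g2 * g1)).2 (mem.1 hδ).1
  have k2 := (h.R_smul (g2 * g1)).2 (mem.1 hδ).2
  rw [gx] at k1
  rw [gc] at k2
  exact ⟨k1, k2⟩

end TG

end Cfsg.Agent.PT
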