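import Mathlib
import Cfsg.Agent.PT.A1

set_option autoImplicit false
set_option linter.unusedSectionVars false

namespace Cfsg.Agent.PT

open Subgroup MulAction Cfsg.Agent.GT Cfsg.Agent.TT Cfsg.Agent.Perm.TT Cfsg.Agent.Perm.TwoCount
open Cfsg.Agent.KS (St NT)
open scoped MatrixGroups commutatorElement

universe u v

variable {G : Type u} {Ω : Type v} [Group G] [MulAction G Ω] [Finite G] [Finite Ω]
  {E : Ω → Set G} {p : ℕ} {x y x' y' c : Ω} {a b a' b' d g : G}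

namespace A2

theorem mem_pp {S : Ω → Ω → Prop} : c ∈ pp S {x, y} ↔ S x c ∧ S y c := by simp [pp]

theorem lin_comm {S : Ω → Ω → Prop} (x y : Ω) : lin S x y = lin S y x := by rw [lin, lin, Set.pair_comm]

variable (h : TG E p)
include h

theorem left_mem (x y : Ω) : x ∈ lin (R E) x y := fun _ hz => h.R_symm (mem_pp.1 hz).1

theorem right_mem (x y : Ω) : y ∈ lin (R E) x y := fun _ hz => h.R_symm (mem_pp.1 hz).2

theorem R_left (hr : R E x y) (hc : c ∈ lin (R E) x y) : R E x c := hc x (mem_pp.2 ⟨h.R_refl x, h.R_symm hr⟩)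

theorem R_right (hr : R E x y) (hc : c ∈ lin (R E) x y) : R E y c := hc y (mem_pp.2 ⟨hr, h.R_refl y⟩)

theorem smul_pp (g : G) : g • c ∈ pp (R E) {g • x, g • y} ↔ c ∈ pp (R E) {x, y} := by
  rw [mem_pp, mem_pp, h.R_smul, h.R_smul]

theorem tl (hr : R E x x') (hx : x ≠ x') (hb : b ∈ E y) (ha : a ∈ E x) (ha' : a' ∈ E x') (h1 : Br a b) (h2 : Br a' b) :
    ∃ w k e, Tl p a b w k e ∧ a * w = a' ∧ k • y = y ∧ k • x = x' := by
  obtain ⟨k, e, t⟩ := h.tl ha ha' hb (fun k => hx (h.mem_unique ha (k ▸ ha'))) (hr a ha a' ha') h1 h2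
  have e1 : a * (a⁻¹ * a') = a' := by group
  exact ⟨_, k, e, t, e1, h.fix_of_commute hb t.bc.symm, h.smul_eq ha (by rw [t.ca, e1]; exact ha')⟩

theorem not_two : ¬ (p : ℤ) ∣ 2 := fun k => by
  have := Int.le_of_dvd (by norm_num) k
  have := h.five
  omega

theorem lemF (hr : R E x x') (hx : x ≠ x') (hy' : ¬ R E y x') (hb : b ∈ E y) (ha : a ∈ Pa E b x) :
    zz a b • x' ≠ x' := fun k0 => by
  obtain ⟨a', ha'⟩ := h.exists_pa hb hy'
  obtain ⟨w, k, e, t, e1, -, e3⟩ := tl h hr hx hb ha.1 ha'.1 ha.2.symm ha'.2.symm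
  have e4 : zz a b • x' = k⁻¹ • x := h.smul_eq ha'.1 (by
    rw [← e1, t.za]; simpa using h.conj k⁻¹ x a ha.1)
  refine not_two h (h.tl_ne t ha.1 (e1 ▸ ha'.1) hx ?_)
  rw [zpow_two, mul_smul, e3, ← k0, e4, smul_inv_smul]

theorem lemG (hr : R E x x') (hx : x ≠ x') (bad : ∀ c ∈ lin (R E) x x', ¬ R E c y) (h1 : R E x c) (h2 : R E y c) :
    R E x' c := by
  by_contra h0
  obtain ⟨b, hb⟩ := h.ne y
  have y1 : ¬ R E y x := fun k => bad x (left_mem h x x') (h.R_symm k)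
  have y0 : ¬ R E y x' := fun k => bad x' (right_mem h x x') (h.R_symm k)
  obtain ⟨a₁, ha₁⟩ := h.exists_pa hb y1
  obtain ⟨a₀, ha₀⟩ := h.exists_pa hb y0
  obtain ⟨w, k, e, t, e1, -, -⟩ := tl h (h.R_symm hr) hx.symm hb ha₀.1 ha₁.1 ha₀.2.symm ha₁.2.symm
  have zq := (h.zz_sq ha₁.1 (fun k => y1 (h.R_symm k)) ⟨hb, ha₁.2.symm⟩).1
  have z1 := t.z1a
  rw [e1] at z1
  have l2 := h.tl_lin t ha₀.1 (e1 ▸ ha₁.1) 2
  have n2 : k ^ 2 • x' ≠ x' := fun k0 => not_two h (h.tl_ne t ha₀.1 (e1 ▸ ha₁.1) hx.symm (by rw [zpow_two, ← sq]; exact k0))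
  obtain ⟨d, hd⟩ := h.exists_pa ha₀.1 h0
  have zd : Commute (zz a₁ b) d :=
    have k1 : Commute (nn a₁ b) d :=
      ((h1 a₁ ha₁.1 d hd.1).mul_left (h2 b hb d hd.1)).mul_left (h1 a₁ ha₁.1 d hd.1)
    k1.mul_left k1
  generalize hz : zz a₁ b = z at zq z1 zd
  have ha₂ := h.conj z x' a₀ ha₀.1
  have x2 : z • x' = k ^ 2 • x' := h.mem_unique ha₂ (z1 ▸ h.conj (k ^ 2) x' a₀ ha₀.1)
  rw [← x2] at l2 n2
  have hd₂ := (h.pa_conj hd z).2
  rw [zd.mul_inv_cancel] at hd₂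
  have r2 := R_left h (h.R_symm hr) l2
  obtain ⟨w', k', e', t', f1, f2, f3⟩ := tl h r2 n2.symm hd.1 ha₀.1 ha₂ hd.2 hd₂
  have zi : z⁻¹ = z := inv_eq_of_mul_eq_one_right zq
  have zw : z * w' * z⁻¹ = w'⁻¹ := by
    have : w' = a₀⁻¹ * (z * a₀ * z⁻¹) := by rw [← f1]; group
    rw [this, show z * (a₀⁻¹ * (z * a₀ * z⁻¹)) * z⁻¹ = z * a₀⁻¹ * z * a₀ * (z * z)⁻¹ by group, zq]
    rw [show (a₀⁻¹ * (z * a₀ * z⁻¹))⁻¹ = z * a₀⁻¹ * z⁻¹ * a₀ by group, zi]; group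
  have zk : z * k' * z⁻¹ = k'⁻¹ * e' := by
    rw [← t'.symm_c, ← zw, t'.cdef]
    calc z * ((w' * d * w'⁻¹)⁻¹ * d) * z⁻¹ = (z * w' * z⁻¹ * (z * d * z⁻¹) * (z * w' * z⁻¹)⁻¹)⁻¹ * (z * d * z⁻¹) := by group
      _ = _ := by rw [zd.mul_inv_cancel]
  obtain ⟨m, hm⟩ : ∃ m, p + 1 = m + m := (h.prime.odd_of_ne_two (by have := h.five; omega)).add_one
  have e2 : e' ^ m • z • x' = z • x' := h.fix_of_commute ha₂ (by rw [← f1]; exact (t'.ea.mul_right t'.ew).pow_left m)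
  have fx : z • k' ^ m • x' = k' ^ m • x' := by
    have k2 : k' ^ m * k' ^ m = k' := by rw [← pow_add, ← hm, pow_succ, t'.cp, one_mul]
    calc z • k' ^ m • x' = (z * k' * z⁻¹) ^ m • z • x' := by rw [conj_pow]; simp [← mul_smul]
      _ = (k' ^ m)⁻¹ • k' • x' := by rw [zk, t'.ec.symm.inv_left.mul_pow, mul_smul, e2, f3, inv_pow]
      _ = _ := by
        nth_rewrite 2 [← k2]
        rw [mul_smul, inv_smul_smul]
  have l3 := h.tl_lin t' ha₀.1 (f1 ▸ ha₂) m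
  rw [lin, h.line (h.R_symm hr) hx.symm l2 n2, ← lin, lin_comm] at l3
  have o3 : ¬ R E (k' ^ m • x') c := by
    rw [← h.fix_of_commute hd.1 (t'.bc.symm.pow_left m), h.R_smul]; exact h0
  exact lemF h (R_left h hr l3) (fun k => o3 (k ▸ h1)) (fun k => bad _ l3 (h.R_symm k)) hb ha₁ (hz ▸ fx)

/-- The adjacency. -/
def Ad (E : Ω → Set G) (H : Set Ω) (u v : Ω) : Prop := u ∈ pp (R E) H \ H ∧ v ∈ pp (R E) H \ H ∧ R E u v

theorem Ad_smul {H : Set Ω} (hg : ∀ z, g • z ∈ H ↔ z ∈ H) {u v : Ω} (k : Relation.ReflTransGen (Ad E H) u v) :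
    Relation.ReflTransGen (Ad E H) (g • u) (g • v) := by
  have T : ∀ u, u ∈ pp (R E) H \ H → g • u ∈ pp (R E) H \ H := fun u hu =>
    ⟨fun z hz => by
      rw [← smul_inv_smul g z, h.R_smul]
      exact hu.1 _ ((hg _).1 (by rwa [smul_inv_smul])), fun k => hu.2 ((hg u).1 k)⟩
  induction k with
  | refl => exact .refl
  | tail _ k ih => exact ih.tail ⟨T _ k.1, T _ k.2.1, (h.R_smul g).2 k.2.2⟩

theorem Ad_symm {H : Set Ω} {u v : Ω} (k : Relation.ReflTransGen (Ad E H) u v) : Relation.ReflTransGen (Ad E H) v u := by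
  induction k with
  | refl => exact .refl
  | tail _ k ih => exact .head ⟨k.2.1, k.1, h.R_symm k.2.2⟩ ih

/-- The stabilizer of the component. -/
def NN (H : Set Ω) (x : Ω) : Subgroup G where
  carrier := {g | (∀ z, g • z ∈ H ↔ z ∈ H) ∧ Relation.ReflTransGen (Ad E H) x (g • x)}
  one_mem' := ⟨fun z => by rw [one_smul], by rw [one_smul]⟩
  mul_mem' := fun {a b} ha hb => ⟨fun z => by rw [mul_smul, ha.1, hb.1], by
    rw [mul_smul]; exact ha.2.trans (Ad_smul h ha.1 hb.2)⟩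
  inv_mem' := fun {a} ha => by
    have k : ∀ z, a⁻¹ • z ∈ H ↔ z ∈ H := fun z => by rw [← ha.1, smul_inv_smul]
    refine ⟨k, ?_⟩
    have := Ad_smul h k ha.2
    rw [inv_smul_smul] at this
    exact Ad_symm h this

theorem comp (hy : ¬ R E y x) (k : Relation.ReflTransGen (Ad E (pp (R E) {x, y})) x c) :
    ¬ R E y c ∧ pp (R E) {c, y} = pp (R E) {x, y} := by
  induction k with
  | refl => exact ⟨hy, rfl⟩
  | @tail ξ η _ k ih =>
    have o : ¬ R E y η := fun r => k.2.1.2 (ih.2 ▸ mem_pp.2 ⟨k.2.2, r⟩)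
    refine ⟨o, ?_⟩
    by_cases e : ξ = η
    · exact e ▸ ih.2
    obtain ⟨b, hb⟩ := h.ne y
    obtain ⟨a, ha⟩ := h.exists_pa hb ih.1
    obtain ⟨a', ha'⟩ := h.exists_pa hb o
    obtain ⟨w, k', e', -, -, e2, e3⟩ := tl h k.2.2 e hb ha.1 ha'.1 ha.2.symm ha'.2.symm
    refine (Set.eq_of_subset_of_ncard_le (fun z hz => mem_pp.2 ⟨h.R_symm (k.2.1.1 z hz), (mem_pp.1 hz).2⟩) ?_
      (Set.toFinite _)).symm
    rw [← ih.2]
    refine Set.ncard_le_ncard_of_injOn (fun z => k'⁻¹ • z) (fun z hz => ?_)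
      (fun a _ b _ e => MulAction.injective k'⁻¹ e) (Set.toFinite _)
    rw [← smul_pp h k', smul_inv_smul, e2, e3]; exact hz

theorem mem_NN (hy : ¬ R E y x) (h1 : g • y = y) (k : Relation.ReflTransGen (Ad E (pp (R E) {x, y})) x (g • x)) :
    g ∈ NN h (pp (R E) {x, y}) x :=
  ⟨fun z => by rw [← smul_pp h g (c := z), h1, (comp h hy k).2], k⟩

omit h in
theorem comm_le {M : Subgroup G} (hM : ∀ m ∈ M, Commute b m) {u u' : G} (hu : u ∈ M) (hu' : u' ∈ M) :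
    ⁅closure ({b * u, b * u'} : Set G), closure ({b * u, b * u'} : Set G)⁆ ≤ M := by
  have c : ∀ z ∈ zpowers b, ∀ m ∈ M, Commute z m := by
    rintro _ ⟨i, rfl⟩ m hm
    exact (hM m hm).zpow_left i
  have k : ∀ g ∈ closure ({b * u, b * u'} : Set G), ∃ z ∈ zpowers b, ∃ m ∈ M, g = z * m := fun g hg => by
    induction hg using closure_induction with
    | mem x hx =>
      rcases hx with rfl | rfl
      · exact ⟨b, mem_zpowers b, u, hu, rfl⟩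
      · exact ⟨b, mem_zpowers b, u', hu', rfl⟩
    | one => exact ⟨1, one_mem _, 1, one_mem _, by simp⟩
    | mul x y _ _ hx hy =>
      obtain ⟨z, hz, m, hm, rfl⟩ := hx
      obtain ⟨z', hz', m', hm', rfl⟩ := hy
      exact ⟨z * z', mul_mem hz hz', m * m', mul_mem hm hm', (c z' hz' m hm).symm.mul_mul_mul_comm z m'⟩
    | inv x _ hx =>
      obtain ⟨z, hz, m, hm, rfl⟩ := hx
      exact ⟨z⁻¹, inv_mem hz, m⁻¹, inv_mem hm, (c z hz m hm).mul_inv⟩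
  refine commutator_le.2 fun g hg g' hg' => ?_
  obtain ⟨z, hz, m, hm, rfl⟩ := k g hg
  obtain ⟨z', hz', m', hm', rfl⟩ := k g' hg'
  have zz' : Commute z z' := by
    obtain ⟨i, rfl⟩ := hz
    obtain ⟨j, rfl⟩ := hz'
    exact Commute.zpow_zpow_self b i j
  have e1 : z * (m * (z' * m') * m⁻¹) * z⁻¹ = m * (z' * m') * m⁻¹ :=
    (((c z hz m hm).mul_right (zz'.mul_right (c z hz m' hm'))).mul_right (c z hz m hm).inv_right).mul_inv_cancel
  have e2 : z'⁻¹ * (m * z') = m := by rw [← (c z' hz' m hm).eq]; group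
  have e3 : z' * (m * m' * m⁻¹ * m'⁻¹) * z'⁻¹ = m * m' * m⁻¹ * m'⁻¹ :=
    (c z' hz' _ (mul_mem (mul_mem (mul_mem hm hm') (inv_mem hm)) (inv_mem hm'))).mul_inv_cancel
  have : ⁅z * m, z' * m'⁆ = m * m' * m⁻¹ * m'⁻¹ :=
    calc ⁅z * m, z' * m'⁆ = z * (m * (z' * m') * m⁻¹) * z⁻¹ * (z' * m')⁻¹ := by rw [commutatorElement_def]; group
      _ = z' * (z'⁻¹ * (m * z') * m' * m⁻¹ * m'⁻¹) * z'⁻¹ := by rw [e1]; group
      _ = _ := by rw [e2, e3]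
  rw [this]
  exact mul_mem (mul_mem (mul_mem hm hm') (inv_mem hm)) (inv_mem hm')

end A2

open A2 in
theorem TG.one (h : TG E p) (hr : R E x x') (hx : x ≠ x') (y : Ω) :
    ∃ c ∈ lin (R E) x x', R E c y := by
  by_contra bad
  push Not at bad
  have y1 : ¬ R E y x := fun k => bad x (left_mem h x x') (h.R_symm k)
  have y0 : ¬ R E y x' := fun k => bad x' (right_mem h x x') (h.R_symm k)
  obtain ⟨δ, d1, d0⟩ : ∃ δ, R E x δ ∧ ¬ R E x' δ := by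
    by_contra k
    push Not at k
    exact hx (h.nd0 k)
  have yd : ¬ R E y δ := fun k => d0 (lemG h hr hx bad d1 k)
  have xd : x ≠ δ := fun k => d0 (k ▸ h.R_symm hr)
  have bad' : ∀ c ∈ lin (R E) x δ, ¬ R E c y := fun c hc k => by
    have r := R_left h d1 hc
    have e := h.line d1 xd hc fun e => y1 (h.R_symm (e ▸ k))
    exact d0 (h.R_symm (mem_pp.1 (e ▸ mem_pp.2 ⟨hr, h.R_symm (lemG h hr hx bad r (h.R_symm k))⟩)).2)
  have Tx : x ∈ pp (R E) (pp (R E) {x, y}) \ pp (R E) {x, y} :=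
    ⟨fun z hz => h.R_symm (mem_pp.1 hz).1, fun k => y1 (mem_pp.1 k).2⟩
  obtain ⟨b, hb⟩ := h.ne y
  obtain ⟨a₁, ha₁⟩ := h.exists_pa hb y1
  have key : ∀ c, R E x c → x ≠ c → (∀ c' ∈ lin (R E) x c, ¬ R E c' y) → ¬ R E y c → ∃ a ∈ E c,
      ∃ u ∈ NN h (pp (R E) {x, y}) x ⊓ centralizer {b}, nn a₁ b * a * (nn a₁ b)⁻¹ = b * u := fun c r n bd o => by
    obtain ⟨a, ha⟩ := h.exists_pa hb o
    obtain ⟨w, k, e, t, e1, e2, e3⟩ := A2.tl h r n hb ha₁.1 ha.1 ha₁.2.symm ha.2.symm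
    refine ⟨a, ha.1, k * e⁻¹, mul_mem ⟨mem_NN h y1 e2 (.single ⟨Tx, ⟨fun z hz => ?_, fun k => o ?_⟩, e3 ▸ r⟩),
      mem_centralizer_singleton_iff.2 t.bc.symm.eq⟩ (Subgroup.inv_mem _ ⟨mem_NN h y1 (h.fix_of_commute hb t.eb) ?_,
      mem_centralizer_singleton_iff.2 t.eb.eq⟩), e1 ▸ t.na⟩
    · rw [e3]; exact h.R_symm (lemG h r n bd (mem_pp.1 hz).1 (mem_pp.1 hz).2)
    · rw [e3] at k; exact (mem_pp.1 k).2
    · rw [h.fix_of_commute ha₁.1 t.ea]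
  obtain ⟨a₀, ha₀, u, hu, e0⟩ := key x' hr hx bad y0
  obtain ⟨d, hd, u', hu', e1⟩ := key δ d1 xd bad' yd
  have k := h.mem_commutator (h.conj (nn a₁ b) _ _ ha₀) (h.conj (nn a₁ b) _ _ hd) (by rwa [h.R_smul])
  rw [e0, e1] at k
  have hbN : b ∈ NN h (pp (R E) {x, y}) x := (Subgroup.mul_mem_cancel_right _ hu.1).1
    (comm_le (M := NN h (pp (R E) {x, y}) x ⊓ centralizer {b})
      (fun m hm => (mem_centralizer_singleton_iff.1 hm.2).symm) hu hu' k).1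
  have fx : ∀ z ∈ pp (R E) {x, y}, ∀ g ∈ Z E x, g • z = z := fun z hz g hg => h.Z_fix (mem_pp.1 hz).1 hg
  have haN : a₁ ∈ NN h (pp (R E) {x, y}) x := by
    refine ⟨fun z => ⟨fun hz => ?_, fun hz => by rwa [fx z hz _ (h.mem_Z ha₁.1)]⟩, ?_⟩
    · rwa [← fx _ hz _ ((Z E x).inv_mem (h.mem_Z ha₁.1)), inv_smul_smul] at hz
    · rw [h.fix_of_commute ha₁.1 (Commute.refl a₁)]
  have hn : nn a₁ b ∈ NN h (pp (R E) {x, y}) x := mul_mem (mul_mem haN hbN) haN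
  have := (comp h y1 hn.2).1
  rw [(h.nn_swap ha₁.1 (fun k => y1 (h.R_symm k)) ⟨hb, ha₁.2.symm⟩).1] at this
  exact this (h.R_refl y)

end Cfsg.Agent.PT
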