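import Mathlib
import Cfsg.Agent.PT.A2

set_option autoImplicit false
set_option linter.unusedSectionVars false
set_option linter.unusedVariables false

namespace Cfsg.Agent.PT

open Subgroup MulAction Cfsg.Agent.GT Cfsg.Agent.TT Cfsg.Agent.Perm.TT Cfsg.Agent.Perm.TwoCount
open Cfsg.Agent.KS (St NT)
open scoped MatrixGroups commutatorElement

universe u v

variable {G : Type u} {Ω : Type v} [Group G] [MulAction G Ω] [Finite G] [Finite Ω]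
  {E : Ω → Set G} {p : ℕ} {x y x' y' c : Ω} {a b a' b' d g : G}

variable {n : ℕ} {u v : Fin n → Ω} {s t : Ω}

namespace A3

variable {A : Set Ω} {z : Ω}

theorem mem_pp2 {r : Ω → Ω → Prop} : z ∈ pp r {x, y} ↔ r x z ∧ r y z := by simp [pp]

theorem mem_ins {r : Ω → Ω → Prop} : z ∈ pp r (insert x (insert y A)) ↔ r x z ∧ r y z ∧ z ∈ pp r A := by simp [pp]

theorem mem_lin {r : Ω → Ω → Prop} : c ∈ lin r x y ↔ ∀ z, r x z → r y z → r z c :=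
  ⟨fun k z h1 h2 => k z (mem_pp2.2 ⟨h1, h2⟩), fun k z hz => k z (mem_pp2.1 hz).1 (mem_pp2.1 hz).2⟩

omit [Finite Ω] in
theorem lin_comm {r : Ω → Ω → Prop} : lin r x y = lin r y x := by rw [lin, lin, Set.pair_comm]

/-- Every point of the residue has an opposite point in the residue. -/
def Gd (E : Ω → Set G) (A : Set Ω) : Prop := ∀ s ∈ pp (R E) A, ∃ t ∈ pp (R E) A, ¬ R E s t

/-- The group generated by the root elements of the residue. -/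
def WA (E : Ω → Set G) (A : Set Ω) : Subgroup G := closure {a | ∃ c ∈ pp (R E) A, a ∈ E c}

variable (h : TG E p)
include h

theorem lin_sub (hs : s ∈ pp (R E) A) (ht : t ∈ pp (R E) A) (hc : c ∈ lin (R E) s t) : c ∈ pp (R E) A :=
  fun a ha => mem_lin.1 hc a (h.R_symm (hs a ha)) (h.R_symm (ht a ha))

theorem third (hr : R E x y) (hxy : x ≠ y) (hc : c ∈ lin (R E) x y) (hcx : c ≠ x) (h1 : R E x z) (h2 : R E c z) :
    R E y z := (mem_pp2.1 (h.line hr hxy hc hcx ▸ mem_pp2.2 ⟨h1, h2⟩)).2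

theorem fixA (hg : g ∈ WA E A) (hz : z ∈ A) : g • z = z := by
  have : WA E A ≤ stabilizer G z := (closure_le _).2 (by
    rintro a ⟨c, hc, ha⟩
    exact h.Z_fix (h.R_symm (hc z hz)) (h.mem_Z ha))
  exact this hg

theorem smul_pp (hg : g ∈ WA E A) (hs : s ∈ pp (R E) A) : g • s ∈ pp (R E) A := fun z hz => by
  rw [← fixA h hg hz, h.R_smul]
  exact hs z hz

theorem weyl (hs : s ∈ pp (R E) A) (ht : t ∈ pp (R E) A) (hr : ¬ R E s t) : ∃ g ∈ WA E A, g • s = t := by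
  obtain ⟨a, ha⟩ := h.ne s
  obtain ⟨b, hb⟩ := h.exists_pa ha hr
  have m1 : a ∈ WA E A := subset_closure ⟨s, hs, ha⟩
  have m2 : b ∈ WA E A := subset_closure ⟨t, ht, hb.1⟩
  exact ⟨nn a b, mul_mem (mul_mem m1 m2) m1, (h.nn_swap ha hr hb).1⟩

theorem weyl2 (hs : s ∈ pp (R E) A) (ht : t ∈ pp (R E) A) (hz : z ∈ pp (R E) A) (h1 : ¬ R E s z)
    (h2 : ¬ R E t z) : ∃ g ∈ WA E A, g • s = t := by
  obtain ⟨g, hg, e⟩ := weyl h hs hz h1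
  obtain ⟨g', hg', e'⟩ := weyl h hz ht fun k => h2 (h.R_symm k)
  exact ⟨g' * g, mul_mem hg' hg, by rw [mul_smul, e, e']⟩

theorem eqv (hg : g ∈ WA E A) (e : g • s = x) (k : ∀ c ∈ pp (R E) A, R E x c → R E s c) :
    ∀ c ∈ pp (R E) A, R E s c → R E x c := by
  have h1 : {c | c ∈ pp (R E) A ∧ R E x c} ⊆ {c | c ∈ pp (R E) A ∧ R E s c} := fun c hc => ⟨hc.1, k c hc.1 hc.2⟩
  have h2 : {c | c ∈ pp (R E) A ∧ R E s c}.ncard ≤ {c | c ∈ pp (R E) A ∧ R E x c}.ncard :=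
    Set.ncard_le_ncard_of_injOn (g • ·) (fun c hc => ⟨smul_pp h hg hc.1, e ▸ (h.R_smul g).2 hc.2⟩)
      (MulAction.injective g).injOn
  have h3 := Set.eq_of_subset_of_ncard_le h1 h2
  intro c hc hs
  have : c ∈ {c | c ∈ pp (R E) A ∧ R E x c} := h3 ▸ ⟨hc, hs⟩
  exact this.2

theorem proj (hxy : ¬ R E x y) (hc : R E x c) (hcx : c ≠ x) :
    ∃ c' ∈ lin (R E) x c, R E x c' ∧ R E y c' ∧ pp (R E) {x, c'} = pp (R E) {x, c} := by
  obtain ⟨c', h1, h2⟩ := h.one hc hcx.symm y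
  exact ⟨c', h1, mem_lin.1 h1 x (h.R_refl x) (h.R_symm hc), h.R_symm h2,
    h.line hc hcx.symm h1 fun e => hxy (e ▸ h2)⟩

theorem step (gd : Gd E A) (hx : x ∈ pp (R E) A) (hy : y ∈ pp (R E) A) (hxy : ¬ R E x y) :
    Gd E (insert x (insert y A)) := fun s hs => by
  by_contra hn
  push Not at hn
  obtain ⟨s1, s2, s3⟩ := mem_ins.1 hs
  have k : ∀ c ∈ pp (R E) A, R E x c → R E s c := fun c hc hr => by
    by_cases e : c = x
    · exact e ▸ h.R_symm s1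
    obtain ⟨c', k1, k2, k3, k4⟩ := proj h hxy hr e
    have := hn c' (mem_ins.2 ⟨k2, k3, lin_sub h hx hc k1⟩)
    exact h.R_symm (mem_pp2.1 (k4 ▸ mem_pp2.2 ⟨s1, h.R_symm this⟩)).2
  obtain ⟨δ, h1, h2⟩ := gd s s3
  obtain ⟨g, hg, e⟩ := weyl2 h s3 hx h1 h2 fun r => h2 (k δ h1 r)
  exact hxy (eqv h hg e k y hy (h.R_symm s2))

theorem nd (gd : Gd E A) (hs : s ∈ pp (R E) A) (ht : t ∈ pp (R E) A)
    (hst : ∀ c ∈ pp (R E) A, R E s c → R E t c) : s = t := by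
  by_contra hn
  obtain ⟨δ, h1, h2⟩ := gd s hs
  obtain ⟨t', k1, k2, k3, -⟩ := proj h h2 (h.R_symm (hst s hs (h.R_refl s))) (Ne.symm hn)
  obtain ⟨z, z1, z2⟩ := step h gd hs h1 h2 t' (mem_ins.2 ⟨k2, k3, lin_sub h hs ht k1⟩)
  obtain ⟨z3, -, z4⟩ := mem_ins.1 z1
  exact z2 (h.R_symm (mem_lin.1 k1 z z3 (hst z z4 z3)))

theorem op (gd : Gd E A) (hs : s ∈ pp (R E) A) :
    ∃ t ∈ pp (R E) A, ∃ c ∈ pp (R E) A, t ≠ c ∧ ¬ R E s t ∧ ¬ R E s c := by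
  obtain ⟨t, h1, h2⟩ := gd s hs
  obtain ⟨a, ha⟩ := h.ne s
  refine ⟨t, h1, a • t, smul_pp h (subset_closure ⟨s, hs, ha⟩) h1, fun e => ?_, h2, fun k => h2 ?_⟩
  · exact h2 (h.R_of_fix ha e.symm)
  · rwa [← h.Z_fix (h.R_refl s) (h.mem_Z ha), h.R_smul] at k

theorem trs (gd : Gd E A) (hs : s ∈ pp (R E) A) (ht : t ∈ pp (R E) A) : ∃ g ∈ WA E A, g • s = t := by
  by_cases e : s = t
  · exact ⟨1, one_mem _, by rw [one_smul, e]⟩
  obtain ⟨z, z1, z2⟩ := gd s hs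
  by_cases z3 : R E t z
  swap
  · exact weyl2 h hs ht z1 z2 z3
  obtain ⟨δ, d1, d2, d3⟩ : ∃ δ ∈ pp (R E) A, R E s δ ∧ ¬ R E t δ := by
    by_contra hn
    push Not at hn
    exact e (nd h gd hs ht hn)
  by_cases d4 : R E z δ
  swap
  · obtain ⟨g, hg, e1⟩ := weyl2 h hs d1 z1 z2 fun k => d4 (h.R_symm k)
    obtain ⟨g', hg', e2⟩ := weyl h d1 ht fun k => d3 (h.R_symm k)
    exact ⟨g' * g, mul_mem hg' hg, by rw [mul_smul, e1, e2]⟩
  have ne : z ≠ δ := fun k => z2 (k ▸ d2)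
  obtain ⟨η, e1, e2, e3⟩ := h.thick d4 ne
  refine weyl2 h hs ht (lin_sub h z1 d1 e1) (fun k => z2 ?_) fun k => d3 ?_
  · exact h.R_symm (third h (h.R_symm d4) ne.symm (lin_comm ▸ e1) e3 (h.R_symm d2) (h.R_symm k))
  · exact h.R_symm (third h d4 ne e1 e2 (h.R_symm z3) (h.R_symm k))

theorem ls (gd : Gd E A) (hs : s ∈ pp (R E) A) (ht : t ∈ pp (R E) A) (hc : c ∈ pp (R E) A) (h1 : R E s t)
    (h2 : ∀ z ∈ pp (R E) A, R E s z → R E t z → R E c z) : c ∈ lin (R E) s t := by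
  by_cases e : c = s
  · exact e ▸ mem_lin.2 fun z k _ => h.R_symm k
  by_cases e' : t = s
  · exact absurd (nd h gd hs hc fun z hz k => h2 z hz k (e' ▸ k)).symm e
  obtain ⟨z, z1, z2⟩ := gd s hs
  obtain ⟨t', t1, t2, t3, t4⟩ := proj h z2 h1 e'
  obtain ⟨c', c1, c2, c3, c4⟩ := proj h z2 (h.R_symm (h2 s hs (h.R_refl s) (h.R_symm h1))) e
  have : t' = c' := nd h (step h gd hs z1 z2) (mem_ins.2 ⟨t2, t3, lin_sub h hs ht t1⟩)
    (mem_ins.2 ⟨c2, c3, lin_sub h hs hc c1⟩) fun w hw k => by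
      obtain ⟨w1, -, w2⟩ := mem_ins.1 hw
      have k1 : w ∈ pp (R E) {s, t} := t4 ▸ mem_pp2.2 ⟨w1, k⟩
      have k2 : w ∈ pp (R E) {s, c'} := c4 ▸ mem_pp2.2 ⟨w1, h2 w w2 w1 (mem_pp2.1 k1).2⟩
      exact (mem_pp2.1 k2).2
  rw [lin, ← t4, this, c4]
  exact mem_lin.2 fun z _ k => h.R_symm k

theorem gd0 : Gd E ∅ := fun s _ => (h.exists_opp s).imp fun _ k => ⟨fun _ e => e.elim, k⟩

theorem gd2 (hxy : ¬ R E x y) : Gd E {x, y} := by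
  have := step h (gd0 h) (fun _ e => e.elim) (fun _ e => e.elim) hxy
  rwa [insert_empty_eq] at this

omit h [Finite Ω] in
theorem Rs_eq {r : Ω → Ω → Prop} : Rs r u v = pp r (Set.range u ∪ Set.range v) := by
  ext c
  simp [Rs, pp, or_imp, forall_and]

theorem gd (f : Fr (R E) u v) : Gd E (Set.range u ∪ Set.range v) := by
  induction n with
  | zero => simpa [Set.range_eq_empty] using gd0 h
  | succ n ih =>
    have f' : Fr (R E) (fun i : Fin n => u i.succ) fun i => v i.succ :=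
      ⟨fun i => f.op _, fun i j => f.xx _ _, fun i j => f.yy _ _, fun i j k => f.xy _ _ fun e => k (Fin.succ_inj.1 e)⟩
    have := step h (ih f') (x := u 0) (y := v 0)
      (Rs_eq ▸ fun i => ⟨f.xx _ _, h.R_symm (f.xy _ _ (Fin.succ_ne_zero i).symm)⟩)
      (Rs_eq ▸ fun i => ⟨f.xy _ _ (Fin.succ_ne_zero i), f.yy _ _⟩) (f.op 0)
    convert this using 1
    rw [Fin.range_fin_succ, Fin.range_fin_succ, Set.insert_union, Set.union_insert]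
    rfl

end A3

open A3

namespace TG

variable (h : TG E p)
include h

theorem Z_le_FS (hs : s ∈ Rs (R E) u v) : Z E s ≤ FS G u v := fun _ hg =>
  mem_iInf.2 fun i => mem_inf.2 ⟨h.Z_fix (h.R_symm (hs i).1) hg, h.Z_fix (h.R_symm (hs i).2) hg⟩

theorem px_FS (f : Fr (R E) u v) : Px E (FS G u v) = Rs (R E) u v := by
  ext s
  constructor
  · rintro ⟨a, ha, k⟩ i
    have := mem_inf.1 (mem_iInf.1 k i)
    exact ⟨h.R_symm (h.R_of_fix ha this.1), h.R_symm (h.R_of_fix ha this.2)⟩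
  · intro hs
    obtain ⟨a, ha⟩ := h.ne s
    exact ⟨a, ha, h.Z_le_FS hs (h.mem_Z ha)⟩

theorem smul_Rs (hg : g ∈ FS G u v) (hs : s ∈ Rs (R E) u v) : g • s ∈ Rs (R E) u v := fun i => by
  have := mem_inf.1 (mem_iInf.1 hg i)
  rw [← mem_stabilizer_iff.1 this.1, ← mem_stabilizer_iff.1 this.2, h.R_smul, h.R_smul]
  exact hs i

theorem op1 (f : Fr (R E) u v) (hs : s ∈ Rs (R E) u v) : ∃ t ∈ Rs (R E) u v, ¬ R E s t := by
  rw [Rs_eq] at hs ⊢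
  exact gd h f s hs

theorem nd (f : Fr (R E) u v) (hs : s ∈ Rs (R E) u v) (ht : t ∈ Rs (R E) u v)
    (hst : ∀ c ∈ Rs (R E) u v, R E s c → R E t c) : s = t := by
  rw [Rs_eq] at hs ht hst
  exact A3.nd h (gd h f) hs ht hst

theorem op (f : Fr (R E) u v) (hs : s ∈ Rs (R E) u v) :
    ∃ t ∈ Rs (R E) u v, ∃ c ∈ Rs (R E) u v, t ≠ c ∧ ¬ R E s t ∧ ¬ R E s c := by
  rw [Rs_eq] at hs ⊢
  exact A3.op h (gd h f) hs

theorem trs (f : Fr (R E) u v) (hs : s ∈ Rs (R E) u v) (ht : t ∈ Rs (R E) u v) :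
    ∃ g ∈ HX E (FS G u v), g • s = t := by
  rw [Rs_eq] at hs ht
  obtain ⟨g, hg, e⟩ := A3.trs h (gd h f) hs ht
  refine ⟨g, closure_mono ?_ hg, e⟩
  rintro a ⟨c, hc, ha⟩
  exact ⟨h.Z_le_FS (Rs_eq ▸ hc) (h.mem_Z ha), c, ha⟩

theorem ls (f : Fr (R E) u v) (hs : s ∈ Rs (R E) u v) (ht : t ∈ Rs (R E) u v)
    (hc : c ∈ Rs (R E) u v) (h1 : R E s t)
    (h2 : ∀ z ∈ Rs (R E) u v, R E s z → R E t z → R E c z) : c ∈ lin (R E) s t := by
  rw [Rs_eq] at hs ht hc h2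
  exact A3.ls h (gd h f) hs ht hc h1 h2

/-- projection from `x` into `x^⊥ ∩ y^⊥` -/
theorem proj (hxy : ¬ R E x y) (hc : R E x c) (hcx : c ≠ x) :
    ∃ c', R E x c' ∧ R E y c' ∧ pp (R E) {x, c'} = pp (R E) {x, c} :=
  (A3.proj h hxy hc hcx).imp fun _ k => k.2

theorem proj_uniq (hxy : ¬ R E x y) {c' : Ω} (h1 : R E x c) (h2 : R E y c) (h3 : R E x c')
    (h4 : R E y c') (e : pp (R E) {x, c'} = pp (R E) {x, c}) : c' = c :=
  A3.nd h (gd2 h hxy) (mem_pp2.2 ⟨h3, h4⟩) (mem_pp2.2 ⟨h1, h2⟩) fun z hz k =>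
    (mem_pp2.1 (e ▸ mem_pp2.2 ⟨(mem_pp2.1 hz).1, k⟩ : z ∈ pp (R E) {x, c})).2

theorem op2 (hxy : ¬ R E x y) (h1 : R E x c) (h2 : R E y c) :
    ∃ c', R E x c' ∧ R E y c' ∧ ¬ R E c c' :=
  (gd2 h hxy c (mem_pp2.2 ⟨h1, h2⟩)).imp fun _ k => ⟨(mem_pp2.1 k.1).1, (mem_pp2.1 k.1).2, k.2⟩

theorem nd2 (hxy : ¬ R E x y) {c' : Ω} (h1 : R E x c) (h2 : R E y c) (h3 : R E x c')
    (h4 : R E y c') (e : ∀ z, R E x z → R E y z → R E c z → R E c' z) : c = c' :=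
  A3.nd h (gd2 h hxy) (mem_pp2.2 ⟨h1, h2⟩) (mem_pp2.2 ⟨h3, h4⟩) fun z hz =>
    e z (mem_pp2.1 hz).1 (mem_pp2.1 hz).2

theorem tr2 (hxy : ¬ R E x y) {c' : Ω} (h1 : R E x c) (h2 : R E y c) (h3 : R E x c')
    (h4 : R E y c') : ∃ g ∈ HH E x y, g • c = c' := by
  obtain ⟨g, hg, e⟩ := A3.trs h (gd2 h hxy) (mem_pp2.2 ⟨h1, h2⟩) (mem_pp2.2 ⟨h3, h4⟩)
  refine ⟨g, closure_mono ?_ hg, e⟩
  rintro a ⟨c, hc, ha⟩
  exact ⟨c, (mem_pp2.1 hc).1, (mem_pp2.1 hc).2, ha⟩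

end TG

end Cfsg.Agent.PT
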