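import Mathlib
import Cfsg.Agent.PT.A3

/-! The points opposite to a given point are connected; consequences. -/

set_option autoImplicit false

namespace Cfsg.Agent.PT

open Subgroup MulAction Cfsg.Agent.GT Cfsg.Agent.TT Cfsg.Agent.Perm.TT Cfsg.Agent.Perm.TwoCount
open Cfsg.Agent.KS (St NT)
open scoped MatrixGroups commutatorElement

universe u v

variable {G : Type u} {Ω : Type v} [Group G] [MulAction G Ω] [Finite G] [Finite Ω]
  {E : Ω → Set G} {p : ℕ} {x y x' y' c : Ω} {a b a' b' d g : G}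

namespace A4

omit [Finite Ω] in
theorem mem_pp {r : Ω → Ω → Prop} {z : Ω} : z ∈ pp r {x, y} ↔ r x z ∧ r y z := by
  simp [pp]

omit [Finite Ω] in
theorem mem_lin {r : Ω → Ω → Prop} : c ∈ lin r x y ↔ ∀ z, r x z → r y z → r z c :=
  ⟨fun h z h1 h2 => h z (mem_pp.2 ⟨h1, h2⟩), fun h z hz => h z (mem_pp.1 hz).1 (mem_pp.1 hz).2⟩

variable (h : TG E p)
include h

theorem left (hr : R E x y) (hc : c ∈ lin (R E) x y) : R E x c :=
  mem_lin.1 hc x (h.R_refl x) (h.R_symm hr)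

theorem right (hr : R E x y) (hc : c ∈ lin (R E) x y) : R E y c :=
  mem_lin.1 hc y hr (h.R_refl y)

theorem lmem : x ∈ lin (R E) x y := mem_lin.2 fun _ h1 _ => h.R_symm h1

theorem rmem : y ∈ lin (R E) x y := mem_lin.2 fun _ _ h2 => h.R_symm h2

/-- A point collinear with two points of a line is collinear with all of them. -/
theorem two (hr : R E x y) (hxy : x ≠ y) {c' z : Ω} (hc : c ∈ lin (R E) x y) (hc' : c' ∈ lin (R E) x y)
    (ne : c ≠ c') (h1 : R E c z) (h2 : R E c' z) : R E x z ∧ R E y z := by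
  by_cases hx : c = x
  · subst hx
    exact mem_pp.1 (h.line hr hxy hc' ne.symm ▸ mem_pp.2 ⟨h1, h2⟩)
  · have e := h.line hr hxy hc hx
    have e1 : c' ∈ lin (R E) c x := by
      rw [lin, Set.pair_comm, e]
      exact hc'
    have e2 := h.line (h.R_symm (left h hr hc)) hx e1 ne.symm
    rw [Set.pair_comm c x, e] at e2
    exact mem_pp.1 (e2 ▸ mem_pp.2 ⟨h1, h2⟩)

theorem nb (hbig : ∃ x y, x ≠ y ∧ R E x y) (y : Ω) : ∃ z, y ≠ z ∧ R E y z := by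
  obtain ⟨x0, y0, ne, hr⟩ := hbig
  obtain ⟨g, rfl⟩ := h.tr x0 y
  exact ⟨g • y0, fun e => ne (MulAction.injective g e), (h.R_smul g).2 hr⟩

theorem conn (hbig : ∃ x y, x ≠ y ∧ R E x y) {P : Ω → Prop}
    (step : ∀ c c', ¬ R E x c → ¬ R E x c' → R E c c' → P c → P c') (h1 : ¬ R E x y) (h2 : ¬ R E x y')
    (hy : P y) : P y' := by
  by_cases hr : R E y y'
  · exact step y y' h1 h2 hr hy
  by_cases hx : ∃ δ, R E y δ ∧ R E y' δ ∧ ¬ R E x δ
  · obtain ⟨δ, k1, k2, k3⟩ := hx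
    exact step δ y' k3 h2 (h.R_symm k2) (step y δ h1 k3 k1 hy)
  push Not at hx
  obtain ⟨z, ne, hz⟩ := nb h hbig y
  obtain ⟨δ, m, k2⟩ := h.one hz ne y'
  have k1 := left h hz m
  obtain ⟨ε, l1, l2, l3⟩ := h.op2 hr k1 (h.R_symm k2)
  have n1 : y ≠ δ := fun e => hr (e ▸ k2)
  have n2 : y' ≠ ε := fun e => hr (e ▸ l1)
  obtain ⟨η, m1, m2, m3⟩ := h.thick k1 n1
  obtain ⟨η', o1, o2⟩ := h.one l2 n2 η
  have x1 : ¬ R E x η := fun k =>
    h1 (h.R_symm (two h k1 n1 m1 (rmem h) m3 (h.R_symm k) (h.R_symm (hx δ k1 (h.R_symm k2)))).1)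
  have n3 : η' ≠ ε := fun e =>
    l3 (two h k1 n1 m1 (lmem h) m2 (h.R_symm (e ▸ o2)) l1).2
  have x2 : ¬ R E x η' := fun k =>
    h2 (h.R_symm (two h l2 n2 o1 (rmem h) n3 (h.R_symm k) (h.R_symm (hx ε l1 l2))).1)
  exact step η' y' x2 h2 (h.R_symm (left h l2 o1))
    (step η η' x1 x2 (h.R_symm o2) (step y η h1 x1 (left h k1 m1) hy))

theorem tl_R {w k e : G} (t : Tl p b a w k e) (ha : a ∈ E x) : R E x (w • x) :=
  (h.R_iff ha (h.conj w x a ha)).2 t.bb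

end A4

open A4

namespace TG

variable (h : TG E p)
include h

theorem fixl (hf : ∀ g : G, (∀ x : Ω, g • x = x) → g = 1) (hbig : ∃ x y, x ≠ y ∧ R E x y)
    (hxy : ¬ R E x y) (h1 : ∀ c, R E x c → g • c = c) (h2 : g • y = y) : g = 1 := by
  refine hf g fun z => ?_
  by_cases hz : R E x z
  · exact h1 z hz
  refine conn h hbig (P := fun c => g • c = c) (fun c c' k1 k2 hr hc => ?_) hxy hz h2
  by_cases ne : c = c'
  · exact ne ▸ hc
  obtain ⟨δ, m, k3⟩ := h.one hr ne x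
  have n1 : δ ≠ c := fun e => k1 (h.R_symm (e ▸ k3))
  obtain ⟨ε, l1, l2, l3⟩ := h.op2 k2 (h.R_symm k3) (right h hr m)
  have e := h.line hr ne m n1
  have hδ := h1 δ (h.R_symm k3)
  have m1 : g • c' ∈ lin (R E) c c' := mem_lin.2 fun z z1 z2 => by
    obtain ⟨z, rfl⟩ := MulAction.surjective g z
    have z3 : g • z ∈ pp (R E) {c, δ} := e ▸ mem_pp.2 ⟨z1, z2⟩
    obtain ⟨z4, z5⟩ := mem_pp.1 z3
    rw [← hc, h.R_smul] at z4
    rw [← hδ, h.R_smul] at z5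
    have z6 : z ∈ pp (R E) {c, c'} := e ▸ mem_pp.2 ⟨z4, z5⟩
    exact (h.R_smul g).2 (h.R_symm (mem_pp.1 z6).2)
  by_contra n2
  have l4 : R E (g • c') ε := by rw [← h1 ε l1, h.R_smul]; exact l2
  obtain ⟨a1, a2⟩ := two h hr ne m1 (rmem h) n2 l4 l2
  exact l3 (h.R_symm (mem_lin.1 m ε a1 a2))

theorem pureA (hf : ∀ g : G, (∀ x : Ω, g • x = x) → g = 1) (hbig : ∃ x y, x ≠ y ∧ R E x y) : Pure E := by
  rintro x y ⟨hxy, a, ha, b, hb, b', hb', ne⟩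
  obtain ⟨k, e, t⟩ := h.tl hb.1 hb'.1 ha ne (h.R_refl y b hb.1 b' hb'.1) (h.pa_symm ha hb).2 (h.pa_symm ha hb').2
  have hw : b⁻¹ * b' ∈ Z E y := mul_mem (Subgroup.inv_mem _ (h.mem_Z hb.1)) (h.mem_Z hb'.1)
  generalize b⁻¹ * b' = w at t hw
  by_cases hx : w • x = x
  · exact t.ne (h.fixl hf hbig (fun k => hxy (h.R_symm k)) (fun c hc => h.Z_fix hc hw) hx)
  have hr := tl_R h t ha
  obtain ⟨δ, m, k1⟩ := h.one hr (Ne.symm hx) y
  obtain ⟨ε, l1, l2, l3⟩ := h.op2 hxy (left h hr m) (h.R_symm k1)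
  refine l3 (h.R_symm (mem_lin.1 m ε l1 ?_))
  rw [← h.Z_fix l2 hw, h.R_smul]
  exact l1

theorem LL_tr (hbig : ∃ x y, x ≠ y ∧ R E x y) (h1 : ¬ R E x y) (h2 : ¬ R E x y') :
    ∃ g ∈ LL E x, g • y = y' := by
  refine conn h hbig (P := fun c => ∃ g ∈ LL E x, g • y = c) (fun c c' k1 k2 hr hc => ?_) h1 h2
    ⟨1, one_mem _, one_smul _ _⟩
  by_cases ne : c = c'
  · exact ne ▸ hc
  obtain ⟨g, hg, rfl⟩ := hc
  obtain ⟨a, ha⟩ := h.ne x
  obtain ⟨b, hb⟩ := h.exists_pa ha k1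
  obtain ⟨b', hb'⟩ := h.exists_pa ha k2
  obtain ⟨k, e, t⟩ := h.tl hb.1 hb'.1 ha (fun e => ne (h.mem_unique hb.1 (e ▸ hb'.1))) (hr b hb.1 b' hb'.1)
    (h.pa_symm ha hb).2 (h.pa_symm ha hb').2
  refine ⟨k * g, mul_mem ?_ hg, ?_⟩
  · rw [t.cdef]
    exact mul_mem (Subgroup.inv_mem _ (subset_closure ⟨_, tl_R h t ha, h.conj _ x a ha⟩))
      (subset_closure ⟨x, h.R_refl x, ha⟩)
  · rw [mul_smul]
    exact h.smul_eq hb.1 (by rw [t.ca, mul_inv_cancel_left]; exact hb'.1)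

end TG

end Cfsg.Agent.PT
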