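import Mathlib
import Cfsg.Agent.PT.B2

set_option autoImplicit false

namespace Cfsg.Agent.PT

open Subgroup MulAction Cfsg.Agent.GT Cfsg.Agent.TT Cfsg.Agent.Perm.TT Cfsg.Agent.Perm.TwoCount
open Cfsg.Agent.KS (St NT)
open scoped MatrixGroups commutatorElement

universe u v

variable {G : Type u} {Ω : Type v} [Group G] [MulAction G Ω] [Finite G] [Finite Ω]
  {E : Ω → Set G} {p : ℕ} {x y x' y' c : Ω} {a b a' b' d g : G}

variable {F : Type} [Field F] {ρ : SL(2, F) →* G} {s μ : F} {l : Fˣ}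

omit [Finite G] [Finite Ω] in
theorem B4_two (h : TG E p) (hc : Ch E p ρ x y) : (2 : F) ≠ 0 := fun e => by
  have := hc.char
  have h2 : p ∣ 2 := (CharP.cast_eq_zero_iff F p 2).1 (by exact_mod_cast e)
  have := Nat.le_of_dvd two_pos h2
  have := h.five
  omega

theorem B4_zpow {K : Type*} [Field K] (s : K) (k : ℤ) : slUp ((k : K) * s) = slUp s ^ k := by
  obtain ⟨n, rfl | rfl⟩ := k.eq_nat_or_neg
  · rw [zpow_natCast, slUp_pow, Int.cast_natCast]
  · rw [zpow_neg, zpow_natCast, slUp_pow, ← slUp_neg, Int.cast_neg, Int.cast_natCast, neg_mul]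

theorem B4_diag {K : Type*} [Field K] (h2 : (2 : K) ≠ 0) {l : Kˣ} (hl : (l : K) ^ 2 = -1)
    {M : SL(2, K)} (hM : M * M = -1) (ha : (l : K) * M.1 0 0 ≠ 1) :
    ∃ N : SL(2, K), N * dg l * N⁻¹ = M := by
  have hd : M.1 0 0 * M.1 1 1 - M.1 0 1 * M.1 1 0 = 1 := by
    rw [← Matrix.det_fin_two]; exact M.2
  have e : ∀ i j, (M.1 * M.1) i j = (-1 : Matrix (Fin 2) (Fin 2) K) i j := fun i j =>
    congrFun (congrFun (congrArg Subtype.val hM) i) j
  have e1 := e 0 0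
  have e2 := e 0 1
  have e3 := e 1 0
  simp [Matrix.mul_apply, Fin.sum_univ_two] at e1 e2 e3
  have ht : M.1 1 1 = -M.1 0 0 := by
    by_contra ht
    have ht' : M.1 0 0 + M.1 1 1 ≠ 0 := fun e => ht (by linear_combination e)
    have b0 : M.1 0 1 = 0 := (mul_eq_zero.1 (show M.1 0 1 * (M.1 0 0 + M.1 1 1) = 0 by
      linear_combination e2)).resolve_right ht'
    have a0 : M.1 0 0 = 0 := (mul_eq_zero.1 (show M.1 0 0 * (M.1 0 0 + M.1 1 1) = 0 by
      linear_combination e1 + hd)).resolve_right ht'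
    rw [a0, b0] at hd
    simp at hd
  have hδ : 2 * (1 - (l : K) * M.1 0 0) ≠ 0 := mul_ne_zero h2 (sub_ne_zero.2 ha.symm)
  obtain ⟨t, h3⟩ : ∃ t : K, t * (2 * (1 - (l : K) * M.1 0 0)) = 1 := ⟨_, inv_mul_cancel₀ hδ⟩
  have hi : ((l⁻¹ : Kˣ) : K) = -l := by
    rw [Units.val_inv_eq_inv_val]
    exact inv_eq_of_mul_eq_one_right (by linear_combination -hl)
  refine ⟨⟨!![l + M.1 0 0, t * M.1 0 1; M.1 1 0, -(t * (l + M.1 0 0))], ?_⟩, ?_⟩
  · rw [Matrix.det_fin_two_of]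
    linear_combination h3 - t * hl - t * e1
  · refine mul_inv_eq_iff_eq_mul.2 (Subtype.ext ?_)
    show !![l + M.1 0 0, t * M.1 0 1; M.1 1 0, -(t * (l + M.1 0 0))] *
      !![(l : K), 0; 0, ((l⁻¹ : Kˣ) : K)] =
      M.1 * !![l + M.1 0 0, t * M.1 0 1; M.1 1 0, -(t * (l + M.1 0 0))]
    rw [hi]
    ext i j
    fin_cases i <;> fin_cases j <;> simp [Matrix.mul_apply, Fin.sum_univ_two, ht]
    · linear_combination hl - e1
    · ring
    · ring
    · linear_combination t * hl - t * e1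

/-- An element fixing `x`, `y` and normalizing the chart acts semilinearly. -/
theorem Ch.semi (h : TG E p) (hc : Ch E p ρ x y) (hx : g • x = x) (hy : g • y = y)
    (hn : ∀ M, g * ρ M * g⁻¹ ∈ ρ.range) :
    ∃ (m : F) (σ : F ≃+* F), m ≠ 0 ∧ (∀ s, g * ρ (slUp s) * g⁻¹ = ρ (slUp (m * σ s))) ∧
      (∀ s, g * ρ (slLo s) * g⁻¹ = ρ (slLo (σ s / m))) ∧
      (∀ s, g * ρ (wy s) * g⁻¹ = ρ (wy (m * σ s))) ∧
      ∀ l l' : Fˣ, (l' : F) = σ l → g * ρ (dg l) * g⁻¹ = ρ (dg l') := by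
  have := hc.fin
  have h2 := B4_two h hc
  have hβ : ∀ s, ∃ t, g * ρ (slUp s) * g⁻¹ = ρ (slUp t) := fun s => by
    obtain ⟨M, hM⟩ := hn (slUp s)
    have := (h.Z_conj g).2 (hc.upZ h s)
    rw [hx, ← hM] at this
    exact hM ▸ hc.mem_Z h this
  have hγ : ∀ s, ∃ t, g * ρ (slLo s) * g⁻¹ = ρ (slLo t) := fun s => by
    obtain ⟨M, hM⟩ := hn (slLo s)
    have := (h.Z_conj g).2 (hc.loZ h s)
    rw [hy, ← hM] at this
    exact hM ▸ hc.mem_Z' h this
  choose β hβ using hβ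
  choose γ hγ using hγ
  have cm : ∀ u v : G, g * (u * v) * g⁻¹ = g * u * g⁻¹ * (g * v * g⁻¹) := fun u v => by group
  have add : ∀ s t, β (s + t) = β s + β t := fun s t => hc.up_inj h (by
    rw [← hβ, slUp_add, slUp_add, map_mul, map_mul, cm, hβ, hβ])
  have inj : Function.Injective β := fun s t e => hc.up_inj h (by
    have := hβ s
    rw [e, ← hβ] at this
    exact mul_left_cancel (mul_right_cancel this))
  have β0 : β 0 = 0 := by have := add 0 0; rw [add_zero] at this; linear_combination -this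
  have γ0 : γ 0 = 0 := hc.lo_inj h (by rw [← hγ]; simp)
  have ne : ∀ s, s ≠ 0 → β s ≠ 0 := fun s hs e => hs (inj (e.trans β0.symm))
  have βγ : ∀ s, γ (-s⁻¹) = -(β s)⁻¹ := fun s => by
    by_cases hs : s = 0
    · simp [hs, β0, γ0]
    have h1 : Br (ρ (slUp s)) (ρ (slLo (-s⁻¹))) := (hc.br_iff h hs).2 (by field_simp)
    have h3 : Br (ρ (slUp (β s))) (ρ (slLo (γ (-s⁻¹)))) := by
      unfold Br at h1 ⊢
      rw [← hβ, ← hγ, ← cm, ← cm, ← cm, ← cm, h1]
    have h4 := (hc.br_iff h (ne s hs)).1 h3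
    rw [← neg_eq_iff_eq_neg]
    exact eq_inv_of_mul_eq_one_right (by linear_combination -h4)
  have hw : ∀ s, g * ρ (wy s) * g⁻¹ = ρ (wy (β s)) := fun s => by
    simp only [wy, map_mul, cm, hβ, hγ, βγ]
  have m0 := ne 1 one_ne_zero
  have hd : ∀ l l' : Fˣ, (l' : F) = β l / β 1 → g * ρ (dg l) * g⁻¹ = ρ (dg l') := fun l l' e => by
    have e' : (l' : F) * β 1 = β l := by rw [e, div_mul_cancel₀ _ m0]
    rw [← wy_div l one_ne_zero, ← wy_div l' m0, e', mul_one, map_mul, map_mul, map_inv, map_inv, cm,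
      hw, ← hw 1]
    group
  have hs : ∀ a s, β (a ^ 2 * s) = (β a / β 1) ^ 2 * β s := fun a s => by
    by_cases ha : a = 0
    · simp [ha, β0]
    have e := hd (Units.mk0 a ha) (Units.mk0 _ (div_ne_zero (ne a ha) m0)) rfl
    refine hc.up_inj h ?_
    have e1 := dg_up (Units.mk0 a ha) s
    have e2 := dg_up (Units.mk0 _ (div_ne_zero (ne a ha) m0)) (β s)
    simp only [Units.val_mk0] at e1 e2
    rw [← hβ, ← e1, ← e2, map_mul, map_mul, map_mul, map_mul, map_inv, map_inv, ← e, ← hβ]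
    group
  have mul : ∀ a b, β (a * b) / β 1 = β a / β 1 * (β b / β 1) := fun a b => by
    have e1 := hs (a + b) 1
    have e2 := hs a 1
    have e3 := hs b 1
    rw [mul_one] at e1 e2 e3
    rw [show (a + b) ^ 2 = a ^ 2 + a * b + a * b + b ^ 2 by ring] at e1
    simp only [add, e2, e3] at e1
    field_simp at e1 ⊢
    refine mul_left_cancel₀ h2 ?_
    linear_combination e1
  let φ : F →+* F :=
    { toFun := fun s => β s / β 1
      map_one' := div_self m0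
      map_mul' := mul
      map_zero' := by simp [β0]
      map_add' := fun s t => by rw [add, add_div] }
  let σ : F ≃+* F := RingEquiv.ofBijective φ (Finite.injective_iff_bijective.1 φ.injective)
  have hσ : ∀ s, β 1 * σ s = β s := fun s => mul_div_cancel₀ _ m0
  refine ⟨β 1, σ, m0, fun s => by rw [hσ, hβ], fun s => ?_, fun s => by rw [hσ, hw], hd⟩
  have e := βγ (-s⁻¹)
  rw [inv_neg, inv_inv, neg_neg, ← hσ, map_neg, map_inv₀] at e
  rw [hγ, e]
  congr 2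
  rw [mul_neg, inv_neg, neg_neg, mul_inv, inv_inv, div_eq_inv_mul]

theorem GC.range (h : TG E p) (hc : GC E p ρ x y) : ρ.range = YY E x y :=
  le_antisymm (hc.toCh.range_le h) (sup_le
    (fun u hu => by obtain ⟨s, rfl⟩ := hc.allup u hu; exact ⟨_, rfl⟩)
    fun u hu => by obtain ⟨s, rfl⟩ := hc.alllo u hu; exact ⟨_, rfl⟩)

theorem GC.semi (h : TG E p) (hc : GC E p ρ x y) (hx : g • x = x) (hy : g • y = y) :
    ∃ (m : F) (σ : F ≃+* F), m ≠ 0 ∧ (∀ s, g * ρ (slUp s) * g⁻¹ = ρ (slUp (m * σ s))) ∧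
      ∀ s, g * ρ (slLo s) * g⁻¹ = ρ (slLo (σ s / m)) := by
  have hY : YY E x y ≤ (YY E x y).comap (MulAut.conj g).toMonoidHom := sup_le
    (fun u hu => mem_sup_left (hx ▸ (h.Z_conj g).2 hu : g * u * g⁻¹ ∈ Z E x))
    fun u hu => mem_sup_right (hy ▸ (h.Z_conj g).2 hu : g * u * g⁻¹ ∈ Z E y)
  obtain ⟨m, σ, h1, h2, h3, -⟩ := hc.toCh.semi h hx hy fun M => by
    rw [hc.range h]
    exact hY (hc.toCh.range_le h ⟨M, rfl⟩)
  exact ⟨m, σ, h1, h2, h3⟩

theorem GC.card_Z (h : TG E p) (hc : GC E p ρ x y) : Nat.card (Z E x) = Nat.card F :=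
  (Nat.card_eq_of_bijective (fun s : F => (⟨ρ (slUp s), hc.toCh.upZ h s⟩ : Z E x))
    ⟨fun _ _ e => hc.toCh.up_inj h (congrArg Subtype.val e), fun u => by
      obtain ⟨s, hs⟩ := hc.allup u.1 u.2
      exact ⟨s, Subtype.ext hs.symm⟩⟩).symm

theorem GC.flip (h : TG E p) (hc : GC E p ρ x y) : ∃ ρ' : SL(2, F) →* G, GC E p ρ' y x ∧
    (∀ s, ρ' (slUp s) = ρ (slLo (-s))) ∧ ∀ s, ρ' (slLo s) = ρ (slUp (-s)) := by
  obtain ⟨ρ', h1, h2, h3, -⟩ := hc.toCh.flip h
  refine ⟨ρ', ⟨h1, fun u hu => ?_, fun u hu => ?_⟩, h2, h3⟩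
  · obtain ⟨s, rfl⟩ := hc.alllo u hu
    exact ⟨-s, by rw [h2, neg_neg]⟩
  · obtain ⟨s, rfl⟩ := hc.allup u hu
    exact ⟨-s, by rw [h3, neg_neg]⟩

theorem GC.sc (h : TG E p) (hc : GC E p ρ x y) {k : ℤ} (hl : (l : F) ^ 2 = k) :
    Sc E x (ρ (dg l)) k := by
  refine ⟨(hc.toCh.dg_fix h l).1, fun u hu => ?_⟩
  obtain ⟨s, rfl⟩ := hc.allup u hu
  rw [← map_inv, ← map_mul, ← map_mul, dg_up, hl, B4_zpow, map_zpow]

/-- A nonsquare root element fills the chart. -/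
theorem Ch.all_mem (h : TG E p) (hc : Ch E p ρ x y) (hs : ¬ IsSquare s) (hm : ρ (slUp s) ∈ E x)
    {t : F} (ht : t ≠ 0) : ρ (slUp t) ∈ E x := by
  classical
  have := hc.fin
  have := Fintype.ofFinite F
  have s0 : s ≠ 0 := fun e => hs (e ▸ IsSquare.zero)
  by_cases h1 : IsSquare t
  · obtain ⟨r, rfl⟩ := h1
    rw [← sq]
    exact hc.up r fun e => ht (by rw [e, mul_zero])
  · obtain ⟨r, hr⟩ : IsSquare (t * s) := by
      rw [← quadraticChar_one_iff_isSquare (mul_ne_zero ht s0), map_mul,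
        quadraticChar_neg_one_iff_not_isSquare.2 h1, quadraticChar_neg_one_iff_not_isSquare.2 hs]
      rfl
    have r0 : r ≠ 0 := fun e => mul_ne_zero ht s0 (by rw [hr, e, mul_zero])
    have := hc.up_sq_mem h hm (div_ne_zero r0 s0)
    rwa [show (r / s) ^ 2 * s = t by field_simp; linear_combination -hr] at this

theorem GC.card_E (h : TG E p) (hc : GC E p ρ x y) :
    (E x).ncard + 1 = Nat.card F ∨ 2 * (E x).ncard + 1 = Nat.card F := by
  classical
  have := hc.fin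
  have := Fintype.ofFinite F
  have e1 : E x = (fun s => ρ (slUp s)) '' {s | ρ (slUp s) ∈ E x} := Set.ext fun u =>
    ⟨fun hu => by obtain ⟨s, rfl⟩ := hc.allup u (h.mem_Z hu); exact ⟨s, hu, rfl⟩,
      fun ⟨s, hs, e⟩ => e ▸ hs⟩
  have n0 : ∀ s, ρ (slUp s) ∈ E x → s ≠ 0 := fun s hs e => h.ne_one hs (by simp [e])
  rw [e1, Set.ncard_image_of_injective _ fun _ _ e => hc.toCh.up_inj h e]
  by_cases h1 : ∃ s, ¬ IsSquare s ∧ ρ (slUp s) ∈ E x
  · obtain ⟨s, hs, hm⟩ := h1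
    left
    rw [show {s | ρ (slUp s) ∈ E x} = ({0} : Set F)ᶜ from
      Set.ext fun t => ⟨n0 t, fun ht => hc.toCh.all_mem h hs hm ht⟩, add_comm,
      ← Set.ncard_add_ncard_compl ({0} : Set F), Set.ncard_singleton]
  · right
    have e2 : {s | ρ (slUp s) ∈ E x} = ↑(Finset.univ.filter fun s : F => s ≠ 0 ∧ IsSquare s) :=
      Set.ext fun t => by
        simp only [Set.mem_setOf_eq, Finset.coe_filter, Finset.mem_univ, true_and]
        refine ⟨fun ht => ⟨n0 t ht, by_contra fun e => h1 ⟨t, e, ht⟩⟩, ?_⟩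
        rintro ⟨ht, r, rfl⟩
        rw [← sq]
        exact hc.up r fun e => ht (by rw [e, mul_zero])
    have h2 : ringChar F ≠ 2 := fun e => B4_two h hc.toCh (by
      exact_mod_cast (ringChar.spec F 2).2 (e ▸ dvd_rfl))
    have h3 := quadraticChar_sum_zero h2
    have h4 : ∀ a : F, quadraticChar F a =
        2 * (if a ≠ 0 ∧ IsSquare a then 1 else 0) + (if a = 0 then 1 else 0) - 1 := fun a => by
      rw [quadraticChar_apply, quadraticCharFun]
      by_cases ha : a = 0 <;> by_cases hb : IsSquare a <;> simp [ha, hb]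
    simp only [h4, Finset.sum_sub_distrib, Finset.sum_add_distrib, ← Finset.mul_sum,
      Finset.sum_ite_eq', Finset.mem_univ, if_true] at h3
    simp only [Finset.sum_boole, Finset.sum_const, Finset.card_univ, nsmul_eq_mul, mul_one] at h3
    rw [e2, Set.ncard_coe_finset, Nat.card_eq_fintype_card]
    zify
    linear_combination h3

/-- Involutions of a local `L₂(q)`, `q ≡ 1 mod 4`, are conjugate. -/
theorem Ch.conj_inv (h : TG E p) (hc : Ch E p ρ x y) (h1 : ρ (-1) = 1) (hl : (l : F) ^ 2 = -1)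
    {M : SL(2, F)} (hM : M * M = -1) : ∃ N : SL(2, F), ρ N * ρ (dg l) * (ρ N)⁻¹ = ρ M := by
  have h2 := B4_two h hc
  by_cases ha : (l : F) * M.1 0 0 = 1
  · obtain ⟨N, hN⟩ := B4_diag h2 hl (M := -M) (by rw [neg_mul_neg, hM]) fun e => h2 (by
      have e' : (l : F) * -M.1 0 0 = 1 := e
      linear_combination -ha - e')
    exact ⟨N, by rw [← map_inv, ← map_mul, ← map_mul, hN, ← neg_one_mul, map_mul, h1, one_mul]⟩
  · obtain ⟨N, hN⟩ := B4_diag h2 hl hM ha
    exact ⟨N, by rw [← map_inv, ← map_mul, ← map_mul, hN]⟩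

end Cfsg.Agent.PT
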