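import Mathlib
import Cfsg.Agent.PT.TL
import Cfsg.Agent.PT.B3

set_option autoImplicit false
set_option linter.unusedSectionVars false
set_option linter.unusedVariables false

namespace Cfsg.Agent.PT

open Subgroup MulAction Cfsg.Agent.GT Cfsg.Agent.TT Cfsg.Agent.Perm.TT Cfsg.Agent.Perm.TwoCount
open Cfsg.Agent.KS (St NT)
open scoped MatrixGroups commutatorElement

universe u v

variable {G : Type u} {Ω : Type v} [Group G] [MulAction G Ω] [Finite G] [Finite Ω]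
  {E : Ω → Set G} {p : ℕ} {x y x' y' c : Ω} {a b a' b' d g : G}

variable {F : Type} [Field F] {ρ : SL(2, F) →* G} {s μ : F} {l : Fˣ} {k k' : ℤ} {j t u : G}
  {r i : ℕ} {X : Subgroup G}

namespace R0

omit [Finite G] in
theorem zz_cj (g a b : G) : g * zz a b * g⁻¹ = zz (g * a * g⁻¹) (g * b * g⁻¹) := by
  simp only [zz, nn]; group

theorem zp (h : TG E p) (ha : a ∈ E x) {m n : ℤ} : a ^ m = a ^ n ↔ m ≡ n [ZMOD p] := by
  rw [zpow_eq_zpow_iff_modEq, h.ord x a ha]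

theorem zp1 (h : TG E p) (ha : a ∈ E x) {m : ℤ} (hm : m ≡ 1 [ZMOD p]) : a ^ m = a := by
  rw [(zp h ha).2 hm, zpow_one]

theorem ne_two (h : TG E p) : 2 ≠ p := by have := h.five; omega

theorem vv_comm (h : TG E p) {v : G} (hv : v ∈ VV E x y) (ha : a ∈ E x) : Commute v a :=
  h.Z_commute (h.R_refl x) hv.1 (h.mem_Z ha)

theorem vv_pa (h : TG E p) {v : G} (hv : v ∈ VV E x y) (ha : a ∈ E x) (hb : b ∈ Pa E a y) :
    v * b * v⁻¹ ∈ Pa E a y := by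
  have := h.pa_conj hb v
  rwa [(vv_comm h hv ha).eq, mul_inv_cancel_right, show v • y = y from hv.2] at this

theorem vv_pg (h : TG E p) (x y : Ω) : IsPGroup p ((VV E x y).map (MulAut.conj : G →* MulAut G)) :=
  ((h.Z_isPGroup x).to_le inf_le_left).map _

theorem tl_pa (h : TG E p) (r1 : R1 E) (ha : a ∈ E x) (hb : b ∈ Pa E a y) (hb' : b' ∈ Pa E a y) (hne : b ≠ b') :
    ∃ k e, Tl p b a (b⁻¹ * b') k e ∧ b⁻¹ * b' ∈ VV E y x ∧ k ∈ VV E x y := by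
  obtain ⟨k, e, t⟩ := h.tl hb.1 hb'.1 ha hne (h.R_refl y _ hb.1 _ hb'.1) hb.2.symm hb'.2.symm
  have h1 := h.conj (b⁻¹ * b') x a ha
  have h2 : x = (b⁻¹ * b') • x := r1 _ _ ((h.R_iff ha h1).2 t.bb)
  rw [← h2] at h1
  refine ⟨k, e, t, ⟨(Z E y).mul_mem ((Z E y).inv_mem (h.mem_Z hb.1)) (h.mem_Z hb'.1), h2.symm⟩, ?_, h.smul_eq hb.1 ?_⟩
  · rw [t.cdef]
    exact (Z E x).mul_mem ((Z E x).inv_mem (h.mem_Z h1)) (h.mem_Z ha)
  · rw [t.ca, mul_inv_cancel_left]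
    exact hb'.1

end R0

open R0

namespace TG

variable (h : TG E p) (r1 : R1 E)
include h r1

theorem opp (hxy : x ≠ y) : ¬ R E x y := fun hr => hxy (r1 _ _ hr)

theorem fix_iff (ha : a ∈ E x) : a • y = y ↔ y = x :=
  ⟨fun e => (r1 _ _ (h.R_of_fix ha e)).symm, fun e => e ▸ h.fix_of_commute (e ▸ ha) (Commute.refl a)⟩

theorem pa_orbit (hxy : x ≠ y) (ha : a ∈ E x) (hb : b ∈ Pa E a y) (hb' : b' ∈ Pa E a y) :
    ∃ v ∈ VV E x y, v * b * v⁻¹ = b' := by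
  by_cases e : b = b'
  · exact ⟨1, one_mem _, by simpa using e⟩
  obtain ⟨k, e, t, -, hk⟩ := tl_pa h r1 ha hb hb' e
  exact ⟨k, hk, by rw [t.ca, mul_inv_cancel_left]⟩

theorem pa_div (hxy : x ≠ y) (ha : a ∈ E x) (hb : b ∈ Pa E a y) (hb' : b' ∈ Pa E a y) :
    b⁻¹ * b' ∈ VV E y x := by
  by_cases e : b = b'
  · rw [e, inv_mul_cancel]; exact one_mem _
  obtain ⟨k, e, -, hw, -⟩ := tl_pa h r1 ha hb hb' e
  exact hw

theorem pa_card (hxy : x ≠ y) (ha : a ∈ E x) : ∃ i : ℕ, (Pa E a y).ncard = p ^ i := by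
  have : Fact p.Prime := ⟨h.prime⟩
  obtain ⟨b, hb⟩ := h.exists_pa ha (h.opp r1 hxy)
  obtain ⟨i, hi⟩ := (vv_pg h x y).card_orbit b
  refine ⟨i, ?_⟩
  rw [← hi, Nat.card_coe_set_eq]
  congr 1
  ext b'
  constructor
  · intro hb'
    obtain ⟨v, hv, e⟩ := h.pa_orbit r1 hxy ha hb hb'
    exact ⟨⟨_, v, hv, rfl⟩, e⟩
  · rintro ⟨⟨_, v, hv, rfl⟩, rfl⟩
    exact vv_pa h hv ha hb

theorem pa_fix (hxy : x ≠ y) (ha : a ∈ E x) (hr : r.Prime) (hrp : r ≠ p) (hg : g ^ r ^ i = 1)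
    (hy : g • y = y) (hk : k * k' ≡ 1 [ZMOD p]) (hga : g * a * g⁻¹ = a ^ k) :
    ∃ b ∈ Pa E a y, g * b * g⁻¹ = b ^ k' := by
  classical
  have : Fact r.Prime := ⟨hr⟩
  have hak : a ^ k ∈ E x := h.zpow_mem ha fun d => by
    have h1 := (Int.modEq_zero_iff_dvd.2 (d.mul_right k')).symm.trans hk
    exact h.ne_one ha (by simpa using ((zp h ha).2 h1).symm)
  have hm : ∀ b ∈ Pa E a y, (g * b * g⁻¹) ^ k ∈ Pa E a y := fun b hb => by
    have h1 := h.pa_conj hb g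
    rw [hga, hy] at h1
    have h2 := h.pa_zpow hak (h.opp r1 hxy) h1 (k := k') (k' := k) (by rwa [mul_comm])
    rwa [← zpow_mul, zp1 h ha hk] at h2
  let f : Function.End (Pa E a y) := fun b => ⟨_, hm b b.2⟩
  have hf : ∀ (n : ℕ) (b : Pa E a y), ((f ^ n) b : G) = g ^ n * (b : G) ^ k ^ n * (g ^ n)⁻¹ := fun n b => by
    induction n with
    | zero => simp [Function.End.one_def]
    | succ n ih =>
      rw [pow_succ']
      show (g * ((f ^ n) b : G) * g⁻¹) ^ k = _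
      rw [ih, conj_zpow, conj_zpow, ← zpow_mul, ← pow_succ, pow_succ' g]; group
  have hn : ∀ n : ℕ, g ^ n * a * (g ^ n)⁻¹ = a ^ k ^ n := fun n => by
    induction n with
    | zero => simp
    | succ n ih =>
      rw [pow_succ' k, zpow_mul, ← hga, conj_zpow, ← ih, pow_succ' g]; group
  have h1 : k ^ r ^ i ≡ 1 [ZMOD p] := (zp h ha).1 (by rw [← hn, hg]; simp)
  have h2 : f ^ r ^ i = 1 := funext fun b => Subtype.ext (by
    rw [hf, hg, zp1 h b.2.1 h1]; simp [Function.End.one_def])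
  have := Fintype.ofFinite (Pa E a y)
  have h3 := Equiv.Perm.card_fixedPoints_modEq h2
  obtain ⟨n, hn⟩ := h.pa_card r1 hxy ha
  rw [← Nat.card_coe_set_eq, Nat.card_eq_fintype_card] at hn
  obtain ⟨⟨b, hb⟩⟩ : Nonempty f.fixedPoints := by
    rw [← Fintype.card_pos_iff, Nat.pos_iff_ne_zero]
    intro e
    rw [e, hn, Nat.modEq_zero_iff_dvd] at h3
    exact hrp ((Nat.prime_dvd_prime_iff_eq hr h.prime).1 (hr.dvd_of_dvd_pow h3))
  have h4 : (g * b * g⁻¹) ^ k = b := congrArg Subtype.val hb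
  refine ⟨b, b.2, ?_⟩
  rw [← zp1 h (h.conj g y b b.2.1) hk, zpow_mul, h4]

theorem fix_inv (hj : j * j = 1) (ha : a ∈ E x) (hc : Commute j a) :
    fixedBy Ω j = Px E (centralizer {j}) := by
  ext c
  refine ⟨fun hf => ?_, fun ⟨d, hd, e⟩ => h.fix_of_commute hd (mem_centralizer_singleton_iff.1 e).symm⟩
  by_cases e : x = c
  · exact ⟨a, e ▸ ha, mem_centralizer_singleton_iff.2 hc.symm.eq⟩
  obtain ⟨b, hb, e⟩ := h.pa_fix r1 e ha Nat.prime_two (ne_two h) (g := j) (i := 1) (k := 1) (k' := 1)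
    (by rw [pow_one, pow_two, hj]) hf rfl (by rw [hc.eq]; simp)
  exact ⟨b, hb.1, mem_centralizer_singleton_iff.2 (by rw [zpow_one, mul_inv_eq_iff_eq_mul] at e; exact e.symm)⟩

theorem two_fix (hxy : x ≠ y) (hr : r.Prime) (hrp : r ≠ p) (ht : t ^ r ^ i = 1)
    (hx : Sc E x t k) (hy : Sc E y t k') (hk : k * k' ≡ 1 [ZMOD p]) (h2 : ¬ k * k ≡ 1 [ZMOD p])
    (hc : t • c = c) : c = x ∨ c = y := by
  by_contra hn
  obtain ⟨h3, h4⟩ := not_or.1 hn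
  obtain ⟨a, ha⟩ := h.ne x
  obtain ⟨d, hd, e⟩ := h.pa_fix r1 (Ne.symm h3) ha hr hrp ht hc hk (hx.2 a (h.mem_Z ha))
  obtain ⟨b, hb, e'⟩ := h.pa_fix r1 h4 hd.1 hr hrp ht hy.1 (k' := k) (by rwa [mul_comm]) e
  rw [hy.2 b (h.mem_Z hb.1), zp h hb.1] at e'
  exact h2 ((e'.symm.mul_left k).trans hk)

theorem zz_conj (hxy : x ≠ y) (ha : a ∈ E x) (hb : b ∈ Pa E a y) (ha' : a' ∈ E x)
    (hb' : b' ∈ Pa E a' y) : ∃ g ∈ VV E x y ⊔ VV E y x, g * zz a b * g⁻¹ = zz a' b' := by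
  obtain ⟨F, _, ρ, μ, hc, hμ, rfl, rfl, -⟩ := h.exists_ch ha' hb.1 (h.opp r1 hxy)
  have h0 : -μ⁻¹ ≠ 0 := by simpa using hμ
  have h1 : ρ (slUp (-μ⁻¹)) ∈ Pa E (ρ (slLo μ)) x :=
    ⟨hc.up_mem h hμ hb.1, ((hc.br_iff h h0).2 (by field_simp)).symm⟩
  have h2 := hc.lo_mem h one_ne_zero ha'
  obtain ⟨v, hv, e1⟩ := h.pa_orbit r1 hxy.symm hb.1 (h.pa_symm ha hb) h1
  obtain ⟨w, hw, e2⟩ := h.pa_orbit r1 hxy ha' h2 hb'
  refine ⟨w * v, mul_mem (mem_sup_left hw) (mem_sup_right hv), ?_⟩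
  have e3 := hc.zz_eq h h0
  rw [inv_neg, inv_inv, neg_neg] at e3
  have e4 : v * zz a (ρ (slLo μ)) * v⁻¹ = zz (ρ (slUp 1)) (ρ (slLo (-1⁻¹))) := by
    rw [zz_cj, e1, (vv_comm h hv hb.1).eq, mul_inv_cancel_right, e3, hc.zz_eq h one_ne_zero]
  rw [← e2, ← mul_inv_cancel_right (ρ (slUp 1)) w, ← (vv_comm h hw ha').eq, ← zz_cj, ← e4]
  group

theorem no_cent (hu : u * u = 1) (hx : Sc E x u (-1)) (hd : d ∈ E c) : ¬ Commute u d := fun hc => by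
  obtain ⟨a, ha, e⟩ : x ∈ Px E (centralizer {u}) := h.fix_inv r1 hu hd hc ▸ hx.1
  have h1 := hx.2 a (h.mem_Z ha)
  rw [← mem_centralizer_singleton_iff.1 e, mul_inv_cancel_right] at h1
  have h2 : (p : ℤ) ∣ 2 := by simpa using ((zp h ha).1 (h1.symm.trans (zpow_one a).symm)).dvd
  have h3 := Int.le_of_dvd two_pos h2
  have := h.five
  omega

theorem inv_some (hu : u * u = 1) (hx : Sc E x u (-1)) (hc : u • c = c) :
    ∃ d ∈ E c, u * d * u⁻¹ = d⁻¹ := by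
  obtain ⟨a, ha⟩ := h.ne x
  have h1 := hx.2 a (h.mem_Z ha)
  by_cases e : x = c
  · exact ⟨a, e ▸ ha, by simpa using h1⟩
  obtain ⟨b, hb, e⟩ := h.pa_fix r1 e ha Nat.prime_two (ne_two h) (g := u) (i := 1) (k := -1) (k' := -1)
    (by rw [pow_one, pow_two, hu]) hc (by simp [Int.ModEq]) h1
  exact ⟨b, hb.1, by simpa using e⟩

theorem t2_HX (hx : x ∈ Px E X) (hy : y ∈ Px E X) : ∃ g ∈ HX E X, g • x = y := by
  by_cases e : x = y
  · exact ⟨1, one_mem _, by simpa using e⟩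
  obtain ⟨a, ha, haX⟩ := hx
  obtain ⟨d, hd, hdX⟩ := hy
  obtain ⟨F, _, ρ, μ, hc, -, -, -, hr⟩ := h.exists_ch ha hd (h.opp r1 e)
  refine ⟨ρ (wy 1), closure_mono ?_ (hr.le ⟨_, rfl⟩), (hc.wy_swap h one_ne_zero).1⟩
  rintro _ (rfl | rfl)
  exacts [⟨haX, x, ha⟩, ⟨hdX, y, hd⟩]

theorem pa_mem (hxy : x ≠ y) (ha : a ∈ E x) (haX : a ∈ X) (hy : y ∈ Px E X) :
    ∃ b ∈ Pa E a y, b ∈ X := by
  obtain ⟨d, hd, hdX⟩ := hy
  obtain ⟨F, _, ρ, μ, hc, -, rfl, -, hr⟩ := h.exists_ch ha hd (h.opp r1 hxy)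
  refine ⟨_, hc.lo_mem h one_ne_zero ha, (closure_le X).2 ?_ (hr.le ⟨_, rfl⟩)⟩
  rintro _ (rfl | rfl)
  exacts [haX, hdX]

end TG

end Cfsg.Agent.PT
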