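import Mathlib
import Cfsg.Agent.PT.R0

set_option autoImplicit false
set_option linter.unusedSectionVars false
set_option linter.unusedVariables false

namespace Cfsg.Agent.PT

open Subgroup MulAction Cfsg.Agent.GT Cfsg.Agent.TT Cfsg.Agent.Perm.TT Cfsg.Agent.Perm.TwoCount
open Cfsg.Agent.KS (St NT)
open scoped MatrixGroups commutatorElement

universe u v

variable {G : Type u} {Ω : Type v} [Group G] [MulAction G Ω] [Finite G] [Finite Ω]
  {E : Ω → Set G} {p : ℕ} {x y x' y' c : Ω} {a b a' b' d g : G}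

variable {F : Type} [Field F] {ρ : SL(2, F) →* G} {s μ : F} {l : Fˣ} {k k' : ℤ} {j t u : G}
  {r i : ℕ} {X : Subgroup G}

namespace R0i

open R0

theorem imp_mono (h : TG E p) (g : G) (hi : Imp E x y) : Imp E (g • x) (g • y) := by
  obtain ⟨h1, a, ha, b, hb, b', hb', e⟩ := hi
  exact ⟨mt (h.R_smul g).1 h1, _, h.conj g x a ha, _, h.pa_conj hb g, _, h.pa_conj hb' g, by simpa using e⟩

theorem slp_mono (h : TG E p) (g : G) (hi : SLp E x y) : SLp E (g • x) (g • y) := by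
  obtain ⟨h1, a, ha, b, hb, e⟩ := hi
  exact ⟨mt (h.R_smul g).1 h1, _, h.conj g x a ha, _, h.pa_conj hb g, by rw [← zz_cj]; simpa using e⟩

theorem ne_of (h : TG E p) (hr : ¬ R E x y) : x ≠ y := fun e => hr (e ▸ h.R_refl x)

theorem odd (h : TG E p) : Odd p := h.prime.odd_of_ne_two (ne_two h).symm

theorem vv_fix (h : TG E p) {v : G} (hv : v ∈ VV E x y ⊔ VV E y x) : v • x = x ∧ v • y = y := by
  have : VV E x y ⊔ VV E y x ≤ stabilizer G x ⊓ stabilizer G y :=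
    sup_le (fun v hv => ⟨h.Z_fix (h.R_refl x) hv.1, hv.2⟩) fun v hv => ⟨hv.2, h.Z_fix (h.R_refl y) hv.1⟩
  exact this hv

theorem vv_cj (h : TG E p) {v : G} (hv : v ∈ VV E x y) (hx : g • x = x) (hy : g • y = y) :
    g * v * g⁻¹ ∈ VV E x y := by
  refine ⟨hx ▸ (h.Z_conj g).2 hv.1, ?_⟩
  show (g * v * g⁻¹) • y = y
  rw [mul_smul, mul_smul, inv_smul_eq_iff.2 hy.symm, show v • y = y from hv.2, hy]

omit [Finite G] in
theorem comm_zz {v : G} (h1 : Commute v a) (h2 : Commute v b) : Commute (zz a b) v :=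
  (((h1.mul_right h2).mul_right h1).mul_right ((h1.mul_right h2).mul_right h1)).symm

theorem core (h : TG E p) (r1 : R1 E) (hi : Imp E x y) (ha : a ∈ E x) (hb : b ∈ Pa E a y) :
    (∃ v ∈ VV E y x, ¬ Commute v a) ∧ ∃ v ∈ VV E x y, ¬ Commute v b := by
  obtain ⟨h1, a₀, ha₀, b₀, hb₀, b₁, hb₁, e⟩ := hi
  obtain ⟨k, e, t, hw, hk⟩ := tl_pa h r1 ha₀ hb₀ hb₁ e
  obtain ⟨-, h2, h3⟩ := t.zz_ne (odd h)
  rw [(h.zz_sq ha₀ h1 hb₀).2.2.2] at h2 h3
  obtain ⟨g, hg, e⟩ := h.zz_conj r1 (ne_of h h1) ha₀ hb₀ ha hb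
  obtain ⟨gx, gy⟩ := vv_fix h hg
  have key : ∀ v, Commute (zz a b) (g * v * g⁻¹) → Commute (zz a₀ b₀) v := fun v hv => by
    rw [← e] at hv
    simpa [mul_assoc] using hv.map (MulAut.conj g⁻¹)
  exact ⟨⟨_, vv_cj h hw gy gx, fun c => h2 (key _ (comm_zz c (vv_comm h (vv_cj h hw gy gx) hb.1)))⟩,
    _, vv_cj h hk gx gy, fun c => h3 (key _ (comm_zz (vv_comm h (vv_cj h hk gx gy) ha) c))⟩

theorem norm_vv (h : TG E p) (r1 : R1 E) (hxy : x ≠ y) :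
    Z E y ≤ normalizer (VV E x y ⊔ VV E y x : Subgroup G) := by
  refine (closure_le _).2 fun d hd => mem_normalizer_fintype ?_
  have : VV E x y ⊔ VV E y x ≤ (VV E x y ⊔ VV E y x).comap (MulAut.conj d).toMonoidHom := by
    refine sup_le (fun v hv => ?_) fun v hv => ?_
    · obtain ⟨a, ha⟩ := h.exists_pa (h.inv_mem hd) (h.opp r1 hxy.symm)
      have h1 := h.pa_symm (h.inv_mem hd) ha
      have h2 := mul_mem (mem_sup_right (S := VV E x y) (h.pa_div r1 hxy ha.1 h1 (vv_pa h hv ha.1 h1)))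
        (mem_sup_left hv)
      simpa [mul_assoc] using h2
    · show d * v * d⁻¹ ∈ VV E x y ⊔ VV E y x
      rw [← (vv_comm h hv hd).eq, mul_inv_cancel_right]
      exact mem_sup_right hv
  exact this

end R0i

open R0 R0i

namespace TG

variable (h : TG E p) (r1 : R1 E)
include h r1

theorem imp_smul (g : G) : Imp E (g • x) (g • y) ↔ Imp E x y :=
  ⟨fun hi => by simpa using imp_mono h g⁻¹ hi, imp_mono h g⟩

theorem slp_smul (g : G) : SLp E (g • x) (g • y) ↔ SLp E x y :=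
  ⟨fun hi => by simpa using slp_mono h g⁻¹ hi, slp_mono h g⟩

theorem slp_all (hs : SLp E x y) (ha : a ∈ E x) (hb : b ∈ Pa E a y) : zz a b ≠ 1 := by
  obtain ⟨h1, a₀, ha₀, b₀, hb₀, e⟩ := hs
  obtain ⟨g, -, e'⟩ := h.zz_conj r1 (ne_of h h1) ha₀ hb₀ ha hb
  rw [← e']
  simpa using e

theorem slp_symm (hs : SLp E x y) : SLp E y x := by
  obtain ⟨h1, a, ha, b, hb, e⟩ := hs
  exact ⟨mt h.R_symm h1, b, hb.1, a, h.pa_symm ha hb, by rwa [(h.zz_sq ha h1 hb).2.2.2]⟩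

theorem imp_slp (hi : Imp E x y) : SLp E x y := by
  obtain ⟨h1, a, ha, b, hb, b', hb', e⟩ := hi
  obtain ⟨k, e, t, -⟩ := tl_pa h r1 ha hb hb' e
  exact ⟨h1, a, ha, b, hb, (h.zz_sq ha h1 hb).2.2.2 ▸ (t.zz_ne (odd h)).1⟩

theorem imp_symm (hi : Imp E x y) : Imp E y x := by
  obtain ⟨a, ha⟩ := h.ne x
  obtain ⟨b, hb⟩ := h.exists_pa ha hi.1
  obtain ⟨v, hv, e⟩ := (core h r1 hi ha hb).1
  exact ⟨mt h.R_symm hi.1, b, hb.1, a, h.pa_symm ha hb, _, vv_pa h hv hb.1 (h.pa_symm ha hb),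
    fun c => e (eq_mul_inv_iff_mul_eq.1 c).symm⟩

theorem imp_all (hi : Imp E x y) (ha : a ∈ E x) : ∃ b ∈ Pa E a y, ∃ b' ∈ Pa E a y, b ≠ b' := by
  obtain ⟨b, hb⟩ := h.exists_pa ha hi.1
  obtain ⟨v, hv, e⟩ := (core h r1 hi ha hb).2
  exact ⟨b, hb, _, vv_pa h hv ha hb, fun c => e (eq_mul_inv_iff_mul_eq.1 c).symm⟩

theorem imp_vv (hi : Imp E x y) : VV E x y ≠ ⊥ := fun e => by
  obtain ⟨a, ha⟩ := h.ne x
  obtain ⟨b, hb⟩ := h.exists_pa ha hi.1
  obtain ⟨v, hv, c⟩ := (core h r1 hi ha hb).2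
  rw [e, mem_bot] at hv
  exact c (hv ▸ Commute.one_left b)

theorem imp_yy (hf : ∀ g : G, (∀ x : Ω, g • x = x) → g = 1) (hi : Imp E x y) : YY E x y ≠ ⊤ := fun e => by
  have hxy := ne_of h hi.1
  have h1 : YY E x y ≤ normalizer (VV E x y ⊔ VV E y x : Subgroup G) :=
    sup_le (sup_comm (VV E y x) _ ▸ norm_vv h r1 hxy.symm) (norm_vv h r1 hxy)
  refine h.imp_vv r1 hi (eq_bot_iff.2 fun v hv => hf v fun c => ?_)
  obtain ⟨g, rfl⟩ := h.tr x c
  have h2 := (vv_fix h ((mem_normalizer_iff.1 (h1 (e ▸ mem_top g⁻¹)) v).1 (mem_sup_left hv))).1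
  rwa [inv_inv, mul_smul, mul_smul, inv_smul_eq_iff] at h2

theorem imp_dvd (hi : Imp E x y) : p ∣ (E x).ncard := by
  have : Fact p.Prime := ⟨h.prime⟩
  let S : SubMulAction ((VV E y x).map (MulAut.conj : G →* MulAut G)) G :=
    { carrier := E x
      smul_mem' := by
        rintro ⟨_, v, hv, rfl⟩ a ha
        have := h.conj v x a ha
        rwa [show v • x = x from hv.2] at this }
  have h1 := (vv_pg h y x).card_modEq_card_fixedPoints S
  have h2 : IsEmpty (fixedPoints ((VV E y x).map (MulAut.conj : G →* MulAut G)) S) := ⟨fun ⟨⟨a, ha⟩, e⟩ => by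
    obtain ⟨b, hb⟩ := h.exists_pa ha hi.1
    obtain ⟨v, hv, c⟩ := (core h r1 hi ha hb).1
    exact c (mul_inv_eq_iff_eq_mul.1 (congrArg Subtype.val (e ⟨_, v, hv, rfl⟩)))⟩
  rw [Nat.card_of_isEmpty (α := fixedPoints _ _), Nat.modEq_zero_iff_dvd] at h1
  exact h1

theorem imp_not_inv (hi : Imp E x y) (hu : u * u = 1) (hx : Sc E x u (-1)) :
    ¬ Sc E y u (-1) := fun hy => by
  obtain ⟨-, b, hb, a, ha, a', ha', e⟩ := h.imp_symm r1 hi
  obtain ⟨k, e, t, hw, hk⟩ := tl_pa h r1 hb ha ha' e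
  generalize a⁻¹ * a' = w at t hw
  have h1 := hx.2 w hw.1
  have h2 := hy.2 b (h.mem_Z hb)
  have h3 := hy.2 k hk.1
  rw [zpow_neg_one] at h1 h2 h3
  have h4 : k⁻¹ = w⁻¹ * (k * w) := by
    rw [← h3, ← t.bw]
    conv_lhs => rw [t.cdef]
    calc _ = ((u * w * u⁻¹) * (u * b * u⁻¹) * (u * w * u⁻¹)⁻¹)⁻¹ * (u * b * u⁻¹) := by group
      _ = _ := by rw [h1, h2]; group
  have h5 : w * k * w⁻¹ = k⁻¹ := by
    rw [← inv_inj, inv_inv]
    calc _ = w * k⁻¹ * w⁻¹ := by group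
      _ = _ := by rw [h4]; group
  refine t.c_sq_not (odd h) ?_
  rw [t.edef, h5, ← mul_inv_rev, zpowers_inv]
  exact mem_zpowers _

theorem imp_cent (hxy : x ≠ y) (hj : j * j = 1) (hx : j ∈ CZ E x) (hy : j • y = y) :
    j ∈ CZ E y := h.mem_CZ.2 fun b hb => by
  obtain ⟨a, ha⟩ := h.exists_pa hb (h.opp r1 hxy.symm)
  obtain ⟨b₀, hb₀, e⟩ := h.pa_fix r1 hxy ha.1 Nat.prime_two (ne_two h) (g := j) (i := 1) (k := 1) (k' := 1)
    (by rw [pow_one, pow_two, hj]) hy rfl (by rw [(h.mem_CZ.1 hx a ha.1).eq]; simp)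
  obtain ⟨v, hv, rfl⟩ := h.pa_orbit r1 hxy ha.1 hb₀ (h.pa_symm hb ha)
  rw [zpow_one, mul_inv_eq_iff_eq_mul] at e
  have c : Commute j v := (hx v hv.1).symm
  exact (c.mul_right e).mul_right c.inv_right

end TG

end Cfsg.Agent.PT
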