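import Mathlib
import Cfsg.Agent.PT.R0i
import Cfsg.Agent.PT.B4

/-! Pairs of points with unique braid partners. -/

set_option autoImplicit false

namespace Cfsg.Agent.PT

open Subgroup MulAction Cfsg.Agent.GT Cfsg.Agent.TT Cfsg.Agent.Perm.TT Cfsg.Agent.Perm.TwoCount
open Cfsg.Agent.KS (St NT)
open scoped MatrixGroups commutatorElement

universe u v

variable {G : Type u} {Ω : Type v} [Group G] [MulAction G Ω] [Finite G] [Finite Ω]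
  {E : Ω → Set G} {p : ℕ} {x y x' y' c : Ω} {a b a' b' d g : G}

variable {F : Type} [Field F] {ρ : SL(2, F) →* G} {s μ : F} {l : Fˣ} {k k' : ℤ} {j t u : G}
  {r i : ℕ} {X : Subgroup G}

namespace R0p

theorem up_zpow {K : Type*} [Field K] (t : K) (k : ℤ) : slUp t ^ k = slUp ((k : K) * t) := by
  obtain ⟨n, rfl | rfl⟩ := k.eq_nat_or_neg
  · rw [zpow_natCast, slUp_pow, Int.cast_natCast]
  · rw [zpow_neg, zpow_natCast, slUp_pow, Int.cast_neg, Int.cast_natCast, neg_mul, slUp_neg]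

theorem lo_zpow {K : Type*} [Field K] (t : K) (k : ℤ) : slLo t ^ k = slLo ((k : K) * t) := by
  obtain ⟨n, rfl | rfl⟩ := k.eq_nat_or_neg
  · rw [zpow_natCast, slLo_pow, Int.cast_natCast]
  · rw [zpow_neg, zpow_natCast, slLo_pow, Int.cast_neg, Int.cast_natCast, neg_mul, slLo_neg]

theorem inv_ex (hp : p.Prime) (hk : ¬ (p : ℤ) ∣ k) : ∃ k' : ℤ, k * k' ≡ 1 [ZMOD p] := by
  obtain ⟨a, b, e⟩ := ((Nat.prime_iff_prime_int.1 hp).coprime_iff_not_dvd).2 hk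
  exact ⟨b, (Int.modEq_iff_dvd.2 ⟨a, by linear_combination -e⟩)⟩

theorem cast_mul {K : Type*} [Field K] [CharP K p] (hk : k * k' ≡ 1 [ZMOD p]) : (k : K) * (k' : K) = 1 := by
  have := (CharP.intCast_eq_intCast K p).2 hk
  rwa [Int.cast_mul, Int.cast_one] at this

omit [Finite G] in
theorem dg_eq [CharP F p] (ρ : SL(2, F) →* G) (hs : s ≠ 0) (hl : (l : F) = k) (hk : k * k' ≡ 1 [ZMOD p]) :
    ρ (dg l) = ρ (slUp s) ^ k * ρ (slLo (-s⁻¹)) ^ k' * ρ (slUp s) ^ k *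
      (ρ (slUp s) * ρ (slLo (-s⁻¹)) * ρ (slUp s))⁻¹ := by
  have e : -((l : F) * s)⁻¹ = (k' : F) * -s⁻¹ := by
    rw [hl, mul_inv, ← eq_inv_of_mul_eq_one_right (cast_mul (K := F) hk), mul_neg]
  rw [← wy_div l hs, wy, wy, e, hl, ← up_zpow, ← lo_zpow]
  simp only [map_mul, map_inv, map_zpow]

theorem sq_mul [Finite F] {a b : F} (ha : ¬ IsSquare a) (hb : ¬ IsSquare b) : IsSquare (a * b) := by
  classical
  have := Fintype.ofFinite F
  have a0 : a ≠ 0 := fun e => ha (e ▸ IsSquare.zero)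
  have b0 : b ≠ 0 := fun e => hb (e ▸ IsSquare.zero)
  rw [← quadraticChar_one_iff_isSquare (mul_ne_zero a0 b0), map_mul, quadraticChar_neg_one_iff_not_isSquare.2 ha,
    quadraticChar_neg_one_iff_not_isSquare.2 hb]
  norm_num

theorem two_ne [CharP F p] (h5 : 5 ≤ p) : (2 : F) ≠ 0 := fun e => by
  have := Nat.le_of_dvd two_pos ((CharP.cast_eq_zero_iff F p 2).1 (by exact_mod_cast e))
  omega

theorem ex_i [CharP F p] (hp : p.Prime) (h4 : p % 4 = 1) : ∃ n : ℤ, (n : F) * n = -1 := by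
  have := Fact.mk hp
  obtain ⟨i, hi⟩ := (ZMod.exists_sq_eq_neg_one_iff (p := p)).2 (by omega)
  obtain ⟨n, rfl⟩ := ZMod.intCast_surjective i
  refine ⟨n, ?_⟩
  have : ((n * n : ℤ) : F) = ((-1 : ℤ) : F) :=
    (CharP.intCast_eq_intCast F p).2 ((ZMod.intCast_eq_intCast_iff _ _ _).1 (by push_cast; exact hi.symm))
  exact_mod_cast this

theorem sq_or [Finite F] [CharP F p] (hp : p.Prime) (h5 : 5 ≤ p) (h4 : p % 4 = 1) {m : F} {σ : F ≃+* F}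
    (h : ∀ t, m * σ (m * σ t) = t) (h1 : 1 + m ≠ 0) (h2 : 1 - m ≠ 0) : IsSquare (1 + m) ∨ IsSquare (1 - m) := by
  by_contra hn
  obtain ⟨w, hw⟩ := sq_mul (fun e => hn (.inl e)) fun e => hn (.inr e)
  obtain ⟨n, hn⟩ := ex_i (F := F) hp h4
  have hm : m * σ m = 1 := by simpa using h 1
  have w0 : w ≠ 0 := fun e => mul_ne_zero h1 h2 (by rw [hw, e, mul_zero])
  have e1 : σ w * σ w = (1 + σ m) * (1 - σ m) := by rw [← map_mul, ← hw]; simp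
  have e2 : (m * σ w) ^ 2 = (n * w) ^ 2 := by
    linear_combination m ^ 2 * e1 - (m * σ m + 1) * hm - hw - w ^ 2 * hn
  have e3 := h w
  refine w0 ((mul_eq_zero.1 (?_ : 2 * w = 0)).resolve_left (two_ne h5))
  rcases sq_eq_sq_iff_eq_or_eq_neg.1 e2 with e | e
  · rw [e, map_mul, map_intCast] at e3
    linear_combination -e3 + n * e + w * hn
  · rw [e, map_neg, map_mul, map_intCast] at e3
    linear_combination -e3 - n * e + w * hn

end R0p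

namespace TG

variable (h : TG E p) (r1 : R1 E) (hxy : x ≠ y) (hp : ¬ Imp E x y)
include h r1 hxy hp

theorem pa_eq (ha : a ∈ E x) (hb : b ∈ Pa E a y) (hb' : b' ∈ Pa E a y) : b = b' := by
  by_contra ne
  exact hp ⟨h.opp r1 hxy, a, ha, b, hb, b', hb', ne⟩

theorem common (ha : a ∈ E x) (ha' : a' ∈ E x) (hb : b ∈ Pa E a y) :
    ∃ (F : Type) (_ : Field F) (ρ : SL(2, F) →* G) (s : F), Ch E p ρ x y ∧ ρ (slUp 1) = a' ∧
      s ≠ 0 ∧ ρ (slUp s) = a ∧ ρ (slLo (-s⁻¹)) = b ∧ ρ.range = closure {a', b} := by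
  obtain ⟨F, _, ρ, μ, hc, h0, e1, e2, e3⟩ := h.exists_ch ha' hb.1 (h.opp r1 hxy)
  have s0 : -μ⁻¹ ≠ 0 := neg_ne_zero.2 (inv_ne_zero h0)
  have h1 := hc.up_mem h h0 (e2 ▸ hb.1)
  have h2 : Br (ρ (slUp (-μ⁻¹))) (ρ (slLo μ)) := (hc.br_iff h s0).2 (by rw [neg_mul, inv_mul_cancel₀ h0])
  rw [e2] at h2
  refine ⟨F, _, ρ, -μ⁻¹, hc, e1, s0, ?_, by rw [inv_neg, neg_neg, inv_inv, e2], e3⟩
  exact h.pa_eq r1 hxy.symm (fun e => hp (h.imp_symm r1 e)) hb.1 ⟨h1, h2.symm⟩ (h.pa_symm ha hb)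

theorem sc_dg (hc : Ch E p ρ x y) (hl : (l : F) = k) : Sc E x (ρ (dg l)) (k * k) := by
  refine h.Sc_iff.2 ⟨(hc.dg_fix h l).1, fun a' ha' => ?_⟩
  have := hc.char
  obtain ⟨k', hk⟩ := R0p.inv_ex h.prime (k := k) fun e => l.ne_zero (hl.trans ((CharP.intCast_eq_zero_iff F p k).2 e))
  obtain ⟨F', _, ρ', s, hc', e1, s0, e2, e3, -⟩ :=
    h.common r1 hxy hp (hc.up_one h) ha' (hc.lo_mem h one_ne_zero (hc.up_one h))
  have := hc'.char
  have k0 : (k : F') ≠ 0 := left_ne_zero_of_mul_eq_one (R0p.cast_mul hk)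
  have e : ρ (dg l) = ρ' (dg (Units.mk0 _ k0)) := by
    rw [R0p.dg_eq ρ one_ne_zero hl hk, R0p.dg_eq ρ' s0 (l := Units.mk0 _ k0) rfl hk, e2, e3]
  rw [e, ← e1, ← map_inv, ← map_mul, ← map_mul, dg_up, ← map_zpow, R0p.up_zpow, Units.val_mk0, Int.cast_mul, sq]

theorem sl1 (hx : Sc E x g k) (hy : g • y = y) (hk : k * k' ≡ 1 [ZMOD p]) : Sc E y g k' := by
  refine h.Sc_iff.2 ⟨hy, fun b hb => ?_⟩
  obtain ⟨a, ha⟩ := h.exists_pa hb (h.opp r1 hxy.symm)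
  have hb' := h.pa_symm hb ha
  have e := (h.Sc_iff.1 hx).2 a ha.1
  have h1 := h.pa_conj hb' g
  have h2 := h.conj g x a ha.1
  rw [hx.1, e] at h2
  rw [e, hy] at h1
  exact h.pa_eq r1 hxy hp h2 h1 (h.pa_zpow ha.1 (h.opp r1 hxy) hb' hk)

theorem KK_eq : KK E x y = centralizer (YY E x y : Set G) := by
  refine le_antisymm (fun g hg => ?_) fun g hg => ⟨centralizer_le (show Z E x ≤ YY E x y from le_sup_left) hg, ?_⟩
  · have h1 : g ∈ CZ E y := h.Sc_one.1 (h.sl1 r1 hxy hp (k' := 1) (h.Sc_one.2 hg.1) hg.2 (by rw [mul_one]))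
    have h2 : YY E x y ≤ centralizer {g} :=
      sup_le (fun u hu => mem_centralizer_singleton_iff.2 (hg.1 u hu))
        fun u hu => mem_centralizer_singleton_iff.2 (h1 u hu)
    exact fun u hu => mem_centralizer_singleton_iff.1 (h2 hu)
  · obtain ⟨b, hb⟩ := h.ne y
    exact h.fix_of_commute hb (hg b (mem_sup_right (h.mem_Z hb))).symm

theorem vv_bot : VV E x y = ⊥ := by
  refine eq_bot_iff.2 fun v hv => mem_bot.2 ?_
  have h1 : v ∈ centralizer (YY E x y : Set G) := h.KK_eq r1 hxy hp ▸ ⟨h.Z_le_CZ x hv.1, hv.2⟩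
  obtain ⟨a, ha⟩ := h.ne x
  obtain ⟨b, hb⟩ := h.ne y
  obtain ⟨F, _, ρ, μ, hc, -⟩ := h.exists_ch ha hb (h.opp r1 hxy)
  have := hc.char
  have h2 := (h.sc_dg r1 hxy hp hc (l := Units.mk0 2 (R0p.two_ne h.five)) (k := 2) (by simp)).2 v hv.1
  rw [h1 _ (hc.range_le h ⟨_, rfl⟩), mul_inv_cancel_right] at h2
  have h3 : v ^ 3 = 1 := by
    calc v ^ 3 = v ^ (2 * 2 : ℤ) * v⁻¹ := by group
      _ = 1 := by rw [← h2, mul_inv_cancel]
  have h4 := pow_gcd_eq_one.2 ⟨h3, h.Z_pow hv.1⟩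
  have h5 : Nat.gcd 3 p = 1 := (Nat.coprime_primes Nat.prime_three h.prime).2 (by have := h.five; omega)
  rwa [h5, pow_one] at h4

theorem neg_mem (hc : Ch E p ρ x y) : ρ (-1) ∈ KK E x y := by
  have e : dg (-1 : Fˣ) = -1 := by rw [dg_neg, dg_one]
  have h1 := h.sc_dg r1 hxy hp hc (l := -1) (k := -1) (by simp)
  have h2 := (hc.dg_fix h (-1)).2
  rw [e] at h1 h2
  exact ⟨h.Sc_one.1 (by simpa using h1), h2⟩

theorem zz_eq (hc : Ch E p ρ x y) (ha : a ∈ E x) (hb : b ∈ Pa E a y) : zz a b = ρ (-1) := by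
  obtain ⟨g, hg, e⟩ := h.zz_conj r1 hxy (hc.up_one h) (hc.lo_mem h one_ne_zero (hc.up_one h)) ha hb
  rw [h.vv_bot r1 hxy hp, h.vv_bot r1 hxy.symm fun e => hp (h.imp_symm r1 e), bot_sup_eq, mem_bot] at hg
  rw [← e, hg, hc.zz_eq h one_ne_zero, one_mul, inv_one, mul_one]

theorem KK_symm : KK E x y = KK E y x := by
  rw [h.KK_eq r1 hxy hp, h.KK_eq r1 hxy.symm fun e => hp (h.imp_symm r1 e), YY, YY, sup_comm]

theorem R0p_pow (ha : a ∈ E x) (hb : b ∈ Pa E a y) (ha' : a' ∈ E x) (hb' : b' ∈ Pa E a' y)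
    (h1 : a' ∈ zpowers a) : b' ∈ zpowers b := by
  obtain ⟨k, rfl⟩ := mem_zpowers_iff.1 h1
  obtain ⟨k', hk⟩ := R0p.inv_ex h.prime (k := k) fun e =>
    h.ne_one ha' (orderOf_dvd_iff_zpow_eq_one.1 (by rwa [h.ord x a ha]))
  exact ⟨k', h.pa_eq r1 hxy hp ha' (h.pa_zpow ha (h.opp r1 hxy) hb hk) hb'⟩

theorem norm_ch (hx : g • x = x) (hy : g • y = y) (ha : a ∈ E x) (ha' : a' ∈ E x)
    (h1 : g * a * g⁻¹ ∈ (zpowers a : Set G) ∪ zpowers a') (h2 : g * a' * g⁻¹ ∈ (zpowers a : Set G) ∪ zpowers a') :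
    ∃ (F : Type) (_ : Field F) (ρ : SL(2, F) →* G) (s : F), Ch E p ρ x y ∧ ρ (slUp 1) = a ∧
      ρ (slUp s) = a' ∧ ∀ M, g * ρ M * g⁻¹ ∈ ρ.range := by
  obtain ⟨b', hb'⟩ := h.exists_pa ha' (h.opp r1 hxy)
  obtain ⟨F, _, ρ, s, hc, e1, s0, e2, e3, e4⟩ := h.common r1 hxy hp ha' ha hb'
  have hb := hc.lo_mem h one_ne_zero (hc.up_one h)
  rw [e1] at hb
  have m1 : g * a' * g⁻¹ ∈ E x := hx ▸ h.conj g x a' ha'
  have m2 : g * b' * g⁻¹ ∈ Pa E (g * a' * g⁻¹) y := hy ▸ h.pa_conj hb' g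
  have le : closure {a, b'} ≤ ρ.range.comap (MulAut.conj g).toMonoidHom := by
    refine (closure_le _).2 (Set.pair_subset ?_ ?_)
    · exact h1.elim (fun e => zpowers_le.2 (show a ∈ ρ.range from ⟨_, e1⟩) e)
        fun e => zpowers_le.2 (show a' ∈ ρ.range from ⟨_, e2⟩) e
    · exact h2.elim (fun e => zpowers_le.2 (show _ ∈ ρ.range from ⟨_, rfl⟩) (h.R0p_pow r1 hxy hp ha hb m1 m2 e))
        fun e => zpowers_le.2 (show b' ∈ ρ.range from ⟨_, e3⟩) (h.R0p_pow r1 hxy hp ha' hb' m1 m2 e)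
  exact ⟨F, _, ρ, s, hc, e1, e2, fun M => le (e4 ▸ ⟨M, rfl⟩)⟩

theorem fi (h4 : p % 4 = 1) (hj : j * j = 1) (hx : j • x = x) (hy : j • y = y) :
    ∃ a ∈ E x, j * a * j⁻¹ = a ∨ j * a * j⁻¹ = a⁻¹ := by
  have jj : ∀ a : G, j * (j * a * j⁻¹) * j⁻¹ = a := fun a => by
    calc j * (j * a * j⁻¹) * j⁻¹ = j * j * a * (j * j)⁻¹ := by group
      _ = a := by rw [hj, one_mul, inv_one, mul_one]
  obtain ⟨a, ha⟩ := h.ne x
  obtain ⟨F, _, ρ, s, hc, -, -, hn⟩ := h.norm_ch r1 hxy hp hx hy ha (hx ▸ h.conj j x a ha)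
    (.inr (mem_zpowers _)) (.inl ((jj a).symm ▸ mem_zpowers _))
  obtain ⟨m, σ, -, hu, -⟩ := hc.semi h hx hy hn
  have := hc.char
  have := hc.fin
  have h1 : ∀ t, m * σ (m * σ t) = t := fun t => hc.up_inj h (by rw [← hu, ← hu, jj])
  have hm : m * σ m = 1 := by simpa using h1 1
  by_cases c1 : 1 + m = 0
  · refine ⟨_, hc.up_one h, .inr ?_⟩
    rw [hu, map_one, mul_one, ← map_inv, ← slUp_neg, eq_neg_of_add_eq_zero_right c1]
  by_cases c2 : 1 - m = 0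
  · refine ⟨_, hc.up_one h, .inl ?_⟩
    rw [hu, map_one, mul_one, ← sub_eq_zero.1 c2]
  rcases R0p.sq_or h.prime h.five h4 h1 c1 c2 with ⟨w, e⟩ | ⟨w, e⟩
  · refine ⟨_, hc.up w fun e' => c1 (by rw [e, e', mul_zero]), .inl ?_⟩
    rw [hu, sq, ← e, map_add, map_one, mul_add, hm, mul_one, add_comm]
  · refine ⟨_, hc.up w fun e' => c2 (by rw [e, e', mul_zero]), .inr ?_⟩
    rw [hu, sq, ← e, map_sub, map_one, mul_sub, hm, mul_one, ← map_inv, ← slUp_neg, neg_sub]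

end TG

theorem TG.nu (h : TG E p) (r1 : R1 E) (hc : Ch E p ρ x y) (h1 : ρ (-1) = 1)
    (hl : (l : F) ^ 2 = -1) (hx : Sc E x (ρ (dg l)) (-1)) (hs : s ≠ 0) (hn : ρ (wy s) • c = c) :
    ¬ Sc E c (ρ (dg l)) (-1) := fun hu => by
  have k : ∀ M : SL(2, F), M * M = -1 → ρ M * ρ M = 1 ∧ ∃ x', Sc E x' (ρ M) (-1) := fun M hM => by
    obtain ⟨N, e⟩ := hc.conj_inv h h1 hl hM
    exact ⟨by rw [← map_mul, hM, h1], _, e ▸ h.Sc_conj hx (ρ N)⟩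
  obtain ⟨n2, x1, s1⟩ := k _ (wy_sq hs)
  obtain ⟨m2, x2, s2⟩ := k (wy s * dg l) (by
    calc wy s * dg l * (wy s * dg l) = wy s * dg l * (wy s)⁻¹ * (wy s * wy s) * dg l := by group
      _ = -1 := by rw [wy_dg l hs, wy_sq hs, mul_neg, mul_one, neg_mul, ← dg_mul, inv_mul_cancel, dg_one])
  obtain ⟨d, hd, e⟩ := h.inv_some r1 n2 s1 hn
  refine h.no_cent r1 m2 s2 hd (mul_inv_eq_iff_eq_mul.1 ?_)
  have e' := hu.2 d (h.mem_Z hd)
  rw [zpow_neg_one] at e'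
  calc ρ (wy s * dg l) * d * (ρ (wy s * dg l))⁻¹
      = ρ (wy s) * (ρ (dg l) * d * (ρ (dg l))⁻¹) * (ρ (wy s))⁻¹ := by rw [map_mul]; group
    _ = (ρ (wy s) * d * (ρ (wy s))⁻¹)⁻¹ := by rw [e']; group
    _ = d := by rw [e, inv_inv]

end Cfsg.Agent.PT
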