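import Mathlib
import Cfsg.Agent.PT.R0p

set_option autoImplicit false
set_option linter.unusedVariables false
set_option linter.unusedSectionVars false

namespace Cfsg.Agent.PT

open Subgroup MulAction Cfsg.Agent.GT Cfsg.Agent.TT Cfsg.Agent.Perm.TT Cfsg.Agent.Perm.TwoCount
open Cfsg.Agent.KS (St NT)
open scoped MatrixGroups commutatorElement

universe u v

variable {G : Type u} {Ω : Type v} [Group G] [MulAction G Ω] [Finite G] [Finite Ω]
  {E : Ω → Set G} {p : ℕ} {x y x' y' c : Ω} {a b a' b' d g : G}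

variable {F : Type} [Field F] {ρ : SL(2, F) →* G} {s μ : F} {l : Fˣ} {k k' : ℤ} {j t u : G}
  {r i : ℕ} {X : Subgroup G}

namespace TyA

omit [Finite G] [Finite Ω] in
theorem px_smul (h : TG E p) (hg : g ∈ X) (hc : c ∈ Px E X) : g • c ∈ Px E X := by
  obtain ⟨a, ha, haX⟩ := hc
  exact ⟨_, h.conj g c a ha, mul_mem (mul_mem hg haX) (inv_mem hg)⟩

omit [MulAction G Ω] [Finite G] [Finite Ω] in
theorem HX_le : HX E X ≤ X := (closure_le _).2 fun _ ha => ha.1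

theorem ne_of_ch (h : TG E p) (hc : Ch E p ρ x y) : x ≠ y := fun e => hc.opp (e ▸ h.R_refl x)

omit [Finite G] [Finite Ω] in
theorem two_ne (h : TG E p) (hc : Ch E p ρ x y) : (2 : F) ≠ 0 := by
  have := hc.char
  intro e
  have h2 : ((2 : ℕ) : F) = 0 := by exact_mod_cast e
  have := Nat.le_of_dvd (by norm_num) ((CharP.cast_eq_zero_iff F p 2).1 h2)
  have := h.five
  omega

theorem up_y_inj (h : TG E p) (hc : Ch E p ρ x y) {s s' : F}
    (e : ρ (slUp s) • y = ρ (slUp s') • y) : s = s' := by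
  have h1 : ρ (slUp (-s' + s)) • y = y := by
    rw [slUp_add, slUp_neg, map_mul, map_inv, mul_smul, e, inv_smul_smul]
  have h2 := (hc.fix_y h).1 h1
  have h3 : -s' + s = 0 := by simpa [slUp] using h2
  linear_combination h3

theorem dg_up_y (h : TG E p) (hc : Ch E p ρ x y) (l : Fˣ) (s : F) :
    ρ (dg l) • ρ (slUp s) • y = ρ (slUp ((l : F) ^ 2 * s)) • y := by
  rw [← dg_up, map_mul, map_mul, map_inv, mul_smul, mul_smul,
    inv_smul_eq_iff.2 (hc.dg_fix h l).2.symm]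

theorem exists_dg (M : SL(2, F)) (h1 : M.1 1 0 = 0) (h2 : M.1 0 1 = 0) : ∃ l : Fˣ, M = dg l := by
  have hd := M.2
  rw [Matrix.det_fin_two, h1, h2, mul_zero, sub_zero] at hd
  refine ⟨⟨M.1 0 0, M.1 1 1, hd, by rw [mul_comm, hd]⟩, Subtype.ext ?_⟩
  ext i j
  fin_cases i <;> fin_cases j <;> simp [dg, h1, h2]

theorem px_xy (h : TG E p) (hc : Ch E p ρ x y) (hX : ρ.range ≤ X) : x ∈ Px E X ∧ y ∈ Px E X :=
  ⟨⟨_, hc.up_one h, hX ⟨_, rfl⟩⟩, ⟨_, hc.lo_one h, hX ⟨_, rfl⟩⟩⟩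

theorem mem_HX (h : TG E p) (hc : Ch E p ρ x y) (hX : ρ.range ≤ X) (M : SL(2, F)) :
    ρ M ∈ HX E X := by
  have h2 := two_ne h hc
  have hu : ∀ t : F, ρ (slUp (t ^ 2)) ∈ HX E X := fun t => by
    by_cases ht : t = 0
    · rw [ht, zero_pow two_ne_zero, slUp_eq_one_iff.2 rfl, map_one]; exact one_mem _
    · exact subset_closure ⟨hX ⟨_, rfl⟩, x, hc.up t ht⟩
  have hl : ∀ t : F, ρ (slLo (-t ^ 2)) ∈ HX E X := fun t => by
    by_cases ht : t = 0
    · rw [ht, zero_pow two_ne_zero, neg_zero, slLo_eq_one_iff.2 rfl, map_one]; exact one_mem _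
    · exact subset_closure ⟨hX ⟨_, rfl⟩, y, hc.lo t ht⟩
  have ht : (HX E X).comap ρ = ⊤ := by
    refine eq_top_of_slUp_slLo_mem _ (fun t => ?_) fun t => ?_
    · have e : t = ((t + 1) / 2) ^ 2 + -((t - 1) / 2) ^ 2 := by field_simp; ring
      rw [mem_comap, e, slUp_add, slUp_neg, map_mul, map_inv]
      exact mul_mem (hu _) (inv_mem (hu _))
    · have e : t = -((t - 1) / 2) ^ 2 + -(-((t + 1) / 2) ^ 2) := by field_simp; ring
      rw [mem_comap, e, slLo_add, slLo_neg (-((t + 1) / 2) ^ 2), map_mul, map_inv]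
      exact mul_mem (hl _) (inv_mem (hl _))
  have : M ∈ (HX E X).comap ρ := ht ▸ mem_top M
  exact this

theorem acts0 (h : TG E p) (hc : Ch E p ρ x y) (hX : ρ.range ≤ X)
    (ht : ∀ c ∈ Px E X, c ≠ x → ∃ s, ρ (slUp s) • y = c) (hd : d ∈ E x) (hdX : d ∈ X) :
    ∃ M, ∀ e ∈ Px E X, d • e = ρ M • e := by
  have hdx : d • x = x := h.Z_fix (h.R_refl x) (h.mem_Z hd)
  obtain ⟨s, hs⟩ := ht _ (px_smul h hdX (px_xy h hc hX).2) fun e =>
    ne_of_ch h hc (smul_left_cancel d (hdx.trans e.symm))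
  refine ⟨slUp s, fun e he => ?_⟩
  by_cases hex : e = x
  · rw [hex, hdx, h.Z_fix (h.R_refl x) (hc.upZ h s)]
  · obtain ⟨t, rfl⟩ := ht e he hex
    rw [← mul_smul, (h.Z_commute (h.R_refl x) (h.mem_Z hd) (hc.upZ h t)).eq, mul_smul, ← hs,
      ← mul_smul, ← mul_smul, (h.Z_commute (h.R_refl x) (hc.upZ h s) (hc.upZ h t)).eq]

theorem acts (h : TG E p) (hc : Ch E p ρ x y) (hX : ρ.range ≤ X)
    (ht : ∀ c ∈ Px E X, c ≠ x → ∃ s, ρ (slUp s) • y = c) (hg : g ∈ HX E X) :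
    ∃ M, ∀ e ∈ Px E X, g • e = ρ M • e := by
  induction hg using closure_induction with
  | mem d hd =>
    obtain ⟨hdX, z, hz⟩ := hd
    by_cases hzx : z = x
    · exact acts0 h hc hX ht (hzx ▸ hz) hdX
    · obtain ⟨s, hs⟩ := ht z ⟨d, hz, hdX⟩ hzx
      have hN : ρ (slUp s * wy 1) ∈ X := hX ⟨_, rfl⟩
      have h1 : (ρ (slUp s * wy 1))⁻¹ • z = x := by
        rw [inv_smul_eq_iff, map_mul, mul_smul, (hc.wy_swap h one_ne_zero).1, hs]
      have h2 := h.conj (ρ (slUp s * wy 1))⁻¹ z d hz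
      rw [h1] at h2
      obtain ⟨M, hM⟩ := acts0 h hc hX ht h2
        (mul_mem (mul_mem (inv_mem hN) hdX) (inv_mem (inv_mem hN)))
      refine ⟨slUp s * wy 1 * M * (slUp s * wy 1)⁻¹, fun e he => ?_⟩
      have := hM _ (px_smul h (inv_mem hN) he)
      rw [map_mul _ (_ * M), map_mul _ _ M, map_inv, mul_smul, mul_smul, ← this]
      simp only [← mul_smul]
      congr 1
      group
  | one => exact ⟨1, fun e _ => by rw [map_one]⟩
  | mul g g' _ _ ih ih' =>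
    obtain ⟨M, hM⟩ := ih
    obtain ⟨M', hM'⟩ := ih'
    refine ⟨M * M', fun e he => ?_⟩
    rw [mul_smul, hM' e he, hM _ (px_smul h (hX ⟨_, rfl⟩) he), map_mul, mul_smul]
  | inv g hg ih =>
    obtain ⟨M, hM⟩ := ih
    refine ⟨M⁻¹, fun e he => ?_⟩
    have := hM _ (px_smul h (inv_mem (HX_le hg)) he)
    rw [smul_inv_smul] at this
    rw [map_inv, eq_inv_smul_iff]
    exact this.symm

/-- The element `zz a b` commutes with the root elements at `x` in its action on the points. -/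
theorem zz_comm (h : TG E p) (r1 : R1 E) {x₀ y₀ : Ω} (hS : SubC E p X x₀ y₀) (hxy : x ≠ y)
    (ha : a ∈ E x) (hb : b ∈ Pa E a y) (hZ : Z E x ≤ X) (hbX : b ∈ X) (ha' : a' ∈ E x)
    (hc : c ∈ Px E X) : zz a b • a' • c = a' • zz a b • c := by
  obtain ⟨F, _, ρ, μ, hch, hμ, e1, e2, -⟩ := h.exists_ch ha' hb.1 (h.opp r1 hxy)
  have hs : -μ⁻¹ ≠ 0 := neg_ne_zero.2 (inv_ne_zero hμ)
  have m1 : ρ (slUp (-μ⁻¹)) ∈ E x := hch.up_mem h hμ (e2 ▸ hb.1)
  have m2 : b ∈ Pa E (ρ (slUp (-μ⁻¹))) y :=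
    ⟨hb.1, e2 ▸ (hch.br_iff h hs).2 (by rw [neg_mul, inv_mul_cancel₀ hμ])⟩
  have haX : a ∈ X := hZ (h.mem_Z ha)
  have h1X : ρ (slUp (-μ⁻¹)) ∈ X := hZ (h.mem_Z m1)
  have pm := hS.pm y x hxy.symm b hb.1 a (h.pa_symm ha hb) _ (h.pa_symm m1 m2) hbX haX h1X
  have hn : ∀ e ∈ Px E X, nn a b • e = nn (ρ (slUp (-μ⁻¹))) b • e := fun e he => by
    simp only [nn, mul_smul]
    rw [pm e he, pm _ (px_smul h hbX (px_smul h h1X he))]
  have hnX : nn (ρ (slUp (-μ⁻¹))) b ∈ X := mul_mem (mul_mem h1X hbX) h1X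
  have hz : ∀ e ∈ Px E X, zz a b • e = ρ (-1) • e := fun e he => by
    have e3 := hch.zz_eq h hs
    rw [inv_neg, inv_inv, neg_neg, e2] at e3
    rw [← e3]
    simp only [zz, mul_smul]
    rw [hn e he, hn _ (px_smul h hnX he)]
  rw [hz c hc, hz _ (px_smul h (hZ (h.mem_Z ha')) hc), ← e1, ← mul_smul, ← mul_smul, ← map_mul,
    ← map_mul, neg_mul, mul_neg, one_mul, mul_one]

theorem exists_i (h : TG E p) (r1 : R1 E) (h4 : p % 4 = 1) (hc : Ch E p ρ x y)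
    (hp : ¬ Imp E x y) : ∃ l : Fˣ, (l : F) ^ 2 = -1 ∧ Sc E x (ρ (dg l)) (-1) := by
  have := hc.char
  have : Fact p.Prime := ⟨h.prime⟩
  obtain ⟨z, hz⟩ := (ZMod.exists_sq_eq_neg_one_iff (p := p)).2 (by omega)
  obtain ⟨k, rfl⟩ := ZMod.intCast_surjective z
  have hk : k * k ≡ -1 [ZMOD p] :=
    (ZMod.intCast_eq_intCast_iff _ _ _).1 (by push_cast; exact hz.symm)
  have hF : (k : F) ^ 2 = -1 := by
    have := (CharP.intCast_eq_intCast F p).2 hk
    push_cast at this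
    rw [sq, this]
  have h0 : (k : F) ≠ 0 := fun e => by simp [e] at hF
  exact ⟨Units.mk0 _ h0, hF, h.Sc_congr (h.sc_dg r1 (ne_of_ch h hc) hp hc rfl) hk⟩

end TyA

open TyA

theorem TyL.tr (h : TG E p) (r1 : R1 E) (ht : TyL E p X x y) (hc : c ∈ Px E X) (hcx : c ≠ x) :
    ∃ u ∈ Z E x, u ∈ X ∧ u • y = c := by
  obtain ⟨F, _, ρ, hch, hX, ht⟩ := ht
  obtain ⟨s, hs⟩ := ht c hc hcx
  exact ⟨_, hch.upZ h s, hX ⟨_, rfl⟩, hs⟩

theorem TyL.three (h : TG E p) (r1 : R1 E) (ht : TyL E p X x y) (hg : g ∈ HX E X)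
    (hx : g • x = x) (hy : g • y = y) (hc : c ∈ Px E X) (h1 : c ≠ x) (h2 : c ≠ y) (h3 : g • c = c)
    {e : Ω} (he : e ∈ Px E X) : g • e = e := by
  obtain ⟨F, _, ρ, hch, hX, ht⟩ := ht
  obtain ⟨M, hM⟩ := acts h hch hX ht hg
  obtain ⟨hx', hy'⟩ := px_xy h hch hX
  obtain ⟨l, rfl⟩ := exists_dg M ((hch.fix_x h).1 ((hM x hx').symm.trans hx))
    ((hch.fix_y h).1 ((hM y hy').symm.trans hy))
  obtain ⟨s, rfl⟩ := ht c hc h1
  have hs : s ≠ 0 := fun e => h2 (by rw [e, slUp_eq_one_iff.2 rfl, map_one, one_smul])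
  rw [hM _ hc, dg_up_y h hch] at h3
  have hl : (l : F) ^ 2 = 1 := mul_right_cancel₀ hs ((up_y_inj h hch h3).trans (one_mul s).symm)
  by_cases hex : e = x
  · rw [hex, hx]
  · obtain ⟨t, rfl⟩ := ht e he hex
    rw [hM _ he, dg_up_y h hch, hl, one_mul]

theorem TyL.dg_fix (h : TG E p) (r1 : R1 E) (ht : TyL E p X x y) (hc : Ch E p ρ x y)
    (hX : ρ.range ≤ X) (hl : (l : F) ^ 2 ≠ 1) (h1 : c ∈ Px E X) (h2 : ρ (dg l) • c = c) :
    c = x ∨ c = y := by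
  by_contra hn
  rw [not_or] at hn
  have := ht.three h r1 (mem_HX h hc hX (dg l)) (hc.dg_fix h l).1 (hc.dg_fix h l).2 h1 hn.1 hn.2 h2
    (px_smul h (hX ⟨slUp 1, rfl⟩) (px_xy h hc hX).2)
  rw [dg_up_y h hc] at this
  exact hl ((mul_one _).symm.trans (up_y_inj h hc this))

namespace MC

variable (h : MC E p)
include h

theorem simple : IsSimpleGroup G ∧ ¬ IsMulCommutative G := by
  exact h.toTG.simple h.faith

theorem cent_ne_top {W : Set G} (hg : g ∈ W) (h1 : g ≠ 1) : centralizer W ≠ ⊤ := by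
  intro e
  refine h1 (h.toTG.central h.faith fun k => ?_)
  have : k ∈ centralizer W := e ▸ mem_top k
  exact this g hg

theorem tyL_of_fix (hX : X ≠ ⊤) (hxy : x ≠ y) (ha : a ∈ E x) (hb : b ∈ Pa E a y) (h1 : a ∈ X)
    (h2 : b ∈ X) (hz : ∀ c ∈ Px E X, zz a b • c = c) : TyL E p X x y := by
  rcases (h.sub X hX x ⟨a, ha, h1⟩ y ⟨b, hb.1, h2⟩ hxy).ty with ht | ht
  · exact ht
  · obtain ⟨c, hc, hn⟩ := ht.mv a ha b hb h1 h2
    exact absurd (hz c hc) hn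

theorem fix_zz (hxy : x ≠ y) (ha : a ∈ E x) (hb : b ∈ Pa E a y) (hz : zz a b ≠ 1) :
    TyL E p (centralizer {zz a b}) x y ∧ fixedBy Ω (zz a b) ⊆ hl E x y := by
  obtain ⟨h1, h2, h3, -⟩ := h.toTG.zz_sq ha (h.toTG.opp h.r1 hxy) hb
  have e := h.toTG.fix_inv h.r1 h1 ha h2
  have ht : TyL E p (centralizer {zz a b}) x y :=
    h.tyL_of_fix (h.cent_ne_top rfl hz) hxy ha hb (mem_centralizer_singleton_iff.2 h2.eq.symm)
      (mem_centralizer_singleton_iff.2 h3.eq.symm) fun c hc => by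
        rw [← e] at hc; exact hc
  refine ⟨ht, fun c hc => ?_⟩
  by_cases hcx : c = x
  · exact Or.inl hcx
  · obtain ⟨u, hu, -, hu'⟩ := ht.tr h.toTG h.r1 (e ▸ hc) hcx
    exact Or.inr ⟨u, hu, hu'⟩

theorem yy_L (hxy : x ≠ y) (hY : YY E x y ≠ ⊤) :
    TyL E p (YY E x y) x y ∧ Px E (YY E x y) = hl E x y := by
  have tg := h.toTG
  have hr := tg.opp h.r1 hxy
  obtain ⟨a, ha⟩ := tg.ne x
  obtain ⟨b, hb⟩ := tg.exists_pa ha hr
  have hx : Z E x ≤ YY E x y := le_sup_left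
  have hy : Z E y ≤ YY E x y := le_sup_right
  have haY := hx (tg.mem_Z ha)
  have hbY := hy (tg.mem_Z hb.1)
  have hS := h.sub _ hY x ⟨a, ha, haY⟩ y ⟨b, hb.1, hbY⟩ hxy
  obtain ⟨-, h2, -, h4⟩ := tg.zz_sq ha hr hb
  let H : Subgroup G :=
    { carrier := {g | g ∈ YY E x y ∧ ∀ c ∈ Px E (YY E x y), zz a b • g • c = g • zz a b • c}
      one_mem' := ⟨one_mem _, fun c _ => by rw [one_smul, one_smul]⟩
      mul_mem' := fun {g g'} hg hg' => ⟨mul_mem hg.1 hg'.1, fun c hc => by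
        rw [mul_smul, mul_smul, hg.2 _ (px_smul tg hg'.1 hc), hg'.2 c hc]⟩
      inv_mem' := fun {g} hg => ⟨inv_mem hg.1, fun c hc => by
        have := hg.2 _ (px_smul tg (inv_mem hg.1) hc)
        rw [smul_inv_smul] at this
        rw [this, inv_smul_smul]⟩ }
  have hH : YY E x y ≤ H := by
    refine sup_le ((closure_le _).2 fun a' ha' => ⟨hx (tg.mem_Z ha'), fun c hc => ?_⟩)
      ((closure_le _).2 fun b' hb' => ⟨hy (tg.mem_Z hb'), fun c hc => ?_⟩)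
    · exact zz_comm tg h.r1 hS hxy ha hb hx hbY ha' hc
    · rw [← h4]
      exact zz_comm tg h.r1 hS hxy.symm hb.1 (tg.pa_symm ha hb) hy haY hb' hc
  have ht : TyL E p (YY E x y) x y := h.tyL_of_fix hY hxy ha hb haY hbY fun c hc => by
    obtain ⟨g, hg, rfl⟩ := hS.t2.t1.tr x ⟨a, ha, haY⟩ c hc
    rw [(hH (HX_le hg)).2 x ⟨a, ha, haY⟩, tg.fix_of_commute ha h2]
  refine ⟨ht, Set.ext fun c => ⟨fun hc => ?_, ?_⟩⟩
  · by_cases hcx : c = x
    · exact Or.inl hcx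
    · obtain ⟨u, hu, -, hu'⟩ := ht.tr tg h.r1 hc hcx
      exact Or.inr ⟨u, hu, hu'⟩
  · rintro (rfl | ⟨u, hu, rfl⟩)
    · exact ⟨a, ha, haY⟩
    · exact px_smul tg (hx hu) ⟨b, hb.1, hbY⟩

theorem gc (hxy : x ≠ y) (hp : ¬ Imp E x y) (hY : YY E x y ≠ ⊤) :
    ∃ (F : Type) (_ : Field F) (ρ : SL(2, F) →* G), GC E p ρ x y := by
  have tg := h.toTG
  obtain ⟨⟨F, _, ρ, hc, hX, ht⟩, -⟩ := h.yy_L hxy hY
  have hup : ∀ u ∈ Z E x, ∃ s, u = ρ (slUp s) := fun u hu => by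
    have hux : u • x = x := tg.Z_fix (tg.R_refl x) hu
    obtain ⟨s, hs⟩ := ht _ (px_smul tg ((le_sup_left : Z E x ≤ YY E x y) hu) (px_xy tg hc hX).2)
      fun e => hxy (smul_left_cancel u (hux.trans e.symm))
    have hv : (ρ (slUp s))⁻¹ * u ∈ VV E x y :=
      mem_inf.2 ⟨mul_mem (inv_mem (hc.upZ tg s)) hu, by
        rw [mem_stabilizer_iff, mul_smul, ← hs, inv_smul_smul]⟩
    rw [tg.vv_bot h.r1 hxy hp, mem_bot, inv_mul_eq_one] at hv
    exact ⟨s, hv.symm⟩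
  refine ⟨F, inferInstance, ρ, hc, hup, fun u hu => ?_⟩
  have h1 := (tg.Z_conj (ρ (wy 1))).2 hu
  rw [(hc.wy_swap tg one_ne_zero).2] at h1
  obtain ⟨s, hs⟩ := hup _ h1
  refine ⟨-s, ?_⟩
  have h2 := wy_lo (K := F) one_ne_zero (-s)
  rw [one_pow, one_mul, neg_neg] at h2
  rw [← h2, map_mul, map_mul, map_inv] at hs
  exact mul_left_cancel (mul_right_cancel hs)

theorem even_of_inv (hj : orderOf j = 2) (ha : a ∈ E x) (hc : Commute j a) (hxy : x ≠ y)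
    (hy : j • y = y) : Even (Nat.card Ω) := by
  have h2 : j * j = 1 := by rw [← sq, ← hj, pow_orderOf_eq_one]
  have h1 : j ≠ 1 := fun e => by simp [e] at hj
  have e := h.toTG.fix_inv h.r1 h2 ha hc
  have := (h.sub _ (h.cent_ne_top (W := {j}) rfl h1) x
    ⟨a, ha, mem_centralizer_singleton_iff.2 hc.eq.symm⟩ y (e ▸ hy) hxy).even
  rw [← e, Nat.even_iff, ← parity_fixedBy h2] at this
  exact Nat.even_iff.2 this

theorem KK_bot (hxy : x ≠ y) (hp : ¬ Imp E x y) (hY : YY E x y = ⊤) : KK E x y = ⊥ := by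
  rw [h.toTG.KK_eq h.r1 hxy hp, hY, eq_bot_iff]
  intro g hg
  exact h.toTG.central h.faith fun k => (hg k (mem_top k)).symm

end MC

theorem MP.even_gc (h : MP E p) (hc : Ch E p ρ x y) (hl : (l : F) ^ 2 = -1)
    (hx : Sc E x (ρ (dg l)) (-1)) : Even (Nat.card Ω) := by
  have tg := h.toTG
  have hxy := ne_of_ch tg hc
  by_cases h1 : ρ (-1) = 1
  · have hneg : ∀ M, ρ (-M) = ρ M := fun M => by rw [← neg_one_mul, map_mul, h1, one_mul]
    have hll : l * l = -1 := Units.ext (by rw [Units.val_mul, ← sq, hl]; rfl)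
    have hu : ρ (dg l) * ρ (dg l) = 1 := by rw [← map_mul, ← dg_mul, hll, dg_neg, dg_one, h1]
    have hinv : l⁻¹ = -l := by rw [inv_eq_iff_mul_eq_one, mul_neg, hll, neg_neg]
    have hn : ρ (wy 1) * ρ (dg l) = ρ (dg l) * ρ (wy 1) := by
      have := congrArg ρ (wy_dg l (one_ne_zero (α := F)))
      rw [hinv, dg_neg, hneg, map_mul, map_mul, map_inv] at this
      exact mul_inv_eq_iff_eq_mul.1 this
    have h2 := parity (Δ := fixedBy Ω (ρ (dg l))) (x := ρ (wy 1))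
      (fun c hc => by
        rw [mem_fixedBy] at hc ⊢
        rw [← mul_smul, ← hn, mul_smul, hc])
      fun c _ => by rw [← mul_smul, ← map_mul, wy_sq one_ne_zero, h1, one_smul]
    have h3 : fixedBy Ω (ρ (dg l)) ∩ fixedBy Ω (ρ (wy 1)) = ∅ := by
      refine Set.eq_empty_of_forall_notMem fun c hc' => ?_
      refine tg.nu h.r1 hc h1 hl hx one_ne_zero hc'.2 ?_
      by_cases hcx : x = c
      · exact hcx ▸ hx
      · exact tg.sl1 h.r1 hcx (h.pure x c) hx hc'.1 (by simp)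
    rw [h3, Set.ncard_empty, ← parity_fixedBy hu] at h2
    exact Nat.even_iff.2 h2
  · have : Fact (Nat.Prime 2) := ⟨Nat.prime_two⟩
    refine h.toMC.even_of_inv (j := ρ (-1)) (orderOf_eq_prime ?_ h1) (hc.up_one tg) ?_ hxy ?_
    · rw [← map_pow, neg_one_sq, map_one]
    · exact (Commute.neg_one_left _).map ρ
    · exact (hc.fix_y tg).2 (by simp)

theorem MP.even_one (h : MP E p) (h4 : p % 4 = 1) : Even (Nat.card Ω) := by
  have tg := h.toTG
  obtain ⟨x, y, hr⟩ := tg.nc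
  obtain ⟨a, ha⟩ := tg.ne x
  obtain ⟨d, hd⟩ := tg.ne y
  obtain ⟨F, _, ρ, μ, hc, -⟩ := tg.exists_ch ha hd hr
  obtain ⟨l, hl, hs⟩ := exists_i tg h.r1 h4 hc (h.pure x y)
  exact h.even_gc hc hl hs

theorem MP.dvd (h : MP E p) (x : Ω) : Nat.card (Z E x) ∣ Nat.card Ω - 1 ∧ p ∣ Nat.card Ω - 1 := by
  have tg := h.toTG
  let S : SubMulAction (Z E x) Ω := ⟨{x}ᶜ, fun u c hc e => hc (smul_left_cancel (u : G)
    ((show (u : G) • c = x from e).trans (tg.Z_fix (tg.R_refl x) u.2).symm))⟩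
  have hf : ∀ c : S, stabilizer (Z E x) c = ⊥ := fun c => by
    rw [eq_bot_iff]
    intro u hu
    have hv : (u : G) ∈ VV E x c := ⟨u.2, congrArg Subtype.val (mem_stabilizer_iff.1 hu)⟩
    rw [tg.vv_bot h.r1 (Ne.symm c.2) (h.pure x c), mem_bot] at hv
    exact Subtype.ext hv
  have h1 : Nat.card (Z E x) ∣ Nat.card Ω - 1 := by
    have e := Nat.card_congr (selfEquivOrbitsQuotientProd hf)
    have e' : Nat.card S = Nat.card Ω - 1 := by
      change Nat.card ({x}ᶜ : Set Ω) = _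
      rw [Nat.card_coe_set_eq, Set.compl_eq_univ_sdiff,
        Set.ncard_sdiff_singleton_of_mem (Set.mem_univ x), Set.ncard_univ]
    rw [← e', e, Nat.card_prod]
    exact dvd_mul_left _ _
  obtain ⟨a, ha⟩ := tg.ne x
  exact ⟨h1, (tg.ord x a ha ▸ (Z E x).orderOf_dvd_natCard (tg.mem_Z ha)).trans h1⟩

theorem MP.four_fix (h : MP E p) (h4 : p % 4 = 1) (hxy : x ≠ y) (hK : KK E x y = ⊥)
    (hj : j * j = 1) (hx : j • x = x) (hy : j • y = y) (h1 : ¬ Sc E x j 1) (h2 : ¬ Sc E x j (-1))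
    (hu : Sc E x u (-1)) (uy : u • y = y) (h3 : j • c = c) (h5 : u • c = c) : c = x ∨ c = y := by
  have tg := h.toTG
  have hp := h.pure x y
  have hr := tg.opp h.r1 hxy
  have k1 : ∀ g, g ∈ CZ E x → g • y = y → g = 1 := fun g h1 h2 => by
    have : g ∈ KK E x y := ⟨h1, h2⟩
    rwa [hK, mem_bot] at this
  have huy : u⁻¹ • y = y := inv_smul_eq_iff.2 uy.symm
  have huu : u * u = 1 := k1 _ (tg.Sc_one.1 (by simpa using tg.Sc_mul hu hu)) (by
    rw [mul_smul, uy, uy])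
  have hju : j * u = u * j := by
    have h6 := tg.Sc_conj hu j
    rw [hx] at h6
    have := k1 _ (tg.Sc_div h6 hu) (by
      rw [mul_smul, mul_smul, mul_smul, huy, inv_smul_eq_iff.2 hy.symm, uy, hy])
    rwa [mul_inv_eq_one, mul_inv_eq_iff_eq_mul] at this
  obtain ⟨a, ha, hja⟩ := tg.fi h.r1 hxy hp h4 hj hx hy
  obtain ⟨j', s1, s2, s3, s4, s5⟩ : ∃ j' : G, j' * j' = 1 ∧ j' ≠ 1 ∧ j' * a * j'⁻¹ = a ∧
      j' • y = y ∧ j' • c = c := by
    rcases hja with e | e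
    · refine ⟨j, hj, fun e1 => h1 (tg.Sc_one.2 (e1 ▸ one_mem _)), e, hy, h3⟩
    · refine ⟨j * u, ?_, fun e1 => h2 ?_, ?_, by rw [mul_smul, uy, hy], by rw [mul_smul, h5, h3]⟩
      · rw [mul_assoc, ← mul_assoc u, ← hju, mul_assoc, huu, mul_one, hj]
      · rwa [mul_right_cancel (e1.trans huu.symm)]
      · have := hu.2 a (tg.mem_Z ha)
        rw [zpow_neg_one] at this
        calc j * u * a * (j * u)⁻¹ = j * (u * a * u⁻¹) * j⁻¹ := by group
          _ = (j * a * j⁻¹)⁻¹ := by rw [this]; group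
          _ = a := by rw [e, inv_inv]
  obtain ⟨b, hb⟩ := tg.exists_pa ha hr
  have hb' := tg.pa_conj hb j'
  rw [s3, s4] at hb'
  have hjb := tg.pa_eq h.r1 hxy hp ha hb' hb
  have ca : Commute j' a := mul_inv_eq_iff_eq_mul.1 s3
  have cb : Commute j' b := mul_inv_eq_iff_eq_mul.1 hjb
  have haX : a ∈ centralizer ({j'} : Set G) := mem_centralizer_singleton_iff.2 ca.eq.symm
  have hbX : b ∈ centralizer ({j'} : Set G) := mem_centralizer_singleton_iff.2 cb.eq.symm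
  obtain ⟨F, _, ρ, hc, -, -, hρ⟩ := tg.exists_ch_pa ha hr hb
  have hz : zz a b = 1 := by
    have := tg.neg_mem h.r1 hxy hp hc
    rw [hK, mem_bot] at this
    rw [tg.zz_eq h.r1 hxy hp hc ha hb, this]
  have ht : TyL E p (centralizer {j'}) x y :=
    h.toMC.tyL_of_fix (h.toMC.cent_ne_top rfl s2) hxy ha hb haX hbX fun c _ => by rw [hz, one_smul]
  obtain ⟨l, hl, hs⟩ := exists_i tg h.r1 h4 hc hp
  have hul : ρ (dg l) = u := mul_inv_eq_one.1 (k1 _ (tg.Sc_div hs hu) (by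
    rw [mul_smul, huy, (hc.dg_fix tg l).2]))
  refine ht.dg_fix (l := l) tg h.r1 hc ?_ ?_ (tg.fix_inv h.r1 s1 ha ca ▸ s5) (hul ▸ h5)
  · rw [hρ, closure_le]
    rintro _ (rfl | rfl)
    exacts [haX, hbX]
  · rw [hl]
    intro e
    exact two_ne tg hc (by linear_combination -e)

end Cfsg.Agent.PT
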