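import Mathlib
import Cfsg.Agent.PT.TyA
import Cfsg.Agent.Perm.Witt

set_option autoImplicit false
set_option linter.unusedSectionVars false

namespace Cfsg.Agent.PT

open Subgroup MulAction Cfsg.Agent.GT Cfsg.Agent.TT Cfsg.Agent.Perm.TT Cfsg.Agent.Perm.TwoCount
open Cfsg.Agent.KS (St NT)
open scoped MatrixGroups commutatorElement

universe u v

variable {G : Type u} {Ω : Type v} [Group G] [MulAction G Ω] [Finite G] [Finite Ω]
  {E : Ω → Set G} {p : ℕ} {x y x' y' c : Ω} {a b a' b' d g : G}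

namespace T7

theorem num (hp : p.Prime) (h7 : 7 ≤ p) : ∃ (r j : ℕ) (l : ZMod p), r.Prime ∧ r ≠ p ∧ l ^ r ^ j = 1 ∧
    (r ≠ 2 → l ^ r = 1) ∧ (r = 2 → p % 4 = 1 ∧ l ^ 4 = -1) ∧ l ^ 4 ≠ 1 := by
  have := Fact.mk hp
  have hc : Nat.card (ZMod p)ˣ = p - 1 := by rw [Nat.card_eq_fintype_card, ZMod.card_units]
  have ord : ∀ n, n ∣ p - 1 → ∃ l : ZMod p, orderOf l = n := fun n hn => by
    obtain ⟨g, hg⟩ := IsCyclic.exists_ofOrder_eq_natCard (α := (ZMod p)ˣ)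
    exact ⟨(g ^ (orderOf g / n) : (ZMod p)ˣ), by
      rw [orderOf_units, orderOf_pow_orderOf_div (orderOf_pos g).ne' (by rwa [hg, hc])]⟩
  by_cases h : ∃ r, r.Prime ∧ r ∣ p - 1 ∧ r ≠ 2
  · obtain ⟨r, hr, h1, h2⟩ := h
    obtain ⟨l, hl⟩ := ord r h1
    have e : l ^ r = 1 := hl ▸ pow_orderOf_eq_one l
    refine ⟨r, 1, l, hr, ?_, by rwa [pow_one], fun _ => e, fun k => absurd k h2, fun k => h2 ?_⟩
    · have := Nat.le_of_dvd (by omega) h1
      omega
    · have := orderOf_dvd_of_pow_eq_one k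
      rw [hl] at this
      exact (Nat.prime_dvd_prime_iff_eq hr Nat.prime_two).1 (hr.dvd_of_dvd_pow (n := 2) this)
  · have e := Nat.eq_prime_pow_of_unique_prime_dvd (n := p - 1) (p := 2) (by omega)
      fun {d} hd h1 => by_contra fun k => h ⟨d, hd, h1, k⟩
    generalize (p - 1).primeFactorsList.length = m at e
    have h8 : 8 ∣ p - 1 := by
      rw [e]
      refine pow_dvd_pow 2 (n := m) (m := 3) ?_
      by_contra k
      have : m ≤ 2 := by omega
      interval_cases m <;> omega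
    obtain ⟨l, hl⟩ := ord 8 h8
    have e8 : l ^ 8 = 1 := hl ▸ pow_orderOf_eq_one l
    have e4 : l ^ 4 ≠ 1 := pow_ne_one_of_lt_orderOf (by norm_num) (by omega)
    refine ⟨2, 3, l, Nat.prime_two, by omega, e8, fun k => absurd rfl k, fun _ => ⟨by omega, ?_⟩, e4⟩
    exact (mul_self_eq_one_iff.1 (by rw [← e8]; ring)).resolve_left e4

theorem dg_pow {K : Type*} [Field K] (l : Kˣ) (n : ℕ) : dg l ^ n = dg (l ^ n) := by
  induction n with
  | zero => rw [pow_zero, pow_zero, dg_one]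
  | succ n ih => rw [pow_succ, pow_succ, dg_mul, ih]

/-- the elements mapping `S` into itself -/
def stab (G : Type u) [Group G] [MulAction G Ω] [Finite G] (S : Set Ω) : Subgroup G where
  carrier := {g | ∀ c ∈ S, g • c ∈ S}
  one_mem' := fun c hc => by rwa [one_smul]
  mul_mem' := fun {a b} ha hb c hc => by rw [mul_smul]; exact ha _ (hb c hc)
  inv_mem' := fun {a} ha => by
    have e : a⁻¹ = a ^ (orderOf a - 1) := inv_eq_of_mul_eq_one_right (by
      rw [← pow_succ', Nat.sub_add_cancel (orderOf_pos a), pow_orderOf_eq_one])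
    rw [e]
    induction orderOf a - 1 with
    | zero => exact fun c hc => by rwa [pow_zero, one_smul]
    | succ n ih => exact fun c hc => by rw [pow_succ, mul_smul]; exact ih _ (ha c hc)

theorem two_of (h : FR E p) (x : Ω) (ht : ∀ a b, a ≠ x → b ≠ x → ∃ g : G, g • x = x ∧ g • a = b) :
    Two G Ω := by
  refine ⟨h.faith, fun {a b c d} hab hcd => ?_⟩
  obtain ⟨g, hg⟩ := h.tr a x
  obtain ⟨k, hk⟩ := h.tr c x
  obtain ⟨m, h1, h2⟩ := ht (g • b) (k • d) (fun e => hab (MulAction.injective g (hg.trans e.symm)))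
    fun e => hcd (MulAction.injective k (hk.trans e.symm))
  exact ⟨k⁻¹ * m * g, by rw [mul_smul, mul_smul, hg, h1, ← hk, inv_smul_smul],
    by rw [mul_smul, mul_smul, h2, inv_smul_smul]⟩

theorem gen {r : ℕ} (hr : r.Prime) (K : Subgroup G) {t : G} (hK : ∀ k ∈ K, k • x = x) (tx : t • x = x)
    (ty : t • y = y) (hy : y ≠ x) (hn : ∀ k ∈ K, t * k * t⁻¹ ∈ K)
    (hc : ∀ c, c ≠ x → ∃ (t' : G) (j : ℕ), t' * t⁻¹ ∈ K ∧ t' ^ r ^ j = 1 ∧ t' • c = c ∧
      ∀ e, t' • e = e → e = x ∨ e = c) (c : Ω) (hcx : c ≠ x) : ∃ g ∈ K, g • y = c := by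
  have h1 : K ⊔ zpowers t ≤ stabilizer G x := sup_le hK (zpowers_le.2 tx)
  obtain ⟨g, hg, rfl⟩ := Perm.gleason_trans hr (K ⊔ zpowers t) {c | c ≠ x}
    (fun g hg c hc e => hc (MulAction.injective g (e.trans (h1 hg).symm)))
    (fun c hcx => by
      obtain ⟨t', j, a1, a2, a3, a4⟩ := hc c hcx
      refine ⟨zpowers t', zpowers_le.2 ?_, ?_, fun g hg => zpowers_le.2 (show t' ∈ stabilizer G c from a3) hg,
        fun e he k => (a4 e (k _ (mem_zpowers _))).resolve_left he⟩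
      · simpa using mul_mem (mem_sup_left a1) (mem_sup_right (mem_zpowers t) : t ∈ K ⊔ zpowers t)
      · rintro ⟨_, i, rfl⟩
        refine ⟨j, Subtype.ext ?_⟩
        change (t' ^ i) ^ r ^ j = 1
        rw [← zpow_natCast, ← zpow_mul, mul_comm, zpow_mul, zpow_natCast, a2, one_zpow]) y hy c hcx
  have h2 : K ⊔ zpowers t ≤ stab G {c | ∃ g ∈ K, g • y = c} := by
    refine sup_le ?_ (zpowers_le.2 ?_)
    · rintro k hk _ ⟨m, hm, rfl⟩
      exact ⟨k * m, mul_mem hk hm, mul_smul _ _ _⟩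
    · rintro _ ⟨m, hm, rfl⟩
      exact ⟨_, hn m hm, by rw [mul_smul, inv_smul_eq_iff.2 ty.symm, mul_smul]⟩
  exact h2 hg y ⟨1, one_mem _, one_smul _ _⟩

theorem conj_CZ (h : TG E p) {t : G} (tx : t • x = x) (hb : b ∈ zpowers t) (ha : a ∈ CZ E x) :
    b * a * b⁻¹ ∈ CZ E x := by
  have := (h.CZ_conj b).2 ha
  rwa [show b • x = x from zpowers_le.2 (show t ∈ stabilizer G x from tx) hb] at this

theorem comm_le (h : TG E p) {t : G} (tx : t • x = x) : ⁅CZ E x, zpowers t⁆ ≤ CZ E x :=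
  commutator_le.2 fun a ha b hb => by
    rw [commutatorElement_def, mul_assoc, mul_assoc, ← mul_assoc b]
    exact mul_mem ha (conj_CZ h tx hb (inv_mem ha))

end T7

open T7

theorem MP.t7 (h : MP E p) (h7 : 7 ≤ p) : ∃ r k, TX E p r k := by
  obtain ⟨r, j, l, hr, hrp, h1, h2, h3, h4⟩ := num h.prime h7
  have := Fact.mk h.prime
  obtain ⟨n, rfl⟩ := ZMod.intCast_surjective l
  have k4 : ¬ n * n * (n * n) ≡ 1 [ZMOD p] := fun e => h4 (by
    have := (ZMod.intCast_eq_intCast_iff _ _ _).2 e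
    push_cast at this
    rw [← this]; ring)
  have n0 : (n : ZMod p) ≠ 0 := fun e => by
    rw [e, zero_pow (pow_pos hr.pos j).ne'] at h1
    exact zero_ne_one h1
  obtain ⟨k', hk⟩ := R0p.inv_ex (k := n * n) h.prime fun e => by
    have := (ZMod.intCast_zmod_eq_zero_iff_dvd _ _).2 e
    push_cast at this
    exact n0 (mul_self_eq_zero.1 this)
  have core : ∀ x y : Ω, x ≠ y → ∃ (F : Type) (_ : Field F) (ρ : SL(2, F) →* G) (l : Fˣ), Ch E p ρ x y ∧
      (r = 2 → (l : F) ^ 4 = -1) ∧ TD E p r (n * n) x y (ρ (dg l)) := by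
    intro x y hxy
    obtain ⟨a, ha⟩ := h.ne x
    obtain ⟨d, hd⟩ := h.ne y
    obtain ⟨F, _, ρ, μ, hc, -⟩ := h.toTG.exists_ch ha hd (h.toTG.opp h.r1 hxy)
    have := hc.char
    let f := ZMod.castHom (dvd_refl p) F
    let l : Fˣ := Units.mk0 (f n) ((map_ne_zero f).2 n0)
    have hl : (l : F) = n := map_intCast f n
    have pw : ∀ m : ℕ, (n : ZMod p) ^ m = 1 → ρ (dg l) ^ m = 1 := fun m e => by
      rw [← map_pow, dg_pow, show l ^ m = 1 from Units.ext (by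
        change f n ^ m = 1
        rw [← map_pow, e, map_one]), dg_one, map_one]
    have sc := h.toTG.sc_dg h.r1 hxy (h.pure x y) hc hl
    have fy := (hc.dg_fix h.toTG l).2
    refine ⟨F, inferInstance, ρ, l, hc, fun e => ?_, hr, hrp, ⟨j, pw _ h1⟩, fun e => pw _ (h2 e),
      fun e => (h3 e).1, sc, fun e => k4 (by simpa using e.mul e), fy, fun c e =>
        h.toTG.two_fix h.r1 hxy hr hrp (pw _ h1) sc (h.toTG.sl1 h.r1 hxy (h.pure x y) sc fy hk) hk k4 e⟩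
    change f n ^ 4 = -1
    rw [← map_pow, (h3 e).2, map_neg, map_one]
  refine ⟨r, n * n, h, fun x y hxy => ?_, fun e x y hxy _ _ => Or.inr ?_⟩
  · obtain ⟨F, _, ρ, l, -, -, k⟩ := core x y hxy
    exact ⟨_, k⟩
  · obtain ⟨F, _, ρ, l, k1, k2, k⟩ := core x y hxy
    exact ⟨F, inferInstance, ρ, l, k1, k2 e, k.fix⟩

theorem MP.lam (h : MP E p) (hf : Full E) (hxy : x ≠ y) (hY : YY E x y = ⊤) : NT x (Z E x) := by
  have := Fact.mk h.prime
  have T := h.toTG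
  have fx : ∀ u ∈ Z E x, u • x = x := fun u hu => T.Z_fix (T.R_refl x) hu
  have br : ∀ {F : Type} [Field F] {ρ : SL(2, F) →* G}, Ch E p ρ x y → ∀ M, ρ M • y ∈ hl E x y :=
    fun hc M => (hc.bruhat T M).imp id fun ⟨s, e⟩ => ⟨_, hc.upZ T s, e.symm⟩
  have h1 : YY E x y ≤ stab G (hl E x y) := by
    refine sup_le ?_ ((closure_le _).2 fun d hd => ?_)
    · rintro u hu _ (rfl | ⟨v, hv, rfl⟩)
      · exact Or.inl (fx u hu)
      · exact Or.inr ⟨u * v, mul_mem hu hv, mul_smul _ _ _⟩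
    · rintro c (e | ⟨v, hv, rfl⟩)
      · obtain ⟨a, ha⟩ := h.ne x
        obtain ⟨F, _, ρ, μ, hc, -, -, rfl, -⟩ := T.exists_ch ha hd (T.opp h.r1 hxy)
        rw [e, ← congrArg (ρ (slLo μ) • ·) (hc.wy_swap T one_ne_zero).2, ← mul_smul, ← map_mul]
        exact br hc _
      · by_cases e : v = 1
        · exact Or.inr ⟨1, one_mem _, by rw [e, one_smul, T.Z_fix (T.R_refl y) (T.mem_Z hd)]⟩
        obtain ⟨F, _, ρ, μ, hc, -, rfl, rfl, -⟩ := T.exists_ch (hf x v hv e) hd (T.opp h.r1 hxy)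
        rw [← mul_smul, ← map_mul]
        exact br hc _
  have h2 : ∀ c, c ≠ x → ∃ u ∈ Z E x, u • y = c := fun c hc => by
    obtain ⟨g, rfl⟩ := h.tr x c
    exact (h1 (hY ▸ mem_top g) x (Or.inl rfl)).resolve_left hc
  have h3 : ∀ a b : Ω, a ≠ x → b ≠ x → ∃ u ∈ Z E x, u • a = b := fun a b ha hb => by
    obtain ⟨u, hu, rfl⟩ := h2 a ha
    obtain ⟨v, hv, rfl⟩ := h2 b hb
    exact ⟨v * u⁻¹, mul_mem hv (inv_mem hu), by rw [mul_smul, inv_smul_smul]⟩
  refine ⟨two_of h.toFR x fun a b ha hb => (h3 a b ha hb).imp fun u k => ⟨fx u k.1, k.2⟩, fx,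
    fun g hg m hm => ?_, (T.Z_isPGroup x).isNilpotent, h3⟩
  have := (T.Z_conj g).2 hm
  rwa [hg] at this

theorem TX.m2 {r : ℕ} {k : ℤ} (h : TX E p r k) : M2 E p r k := by
  have T := h.toTG
  have c1 : ∀ x y c : Ω, y ≠ x → c ≠ x → ∃ g ∈ CZ E x, g • y = c := fun x y c hy hc => by
    obtain ⟨t, ht⟩ := h.ex x y hy.symm
    refine gen ht.prime _ (fun k hk => T.CZ_fix hk) ht.sc.1 ht.fy hy
      (fun k hk => conj_CZ T ht.sc.1 (mem_zpowers t) hk) (fun c hc => ?_) c hc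
    obtain ⟨t', ht'⟩ := h.ex x c hc.symm
    obtain ⟨j, hj⟩ := ht'.pw
    exact ⟨t', j, T.Sc_div ht'.sc ht.sc, hj, ht'.fy, ht'.fix⟩
  obtain ⟨x, -⟩ := h.nc
  refine ⟨h, two_of h.toFR x fun a b ha hb => (c1 x a b ha hb).imp fun u k => ⟨T.CZ_fix k.1, k.2⟩,
    fun x y t hxy ht => gen ht.prime _ (fun k hk => T.CZ_fix (comm_le T ht.sc.1 hk)) ht.sc.1 ht.fy hxy.symm
      (fun k hk => ?_) fun c hc => ?_⟩
  · have : (⁅CZ E x, zpowers t⁆).map (MulAut.conj t).toMonoidHom ≤ ⁅CZ E x, zpowers t⁆ := by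
      rw [map_commutator]
      refine commutator_mono ?_ ?_
      · rintro _ ⟨a, ha, rfl⟩
        exact conj_CZ T ht.sc.1 (mem_zpowers t) ha
      · rintro _ ⟨a, ha, rfl⟩
        exact mul_mem (mul_mem (mem_zpowers t) ha) (inv_mem (mem_zpowers t))
    exact this ⟨k, hk, rfl⟩
  · obtain ⟨g, hg, rfl⟩ := c1 x y c hxy.symm hc
    obtain ⟨j, hj⟩ := ht.pw
    refine ⟨g * t * g⁻¹, j, commutator_mem_commutator hg (mem_zpowers t), by rw [conj_pow, hj]; simp,
      by rw [mul_smul, inv_smul_smul, mul_smul, ht.fy], fun e he => ?_⟩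
    rw [mul_smul, mul_smul, ← eq_inv_smul_iff] at he
    exact (ht.fix _ he).imp (fun k => by rw [inv_smul_eq_iff.1 k, T.CZ_fix hg]) inv_smul_eq_iff.1

theorem M2.ctr {r : ℕ} {k : ℤ} (h : M2 E p r k) (hy : y ≠ x) (hc : c ≠ x) :
    ∃ g ∈ CZ E x, g • y = c := by
  obtain ⟨t, ht⟩ := h.ex x y hy.symm
  obtain ⟨g, hg, e⟩ := h.gl x y t hy.symm ht c hc
  exact ⟨g, comm_le h.toTG ht.sc.1 hg, e⟩

end Cfsg.Agent.PT
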