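import Mathlib
import Cfsg.Agent.PT.T7

set_option autoImplicit false

namespace Cfsg.Agent.PT

open Subgroup MulAction Cfsg.Agent.GT Cfsg.Agent.TT Cfsg.Agent.Perm.TT Cfsg.Agent.Perm.TwoCount
open Cfsg.Agent.KS (St NT)
open scoped MatrixGroups commutatorElement

universe u v

variable {G : Type u} {Ω : Type v} [Group G] [MulAction G Ω] [Finite G] [Finite Ω]
  {E : Ω → Set G} {p : ℕ} {x y x' y' c : Ω} {a b a' b' d g : G}

variable {e e' : Ω} {k t : G}

namespace LNB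

omit [Finite G] in
theorem eq_map {A B : Subgroup G} (g : G) (h : ∀ u, g * u * g⁻¹ ∈ B ↔ u ∈ A) :
    B = A.map (MulAut.conj g).toMonoidHom := by
  ext u
  constructor
  · intro hu
    exact ⟨g⁻¹ * u * g, (h _).1 (by simpa [mul_assoc] using hu), by simp [mul_assoc]⟩
  · rintro ⟨v, hv, rfl⟩
    exact (h v).2 hv

omit [Finite G] in
theorem card_eq {A B : Subgroup G} (g : G) (h : ∀ u, g * u * g⁻¹ ∈ B ↔ u ∈ A) : Nat.card B = Nat.card A := by
  rw [eq_map g h]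
  exact card_map_of_injective (MulAut.conj g).injective

theorem KK_conj (h : TG E p) (g : G) (k : G) : g * k * g⁻¹ ∈ KK E (g • x) (g • y) ↔ k ∈ KK E x y := by
  refine and_congr (h.CZ_conj g) ?_
  show (g * k * g⁻¹) • g • y = g • y ↔ k • y = y
  rw [← mul_smul, inv_mul_cancel_right, mul_smul, smul_left_cancel_iff]

theorem YY_eq (h : TG E p) (hg : g ∈ YY E x y) : YY E (g • x) (g • y) = YY E x y := by
  rw [YY, eq_map g fun _ => h.Z_conj g, eq_map g fun _ => h.Z_conj (x := y) g, ← Subgroup.map_sup]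
  exact (eq_map g fun u => (mem_normalizer_iff.1 (le_normalizer hg) u).symm).symm

omit [Finite G] [Finite Ω] in
theorem x_mem : x ∈ hl E x y := .inl rfl

omit [Finite G] [Finite Ω] in
theorem y_mem : y ∈ hl E x y := .inr ⟨1, one_mem _, one_smul _ _⟩

omit [Finite G] [Finite Ω] in
theorem ex_ne (hxy : x ≠ y) (e : Ω) : ∃ e' ∈ hl E x y, e ≠ e' := by
  by_cases k : e = x
  exacts [⟨y, y_mem, k ▸ hxy⟩, ⟨x, x_mem, k⟩]

end LNB

open LNB

theorem M2.ln {r : ℕ} {k : ℤ} (h : M2 E p r k) (hxy : x ≠ y) (hK : KK E x y ≠ ⊥) : LN E p where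
  toMP := h.toMP
  two := h.two
  ctr := fun _ _ _ hy hc => h.ctr hy hc
  ne_bot := fun x' y' hne hb => hK (by
    obtain ⟨g, rfl, rfl⟩ := h.two.two hxy hne
    rw [← card_eq_one, ← card_eq g (KK_conj h.toTG g), hb, card_bot])

namespace LN

variable (h : LN E p)
include h

theorem yy (hxy : x ≠ y) : YY E x y ≠ ⊤ := fun hY => h.ne_bot x y hxy (h.toMC.KK_bot hxy (h.pure x y) hY)

theorem gc (hxy : x ≠ y) : ∃ (F : Type) (_ : Field F) (ρ : SL(2, F) →* G), GC E p ρ x y :=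
  h.toMC.gc hxy (h.pure x y) (h.yy hxy)

theorem card_Z (x y : Ω) : Nat.card (Z E x) = Nat.card (Z E y) := by
  obtain ⟨g, rfl⟩ := h.tr y x
  exact card_eq g fun _ => h.toTG.Z_conj g

theorem semi {u : G} (hu : u ∈ Z E x) (hy : y ≠ x) (hf : u • y = y) : u = 1 := by
  have : u ∈ VV E x y := ⟨hu, hf⟩
  rwa [h.toTG.vv_bot h.r1 hy.symm (h.pure x y), mem_bot] at this

theorem CZ_of_fix (hk : k ∈ CZ E x) (hf : k • y = y) : k ∈ CZ E y := by
  by_cases hxy : x = y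
  · exact hxy ▸ hk
  · have : k ∈ KK E x y := ⟨hk, hf⟩
    rw [h.toTG.KK_symm h.r1 hxy (h.pure x y)] at this
    exact this.1

theorem card_hl (hxy : x ≠ y) : (hl E x y).ncard = Nat.card (Z E x) + 1 := by
  have e1 : hl E x y = insert x ((fun u : G => u • y) '' (Z E x : Set G)) := rfl
  have e2 : x ∉ (fun u : G => u • y) '' (Z E x : Set G) := fun ⟨u, hu, q⟩ =>
    hxy (MulAction.injective u ((h.toTG.Z_fix (h.toTG.R_refl x) hu).trans q.symm))
  have e3 : Set.InjOn (fun u : G => u • y) (Z E x : Set G) := fun u hu v hv q =>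
    (inv_mul_eq_one.1 (h.semi (mul_mem (inv_mem hv) hu) hxy.symm (by
      rw [mul_smul, inv_smul_eq_iff]; exact q))).symm
  rw [e1, Set.ncard_insert_of_notMem e2, e3.ncard_image]
  rfl

theorem LNB_px (hxy : x ≠ y) : Px E (YY E x y) = hl E x y := (h.toMC.yy_L hxy (h.yy hxy)).2

theorem LNB_sub (hxy : x ≠ y) : SubC E p (YY E x y) x y :=
  h.sub _ (h.yy hxy) x (by rw [h.LNB_px hxy]; exact x_mem) y (by rw [h.LNB_px hxy]; exact y_mem) hxy

theorem even_hl (hxy : x ≠ y) : Even (hl E x y).ncard := by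
  rw [← h.LNB_px hxy]
  exact (h.LNB_sub hxy).even

theorem smul_hl (g : G) (x y : Ω) : (g • ·) '' hl E x y = hl E (g • x) (g • y) := by
  ext c
  constructor
  · rintro ⟨_, rfl | ⟨u, hu, rfl⟩, rfl⟩
    · exact .inl rfl
    · exact .inr ⟨g * u * g⁻¹, (h.toTG.Z_conj g).2 hu, by simp [mul_smul]⟩
  · rintro (rfl | ⟨u, hu, rfl⟩)
    · exact ⟨x, x_mem, rfl⟩
    · exact ⟨(g⁻¹ * u * g) • y, .inr ⟨_, (h.toTG.Z_conj g).1 (by simpa [mul_assoc] using hu), rfl⟩,
        by simp [mul_smul]⟩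

theorem hl_eq (hxy : x ≠ y) (he : e ∈ hl E x y) (he' : e' ∈ hl E x y) (hne : e ≠ e') :
    hl E e e' = hl E x y ∧ YY E e e' = YY E x y ∧ KK E e e' = KK E x y := by
  have t2 := (h.LNB_sub hxy).t2
  rw [h.LNB_px hxy] at t2
  obtain ⟨g, hg, rfl, rfl⟩ := t2.tr x x_mem y y_mem e he e' he' hxy hne
  have hY := YY_eq h.toTG ((closure_le _).2 (fun _ ha => ha.1) hg : g ∈ YY E x y)
  refine ⟨by rw [← h.LNB_px hne, hY, h.LNB_px hxy], hY, ?_⟩
  rw [h.toTG.KK_eq h.r1 hne (h.pure _ _), hY, h.toTG.KK_eq h.r1 hxy (h.pure _ _)]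

theorem YY_le_St (hxy : x ≠ y) : YY E x y ≤ St G (hl E x y) := fun g hg => KS.mem_St_of fun c hc => by
  rw [← h.LNB_px hxy] at hc ⊢
  obtain ⟨a, ha, hY⟩ := hc
  exact ⟨_, h.conj g c a ha, mul_mem (mul_mem hg hY) (inv_mem hg)⟩

theorem Z_le_YY (hxy : x ≠ y) (he : e ∈ hl E x y) : Z E e ≤ YY E x y := by
  obtain ⟨e', he', hne⟩ := ex_ne (E := E) hxy e
  rw [← (h.hl_eq hxy he he' hne).2.1]
  exact le_sup_left

theorem KK_fix (hxy : x ≠ y) (hk : k ∈ KK E x y) (he : e ∈ hl E x y) : k • e = e := by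
  obtain ⟨e', he', hne⟩ := ex_ne (E := E) hxy e
  rw [← (h.hl_eq hxy he he' hne).2.2] at hk
  exact h.toTG.CZ_fix hk.1

theorem mem_St (hxy : x ≠ y) (h1 : g • x ∈ hl E x y) (h2 : g • y ∈ hl E x y) :
    g ∈ St G (hl E x y) := KS.mem_St_of fun c hc => by
  rw [← (h.hl_eq hxy h1 h2 fun q => hxy (MulAction.injective g q)).1, ← h.smul_hl]
  exact ⟨c, hc, rfl⟩

theorem St_dec (hxy : x ≠ y) (hk : k ∈ CZ E x) (hs : k • y ∈ hl E x y) :
    ∃ u ∈ Z E x, u⁻¹ * k ∈ KK E x y := by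
  rcases hs with q | ⟨u, hu, q⟩
  · exact absurd (MulAction.injective k ((h.toTG.CZ_fix hk).trans q.symm)) hxy
  · have h1 : u ∈ CZ E x := mem_centralizer_iff.2 fun v hv => (h.toTG.Z_commute (h.toTG.R_refl x) hv hu).eq
    refine ⟨u, hu, (CZ E x).mul_mem (inv_mem h1) hk, ?_⟩
    show (u⁻¹ * k) • y = y
    rw [mul_smul, ← q, inv_smul_smul]

theorem hl_ne (hxy : x ≠ y) : ∃ c, c ∉ hl E x y := by
  by_contra! q
  exact h.ne_bot x y hxy (eq_bot_iff_forall _ |>.2 fun k hk => h.faith k fun c => h.KK_fix hxy hk (q c))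

theorem card_KK (hxy : x ≠ y) (he : e ≠ e') : Nat.card (KK E e e') = Nat.card (KK E x y) := by
  obtain ⟨g, rfl, rfl⟩ := h.two.two hxy he
  exact card_eq g (KK_conj h.toTG g)

theorem card_CZ (hxy : x ≠ y) : Nat.card (CZ E x) = (Nat.card Ω - 1) * Nat.card (KK E x y) := by
  have e1 : orbit (CZ E x) y = {x}ᶜ := by
    ext c
    constructor
    · rintro ⟨g, rfl⟩ q
      exact hxy (MulAction.injective (g : G) ((h.toTG.CZ_fix g.2).trans (Set.mem_singleton_iff.1 q).symm))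
    · intro hc
      obtain ⟨g, hg, q⟩ := h.ctr x y c hxy.symm hc
      exact ⟨⟨g, hg⟩, q⟩
  have e2 : stabilizer (CZ E x) y = (KK E x y).subgroupOf (CZ E x) :=
    Subgroup.ext fun g => ⟨fun q => ⟨g.2, q⟩, fun q => q.2⟩
  have e3 := Set.ncard_add_ncard_compl ({x} : Set Ω)
  rw [Set.ncard_singleton] at e3
  rw [← (stabilizer (CZ E x) y).index_mul_card, index_stabilizer, e1, e2,
    Nat.card_congr (subgroupOfEquivOfLe (H := KK E x y) (K := CZ E x) inf_le_left).toEquiv]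
  congr 1
  omega

end LN

end Cfsg.Agent.PT
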