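import Mathlib
import Cfsg.Agent.PT.LNB

/-! The doubly transitive situation with lines: fixed points. -/

set_option autoImplicit false

namespace Cfsg.Agent.PT

open Subgroup MulAction Cfsg.Agent.GT Cfsg.Agent.TT Cfsg.Agent.Perm.TT Cfsg.Agent.Perm.TwoCount
open Cfsg.Agent.KS (St NT)
open scoped MatrixGroups commutatorElement

universe u v

variable {G : Type u} {Ω : Type v} [Group G] [MulAction G Ω] [Finite G] [Finite Ω]
  {E : Ω → Set G} {p : ℕ} {x y x' y' c : Ω} {a b a' b' d g : G}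

variable {e e' : Ω} {k t : G}

namespace LNC

omit [Finite G] in
theorem conj_zz (g a b : G) : g * zz a b * g⁻¹ = zz (g * a * g⁻¹) (g * b * g⁻¹) := by
  simp only [zz, nn]
  group

omit [Finite G] [Finite Ω] in
theorem left_mem (x y : Ω) : x ∈ hl E x y := Or.inl rfl

omit [Finite G] [Finite Ω] in
theorem right_mem (x y : Ω) : y ∈ hl E x y := Or.inr ⟨1, one_mem _, one_smul _ _⟩

omit [MulAction G Ω] [Finite G] [Finite Ω] in
theorem HX_le (X : Subgroup G) : HX E X ≤ X := (closure_le _).2 fun _ h => h.1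

omit [Finite G] in
theorem norm_cent {W : Subgroup G} (hg : g ∈ normalizer (W : Set G)) :
    g ∈ normalizer ((centralizer (W : Set G) : Subgroup G) : Set G) := by
  have key : ∀ g ∈ normalizer (W : Set G), ∀ c ∈ centralizer (W : Set G), g * c * g⁻¹ ∈ centralizer (W : Set G) :=
    fun g hg c hc => mem_centralizer_iff.2 fun w hw => by
      have h1 := mem_centralizer_iff.1 hc _ ((mem_normalizer_iff''.1 hg w).1 hw)
      calc w * (g * c * g⁻¹) = g * (g⁻¹ * w * g * c) * g⁻¹ := by group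
        _ = g * c * g⁻¹ * w := by rw [h1]; group
  refine mem_normalizer_iff.2 fun c => ⟨key g hg c, fun hc => ?_⟩
  simpa [mul_assoc] using key g⁻¹ (inv_mem hg) _ hc

variable (h : LN E p)
include h

theorem zz_uniq (hxy : x ≠ y) (ha : a ∈ E x) (hb : b ∈ Pa E a y) (ha' : a' ∈ E x) (hb' : b' ∈ Pa E a' y) :
    zz a b = zz a' b' ∧ zz a b ∈ KK E x y := by
  obtain ⟨F, _, ρ, hc, -⟩ := h.toTG.exists_ch_pa ha (h.toTG.opp h.r1 hxy) hb
  rw [h.toTG.zz_eq h.r1 hxy (h.pure x y) hc ha hb, h.toTG.zz_eq h.r1 hxy (h.pure x y) hc ha' hb']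
  exact ⟨rfl, h.toTG.neg_mem h.r1 hxy (h.pure x y) hc⟩

theorem mem_cent {W : Subgroup G} (hW : W ≤ KK E x y) (hc : c ∈ fixedPoints W Ω) (hd : d ∈ E c) :
    d ∈ centralizer (W : Set G) := mem_centralizer_iff.2 fun w hw =>
  (h.toTG.mem_CZ.1 (h.CZ_of_fix (hW hw).1 (hc ⟨w, hw⟩)) d hd).eq

theorem px_eq {W : Subgroup G} (hW : W ≤ KK E x y) : Px E (centralizer (W : Set G)) = fixedPoints W Ω := by
  ext c
  refine ⟨fun ⟨d, hd, hc⟩ w => h.toTG.fix_of_commute hd (mem_centralizer_iff.1 hc w w.2), fun hc => ?_⟩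
  obtain ⟨d, hd⟩ := h.ne c
  exact ⟨d, hd, mem_cent h hW hc hd⟩

/-- The number of fixed points of an element centralizing `Z x`. -/
theorem bound (hk : k ∈ CZ E x) (h1 : k ≠ 1) : (fixedBy Ω k).ncard * Nat.card (Z E x) + 1 ≤ Nat.card Ω := by
  obtain ⟨y, hy⟩ : ∃ y : Ω, k • y ≠ y := by
    by_contra! hn
    exact h1 (h.faith k hn)
  have hne : ∀ s : fixedBy Ω k, y ≠ s := fun s e => hy (e ▸ s.2)
  have h0 : ∀ (s : fixedBy Ω k) (u : Z E y), (u : G) • (s : Ω) ≠ y := fun s u e =>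
    hne s (MulAction.injective (u : G) ((h.toTG.Z_fix (h.toTG.R_refl y) u.2).trans e.symm))
  rw [h.card_Z x y, ← Nat.card_coe_set_eq, ← Nat.card_prod, ← Finite.card_option]
  refine Nat.card_le_card_of_injective
    (fun o : Option (fixedBy Ω k × Z E y) => o.elim y fun q => (q.2 : G) • (q.1 : Ω)) ?_
  rintro (_ | ⟨s, u⟩) (_ | ⟨s', u'⟩) e
  · rfl
  · exact absurd e.symm (h0 s' u')
  · exact absurd e (h0 s u)
  have e1 : ((u' : G)⁻¹ * u) • (s : Ω) = s' := by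
    rw [mul_smul, inv_smul_eq_iff]
    exact e
  have hu : (u' : G)⁻¹ * u ∈ Z E y := mul_mem (inv_mem u'.2) u.2
  obtain rfl : s = s' := by
    by_contra hn
    obtain ⟨k1, -, k3⟩ := h.hl_eq (hne s) (right_mem y (s : Ω)) (Or.inr ⟨_, hu, e1⟩) fun e => hn (Subtype.ext e)
    exact hy (h.KK_fix (hne s) (k3 ▸ mem_inf.2 ⟨h.CZ_of_fix hk s.2, s'.2⟩) (left_mem _ _))
  obtain rfl : u' = u := Subtype.ext (inv_mul_eq_one.1 (h.semi hu (hne s).symm e1))
  rfl

end LNC

namespace LN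

open LNC

variable (h : LN E p)
include h

theorem zz_comm (hxy : x ≠ y) (ha : a ∈ E x) (hb : b ∈ Pa E a y) (hg : g ∈ St G (hl E x y)) :
    Commute g (zz a b) := by
  have hY := h.yy hxy
  have e := (h.toMC.yy_L hxy hY).2
  have hx : x ∈ Px E (YY E x y) := e ▸ left_mem x y
  have hy : y ∈ Px E (YY E x y) := e ▸ right_mem x y
  have hne : g • x ≠ g • y := fun k => hxy (MulAction.injective g k)
  obtain ⟨m, hm, m1, m2⟩ := (h.sub _ hY x hx y hy hxy).t2.tr x hx y hy (g • x)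
    (e ▸ KS.St.smul_mem hg (left_mem x y)) (g • y) (e ▸ KS.St.smul_mem hg (right_mem x y)) hxy hne
  have h1 := (zz_uniq h hxy ha hb ha hb).2
  rw [h.toTG.KK_eq h.r1 hxy (h.pure x y)] at h1
  have h2 := (zz_uniq h hne (h.conj g x a ha) (h.toTG.pa_conj hb g) (m1 ▸ h.conj m x a ha)
    (m2 ▸ h.toTG.pa_conj hb m)).1
  rw [← conj_zz, ← conj_zz, mem_centralizer_iff.1 h1 m (HX_le _ hm), mul_inv_cancel_right] at h2
  exact mul_inv_eq_iff_eq_mul.1 h2

theorem fix_zz (hxy : x ≠ y) (ha : a ∈ E x) (hb : b ∈ Pa E a y) (hz : zz a b ≠ 1) :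
    fixedBy Ω (zz a b) = hl E x y :=
  (h.toMC.fix_zz hxy ha hb hz).2.antisymm fun _ hc => h.KK_fix hxy (zz_uniq h hxy ha hb ha hb).2 hc

theorem subW (hxy : x ≠ y) {W : Subgroup G} (hW : W ≤ KK E x y) (h1 : W ≠ ⊥) :
    fixedPoints W Ω = hl E x y ∨ US E W (fixedPoints W Ω) x y := by
  obtain ⟨⟨w, hw⟩, w1⟩ := ne_bot_iff_exists_ne_one.1 h1
  have hX : centralizer (W : Set G) ≠ ⊤ := h.toMC.cent_ne_top hw fun e => w1 (Subtype.ext e)
  have e := px_eq h hW
  have hs : hl E x y ⊆ fixedPoints W Ω := fun c hc w => h.KK_fix hxy (hW w.2) hc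
  have hx := hs (left_mem x y)
  have hy := hs (right_mem x y)
  have S := h.sub _ hX x (e ▸ hx) y (e ▸ hy) hxy
  rcases S.ty with T | T
  · refine Or.inl (Set.Subset.antisymm (fun c hc => ?_) hs)
    by_cases k : c = x
    · exact Or.inl k
    obtain ⟨u, hu, -, k'⟩ := T.tr h.toTG h.r1 (e ▸ hc) k
    exact Or.inr ⟨u, hu, k'⟩
  refine Or.inr ⟨e ▸ S.even, ⟨fun g hg c hc w => ?_, fun a ha b hb a' ha' b' hb' k k' => ?_⟩, fun a ha b hb => ?_,
    fun g hg k => ?_⟩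
  · show (w : G) • g • c = g • c
    rw [← mul_smul, mem_centralizer_iff.1 hg w w.2, mul_smul]
    exact congrArg _ (hc w)
  · obtain ⟨m, hm, k1⟩ := S.t2.tr a (e ▸ ha) b (e ▸ hb) a' (e ▸ ha') b' (e ▸ hb') k k'
    exact ⟨m, HX_le _ hm, k1⟩
  · exact e ▸ T.mv a ha b hb (mem_cent h hW hx ha) (mem_cent h hW hy hb.1)
  · exact e ▸ T.ua g (norm_cent hg) (e ▸ k)

theorem mem_KK_two (hxy : x ≠ y) (ht : t * t = 1) (hs : t ∈ St G (hl E x y)) (he : e ∈ hl E x y)
    (hc : t ∈ CZ E e) : t ∈ KK E x y := by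
  obtain ⟨e', he', hne⟩ : ∃ e' ∈ hl E x y, e ≠ e' := by
    by_cases k : e = x
    · exact ⟨y, right_mem x y, k ▸ hxy⟩
    · exact ⟨x, left_mem x y, k⟩
  obtain ⟨k1, -, k3⟩ := h.hl_eq hxy he he' hne
  obtain ⟨u, hu, hk⟩ := h.St_dec hne hc (k1 ▸ KS.St.smul_mem hs he')
  have hcm : u * t = t * u := mem_centralizer_iff.1 hc u hu
  have h1 : (u⁻¹ * t) * (u⁻¹ * t) = (u * u)⁻¹ := by
    rw [mul_assoc, ← mul_assoc t, ← (Commute.inv_left hcm).eq, mul_assoc, ht, mul_one, mul_inv_rev]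
  have h2 : (u * u)⁻¹ = 1 := h.semi (inv_mem (mul_mem hu hu)) hne.symm (h1 ▸ (mul_mem hk hk).2)
  obtain ⟨i, hi⟩ := h.prime.odd_of_ne_two (by have := h.five; omega)
  have h3 := h.toTG.Z_pow hu
  rw [hi, pow_succ, pow_mul, pow_two, inv_eq_one.1 h2, one_pow, one_mul] at h3
  rwa [h3, inv_one, one_mul, k3] at hk

theorem ifx (hxy : x ≠ y) (ht : t ∈ KK E x y) (h2 : orderOf t = 2) : fixedBy Ω t = hl E x y := by
  have t1 : t ≠ 1 := fun e => by simp [e] at h2
  have tt : t * t = 1 := by rw [← pow_two, ← h2, pow_orderOf_eq_one]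
  have e : fixedPoints (zpowers t) Ω = fixedBy Ω t := by
    ext c
    exact ⟨fun hc => hc ⟨t, mem_zpowers t⟩, fun hc w => (zpowers_le (H := stabilizer G c)).2 hc w.2⟩
  rcases h.subW hxy (zpowers_le.2 ht) (by simpa using t1) with k | U
  · exact e ▸ k
  exfalso
  obtain ⟨γ, hγ⟩ : ∃ γ : Ω, t • γ ≠ γ := by
    by_contra! hn
    exact t1 (h.faith t hn)
  have hs : SLp E x y := by
    obtain ⟨a, ha⟩ := h.ne x
    obtain ⟨b, hb⟩ := h.toTG.exists_pa ha (h.toTG.opp h.r1 hxy)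
    obtain ⟨c, -, hc⟩ := U.mv a ha b hb
    exact ⟨h.toTG.opp h.r1 hxy, a, ha, b, hb, fun e => hc (by rw [e, one_smul])⟩
  obtain ⟨g, g1, g2⟩ := h.two.two hxy hγ.symm
  obtain ⟨hr, a, ha, b, hb, hz⟩ : SLp E γ (t • γ) := by
    have := (h.toTG.slp_smul h.r1 g).2 hs
    rwa [g1, g2] at this
  have hst : t ∈ St G (hl E γ (t • γ)) :=
    h.mem_St hγ.symm (right_mem _ _) (by rw [← mul_smul, tt, one_smul]; exact left_mem _ _)
  have hc := h.zz_comm hγ.symm ha hb hst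
  obtain ⟨c, hc1, hc2⟩ := U.ua (zz a b) (centralizer_le_normalizer _ (mem_centralizer_iff.2 fun w hw => by
    obtain ⟨i, rfl⟩ := mem_zpowers_iff.1 hw
    exact (hc.zpow_left i).eq)) fun c _ => by rw [(h.toTG.zz_sq ha hr hb).1, one_smul]
  rw [e] at hc1
  have := h.mem_KK_two hγ.symm tt hst (h.fix_zz hγ.symm ha hb hz ▸ hc2) (h.CZ_of_fix ht.1 hc1)
  exact hγ (h.toTG.CZ_fix this.1)

theorem faithful (hg : g ∈ CZ E x) (hs : ∀ c, c ≠ x → g • c ∈ hl E x c) : g ∈ Z E x := by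
  classical
  have := Fintype.ofFinite Ω
  have := Fintype.ofFinite (Z E x)
  by_contra hn
  have key : ∀ c, ∃ v : Z E x, c ≠ x → ((v : G) * g) • c = c := fun c => by
    by_cases k : c = x
    · exact ⟨1, fun k' => absurd k k'⟩
    rcases hs c k with e | ⟨u, hu, e⟩
    · rw [← h.toTG.CZ_fix hg, smul_left_cancel_iff] at e
      exact absurd e k
    · exact ⟨⟨u⁻¹, inv_mem hu⟩, fun _ => by rw [mul_smul, ← e, inv_smul_smul]⟩
  choose v hv using key
  obtain ⟨w, hw⟩ := Finite.exists_max fun w : Z E x => ((Finset.univ.erase x).filter fun c => v c = w).card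
  have h1 := Finset.card_le_mul_card_image_of_maps_to (s := Finset.univ.erase x) (t := Finset.univ) (f := v)
    (fun _ _ => Finset.mem_univ _) _ fun b _ => hw b
  have hk : (w : G) * g ∈ CZ E x := mul_mem (h.toTG.Z_le_CZ x w.2) hg
  have h2 := bound h hk fun e => hn (eq_inv_of_mul_eq_one_right e ▸ inv_mem w.2)
  have h3 : ((Finset.univ.erase x).filter fun c => v c = w).card + 1 ≤ (fixedBy Ω ((w : G) * g)).ncard := by
    rw [← Finset.card_insert_of_notMem (a := x) (by simp), ← Set.ncard_coe_finset]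
    refine Set.ncard_le_ncard fun c hc => ?_
    simp only [Finset.coe_insert, Set.mem_insert_iff, Finset.coe_filter, Finset.mem_erase, Set.mem_ofPred_eq] at hc
    rcases hc with rfl | ⟨⟨k, -⟩, rfl⟩
    · exact h.toTG.CZ_fix hk
    · exact hv c k
  rw [Finset.card_erase_of_mem (Finset.mem_univ x), Finset.card_univ, Finset.card_univ,
    ← Nat.card_eq_fintype_card, ← Nat.card_eq_fintype_card] at h1
  have h4 : 0 < Nat.card (Z E x) := Nat.card_pos
  have h5 := Nat.mul_le_mul_right (Nat.card (Z E x)) h3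
  rw [add_mul, one_mul] at h5
  omega

end LN

end Cfsg.Agent.PT
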