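import Mathlib
import Cfsg.Agent.PT.LNC

/-! Lines with pointwise stabilizers of even order: basic facts and the principle. -/

set_option autoImplicit false
set_option linter.unusedSectionVars false

namespace Cfsg.Agent.PT

open Subgroup MulAction Cfsg.Agent.GT Cfsg.Agent.TT Cfsg.Agent.Perm.TT Cfsg.Agent.Perm.TwoCount
open Cfsg.Agent.KS (St NT)
open scoped MatrixGroups commutatorElement

universe u v

variable {G : Type u} {Ω : Type v} [Group G] [MulAction G Ω] [Finite G] [Finite Ω]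
  {E : Ω → Set G} {p : ℕ} {x y x' y' c : Ω} {a b a' b' d g : G}

variable {t : G}

namespace KE1

theorem exists_second {S : Set Ω} (hs : Even S.ncard) (hx : x ∈ S) : ∃ y ∈ S, y ≠ x := by
  by_contra! e
  rw [Set.eq_singleton_iff_unique_mem.2 ⟨hx, e⟩] at hs
  simp at hs

theorem left_mem : x ∈ hl E x y := Or.inl rfl

theorem right_mem : y ∈ hl E x y := Or.inr ⟨1, one_mem _, one_smul _ _⟩

theorem exists_ne (h : TG E p) (x : Ω) : ∃ y, y ≠ x := by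
  obtain ⟨y, hy⟩ := h.exists_opp x
  exact ⟨y, fun e => hy (e ▸ h.R_refl _)⟩

theorem exists_pair (h : TG E p) : ∃ x y : Ω, x ≠ y := by
  obtain ⟨x, y, hy⟩ := h.nc
  exact ⟨x, y, fun e => hy (e ▸ h.R_refl _)⟩

end KE1

namespace KE

open KE1

variable (h : KE E p)
include h

theorem exists_inv (hxy : x ≠ y) : ∃ t ∈ KK E x y, orderOf t = 2 := by
  obtain ⟨t, ht⟩ := exists_prime_orderOf_dvd_card' 2 (h.even x y hxy).two_dvd
  exact ⟨t, t.2, by rw [Subgroup.orderOf_coe, ht]⟩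

theorem even_card : Even (Nat.card Ω) := by
  obtain ⟨x, y, hxy⟩ := exists_pair h.toLN.toMP.toMC.toFR.toTG
  obtain ⟨t, ht, h2⟩ := h.exists_inv hxy
  have := parity_fixedBy (Ω := Ω) (mul_self_two h2)
  rw [h.ifx x y hxy t ht h2] at this
  rw [Nat.even_iff, this, ← Nat.even_iff]
  exact h.toLN.even_hl hxy

theorem inv_mem (ht : t ∈ CZ E x) (h2 : orderOf t = 2) : ∃ y, y ≠ x ∧ t ∈ KK E x y := by
  obtain ⟨b, hb, e⟩ := exists_second (S := fixedBy Ω t) (x := x) (by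
    rw [Nat.even_iff, ← parity_fixedBy (mul_self_two h2), ← Nat.even_iff]
    exact h.even_card) (h.toLN.toMP.toMC.toFR.toTG.CZ_fix ht)
  exact ⟨b, e, ht, hb⟩

theorem inv_line (hxy : x ≠ y) (ht : t ∈ KK E x y) (h2 : orderOf t = 2) (hc : c ≠ x)
    (hs : t • c ∈ hl E x c) : c ∈ hl E x y :=
  (h.ifx x y hxy t ht h2).le (h.toLN.mem_KK_two hc.symm (mul_self_two h2)
    (h.toLN.mem_St hc.symm (by
      rw [h.toLN.toMP.toMC.toFR.toTG.CZ_fix ht.1]; exact left_mem) hs) left_mem ht.1).2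

theorem succ_dvd (x : Ω) : Nat.card (Z E x) + 1 ∣ Nat.card Ω := by
  have hT := h.toLN.toMP.toMC.toFR.toTG
  have hL := h.toLN
  obtain ⟨y, hb⟩ := exists_ne hT x
  obtain ⟨t, ht, h2⟩ := h.exists_inv hb.symm
  have hs : ∀ γ : Ω, t • γ ≠ γ → t ∈ St G (hl E γ (t • γ)) := fun γ hγ =>
    hL.mem_St hγ.symm right_mem (by rw [smul_smul_two h2]; exact left_mem)
  have h1 : ∀ γ : Ω, t • γ ≠ γ → ∀ δ ∈ hl E γ (t • γ), t • δ ≠ δ := fun γ hγ δ hδ e => hγ
    (hT.CZ_fix (hL.mem_KK_two hγ.symm (mul_self_two h2) (hs γ hγ) hδ (hL.CZ_of_fix ht.1 e)).1)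
  have h3 : ∀ γ : Ω, t • γ ≠ γ → ∀ δ ∈ hl E γ (t • γ), hl E δ (t • δ) = hl E γ (t • γ) :=
    fun γ hγ δ hδ => (hL.hl_eq hγ.symm hδ ((hs γ hγ δ).2 hδ) (h1 γ hγ δ hδ).symm).1
  have h4 := dcount (X := (fixedBy Ω t)ᶜ) (Y := (fun γ => hl E γ (t • γ)) '' (fixedBy Ω t)ᶜ)
    (Set.toFinite _) (Set.toFinite _) (fun x L => x ∈ L) (r := 1) (t := Nat.card (Z E x) + 1)
    (fun x hx => Set.ncard_eq_one.2
      ⟨_, Set.eq_singleton_iff_unique_mem.2 ⟨⟨⟨x, hx, rfl⟩, left_mem⟩, by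
        rintro _ ⟨⟨γ, hγ, rfl⟩, e⟩; exact (h3 γ hγ x e).symm⟩⟩) (by
      rintro _ ⟨γ, hγ, rfl⟩
      rw [hL.card_Z x γ, ← hL.card_hl (Ne.symm hγ)]
      exact congrArg _ (Set.ext fun x => and_iff_right_of_imp (h1 γ hγ x)))
  rw [← Set.ncard_add_ncard_compl (fixedBy Ω t), ← mul_one (fixedBy Ω t)ᶜ.ncard, h4,
    h.ifx x y hb.symm t ht h2, hL.card_hl hb.symm]
  exact dvd_add dvd_rfl (dvd_mul_left _ _)

theorem principle {W : Subgroup G} (hW : W ≤ CZ E x)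
    (hn : ∀ g : G, g • x = x → ∀ w ∈ W, g * w * g⁻¹ ∈ W) (hxy : x ≠ y) (hc : c ∉ hl E x y)
    (hf : ∀ w ∈ W, w • y = y → w • c = c) : ∀ w ∈ W, w • y = y → w = 1 := by
  have hL := h.toLN
  intro k hk kb
  by_contra k1
  set Y := W ⊓ stabilizer G y
  set S : Set Ω := fixedPoints Y Ω
  have hYK : Y ≤ KK E x y := inf_le_inf_right _ hW
  have mS : ∀ {e : Ω}, e ∈ S ↔ ∀ w ∈ Y, w • e = e :=
    ⟨fun he w hw => he ⟨w, hw⟩, fun he w => he w w.2⟩
  have hls : hl E x y ⊆ S := fun e he => mS.2 fun w hw => hL.KK_fix hxy (hYK hw) he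
  have ha := hls left_mem
  have hb := hls right_mem
  have hkY : k ∈ Y := ⟨hk, kb⟩
  have hU : US E Y S x y := (hL.subW hxy hYK fun e => k1 (mem_bot.1 (e ▸ hkY))).resolve_left
    fun e => hc (e.le (mS.2 fun w hw => hf w hw.1 hw.2))
  have hA : ∀ g : G, g • x = x → g • y ∈ S → g ∈ normalizer (Y : Set G) := fun g ga gb =>
    (inv_mem_iff (x := g)).1 (mem_normalizer_fintype fun w hw =>
      ⟨hn g⁻¹ (inv_smul_eq_iff.2 ga.symm) w hw.1,
        conj_smul_iff'.2 (by rw [inv_inv]; exact mS.1 gb w hw)⟩)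
  have hN : ∀ g ∈ normalizer (Y : Set G), ∀ e ∈ S, g • e ∈ S := fun g hg e he => mS.2 fun w hw => by
    have := mS.1 he _ ((mem_normalizer_iff''.1 hg w).1 hw)
    rwa [mul_smul, mul_smul, inv_smul_eq_iff] at this
  have hB : ∀ g : G, g • x ∈ S → g • y ∈ S → g ∈ normalizer (Y : Set G) := fun g ga gb => by
    obtain ⟨n, hn, e1, e2⟩ := hU.t2.tr x ha y hb _ ga _ gb hxy ((MulAction.injective g).ne hxy)
    exact (mul_mem_cancel_left (Subgroup.inv_mem _ (centralizer_le_normalizer _ hn))).1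
      (hA _ (by rw [mul_smul, ← e1, inv_smul_smul])
        (by rw [mul_smul, ← e2, inv_smul_smul]; exact hb))
  obtain ⟨t, ht, t2⟩ := h.exists_inv hxy
  have hF := h.ifx x y hxy t ht t2
  obtain ⟨γ, hγ⟩ : ∃ γ : Ω, k • γ ≠ γ := by
    by_contra! e
    exact k1 (hL.two.faith k e)
  obtain ⟨g, rfl, gb⟩ := hL.two.two hxy (c := γ) (d := t • γ)
    fun e => hγ (mS.1 (hls (hF.le e.symm)) k hkY)
  have s2 := two_conj t2 g⁻¹
  have hs : g⁻¹ * t * g⁻¹⁻¹ ∈ normalizer (Y : Set G) := hB _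
    (by rw [inv_inv, mul_smul, mul_smul, ← gb, inv_smul_smul]; exact hb)
    (by rw [inv_inv, mul_smul, mul_smul, gb, smul_smul_two t2, inv_smul_smul]; exact ha)
  obtain ⟨e, hx, ex⟩ := hU.ua _ hs fun x _ => by rw [mul_self_two s2, one_smul]
  obtain ⟨e', ⟨hy, ey⟩, xy⟩ := exists_second (S := S ∩ fixedBy Ω (g⁻¹ * t * g⁻¹⁻¹)) (x := e) (by
    rw [Nat.even_iff, ← parity (hN _ hs) fun q _ => smul_smul_two s2 q, ← Nat.even_iff]
    exact hU.even) ⟨hx, ex⟩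
  obtain ⟨n, hn, rfl, rfl⟩ := hU.t2.tr x ha y hb e hx e' hy hxy xy.symm
  have back : ∀ q : Ω, (g⁻¹ * t * g⁻¹⁻¹) • n • q = n • q → (g * n) • q ∈ S := fun q e =>
    hls (hF.le (by rw [conj_smul_iff', inv_inv, ← mul_smul g] at e; exact e))
  exact hγ (mS.1 (hN g ((mul_mem_cancel_right (centralizer_le_normalizer _ hn)).1
    (hB _ (back x ex) (back y ey))) x ha) k hkY)

end KE

end Cfsg.Agent.PT
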