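import Mathlib
import Cfsg.Agent.PT.KE1
import Cfsg.Agent.GT.MinNormal
import Cfsg.Agent.S0205

/-! A nilpotent normal subgroup of the point stabilizer. -/

set_option autoImplicit false
set_option linter.unusedSectionVars false

namespace Cfsg.Agent.PT

open Subgroup MulAction Cfsg.Agent.GT Cfsg.Agent.TT Cfsg.Agent.Perm.TT Cfsg.Agent.Perm.TwoCount
open Cfsg.Agent.KS (St NT)
open scoped MatrixGroups commutatorElement

universe u v

section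

variable {G : Type u} {Ω : Type v} [Group G] [MulAction G Ω] [Finite G] [Finite Ω]
  {E : Ω → Set G} {p : ℕ} {a b c d : Ω} {g k t u v : G}

namespace KE3

/-- `V` is normal in the stabilizer of `a` -/
def NA (a : Ω) (V : Subgroup G) : Prop := ∀ g : G, g • a = a → ∀ x ∈ V, g * x * g⁻¹ ∈ V

theorem inv_fix (h : g • a = a) : g⁻¹ • a = a := inv_smul_eq_iff.2 h.symm

theorem NA.comm {V : Subgroup G} (h : NA a V) : NA a ⁅V, V⁆ := fun g hg x hx => by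
  have h1 : V.map (MulAut.conj g).toMonoidHom ≤ V := by
    rintro _ ⟨y, hy, rfl⟩
    exact h g hg y hy
  have h2 := mem_map_of_mem (MulAut.conj g).toMonoidHom hx
  rw [map_commutator] at h2
  exact commutator_mono h1 h1 h2

theorem exists_sqrt {s : G} (h : Odd (orderOf s)) : ∃ j : ℕ, s ^ j * s ^ j * s = 1 := by
  obtain ⟨j, e⟩ := h
  exact ⟨j, by rw [← pow_add, ← pow_succ, ← two_mul, ← e, pow_orderOf_eq_one]⟩

theorem sq_one (h : orderOf t = 2) : t * t = 1 := by rw [← pow_two, ← h, pow_orderOf_eq_one]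

theorem cen (hu : u ∈ Z E a) (hg : g ∈ CZ E a) : g * u * g⁻¹ = u := by
  rw [← mem_centralizer_iff.1 hg u hu, mul_inv_cancel_right]

theorem cjf (h : KE E p) (hg : g • a = a) (hu : u ∈ Z E a) : g * u * g⁻¹ ∈ Z E a := by
  have := (h.Z_conj g).2 hu
  rwa [hg] at this

theorem exists_ne (h : KE E p) (a : Ω) : ∃ b, b ≠ a := by
  obtain ⟨b, hb⟩ := h.exists_opp a
  exact ⟨b, fun e => hb (e ▸ h.R_refl _)⟩

theorem zcomm (h : KE E p) (hu : u ∈ Z E a) (hv : v ∈ Z E a) : Commute u v := h.Z_commute (h.R_refl a) hu hv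

/-- the elements of `O` that centralize `V` modulo `Z E a` -/
def KV (h : KE E p) {O : Subgroup G} (hO : O ≤ CZ E a) (V : Subgroup G) : Subgroup G where
  carrier := {k | k ∈ O ∧ ∀ v ∈ V, ⁅k, v⁆ ∈ Z E a}
  one_mem' := ⟨one_mem _, fun v _ => by simp⟩
  mul_mem' := fun {k l} hk hl => ⟨mul_mem hk.1 hl.1, fun v hv => by
    have e : ⁅k * l, v⁆ = k * ⁅l, v⁆ * k⁻¹ * ⁅k, v⁆ := by simp only [commutatorElement_def]; group
    rw [e]
    exact mul_mem (cjf h (h.CZ_fix (hO hk.1)) (hl.2 v hv)) (hk.2 v hv)⟩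
  inv_mem' := fun {k} hk => ⟨inv_mem hk.1, fun v hv => by
    have e : ⁅k⁻¹, v⁆ = k⁻¹ * ⁅k, v⁆⁻¹ * k⁻¹⁻¹ := by simp only [commutatorElement_def]; group
    rw [e]
    exact cjf h (h.CZ_fix (hO (inv_mem hk.1))) (inv_mem (hk.2 v hv))⟩

theorem exists_V (h : KE E p) {O : Subgroup G} (hO : OT E a O) :
    ∃ V ≤ O, ¬ V ≤ Z E a ∧ NA a V ∧ ⁅V, V⁆ ≤ Z E a := by
  have h0 : ¬ O ≤ Z E a := fun hle => by
    obtain ⟨b, hb⟩ := exists_ne h a
    obtain ⟨c, hc⟩ := h.hl_ne hb.symm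
    obtain ⟨x, hx, e⟩ := hO.tr b c hb (fun e => hc (Or.inl e))
    exact hc (.inr ⟨x, hle hx, e⟩)
  obtain ⟨V, -, hV⟩ := Finite.exists_le_minimal
    (p := fun V : Subgroup G => V ≤ O ∧ ¬ V ≤ Z E a ∧ NA a V) (a := O) ⟨le_rfl, h0, hO.norm⟩
  obtain ⟨h1, h2, h3⟩ := hV.prop
  have : Group.IsSolvable V := S0205.result (hO.odd.of_dvd_nat (card_dvd_of_le h1))
  have h4 := GT.commutator_lt_of_isSolvable (N := V) fun e => h2 (e ▸ bot_le)
  refine ⟨V, h1, h2, h3, ?_⟩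
  by_contra h5
  exact h4.not_ge (hV.le_of_le ⟨h4.le.trans h1, h5, h3.comm⟩ h4.le)

theorem P_mem_ln (hu : u ∈ Z E a) : u • c ∈ hl E a c := .inr ⟨u, hu, rfl⟩

theorem exists_P (hc : c ≠ a) (hl : c ∈ hl E a b) : ∃ u ∈ Z E a, u • b = c := hl.resolve_left hc

theorem smul_ne (hg : g • a = a) (hc : c ≠ a) : g • c ≠ a := fun e =>
  hc (MulAction.injective g (e.trans hg.symm))

section
variable (h : KE E p)
include h

theorem dec (hb : b ≠ a) (ht : t ∈ KK E a b) (h2 : orderOf t = 2) (hk : k ∈ CZ E a)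
    (hc : ⁅t, k⁆ ∈ Z E a) : ∃ u ∈ Z E a, u⁻¹ * k ∈ KK E a b := by
  have h1 : k • b ≠ a := smul_ne (h.CZ_fix hk) hb
  have h3 : t • k • b = ⁅t, k⁆ • k • b := by
    have e : t * k = ⁅t, k⁆ * k * t := by simp only [commutatorElement_def]; group
    rw [← mul_smul, e, mul_smul, mul_smul, mem_stabilizer_iff.1 ht.2]
  obtain ⟨u, hu, e⟩ := exists_P h1 (h.inv_line hb.symm ht h2 h1 (h3 ▸ P_mem_ln hc))
  exact ⟨u, hu, (CZ E a).mul_mem ((CZ E a).inv_mem (h.Z_le_CZ a hu)) hk, by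
    show (u⁻¹ * k) • b = b
    rw [mul_smul, ← e, inv_smul_smul]⟩

variable {O V : Subgroup G} (hO : OT E a O) (h1 : V ≤ O) (h2 : ¬ V ≤ Z E a) (h3 : NA a V)
  (h4 : ⁅V, V⁆ ≤ Z E a)
include hO h1 h2 h3

theorem moves (hb : b ≠ a) : ∃ v ∈ V, v • b ∉ hl E a b := by
  by_contra hn
  push Not at hn
  refine h2 fun v hv => h.faithful (hO.le (h1 hv)) fun c hc => ?_
  obtain ⟨o, ho, rfl⟩ := hO.tr b c hb hc
  have oa := h.CZ_fix (hO.le ho)
  have := Set.mem_image_of_mem (o • ·) (hn _ (h3 o⁻¹ (inv_fix oa) v hv))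
  rwa [h.smul_hl, oa, ← mul_smul, show o * (o⁻¹ * v * o⁻¹⁻¹) = v * o by group, mul_smul] at this

theorem cent (hb : b ≠ a) (hk : k ∈ KK E a b) (hc : ∀ v ∈ V, v * k = k * v) : k = 1 := by
  obtain ⟨v, hv, hn⟩ := moves h hO h1 h2 h3 hb
  refine h.principle (W := CZ E a ⊓ centralizer (V : Set G)) inf_le_left (fun g hg x hx => ⟨?_, fun y hy => ?_⟩)
    hb.symm hn (fun x hx e => ?_) k ⟨hk.1, hc⟩ hk.2
  · have := (h.CZ_conj g).2 hx.1
    rwa [hg] at this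
  · have := hx.2 _ (h3 g⁻¹ (inv_fix hg) y hy)
    calc y * (g * x * g⁻¹) = g * (g⁻¹ * y * g⁻¹⁻¹ * x) * g⁻¹ := by group
      _ = g * x * g⁻¹ * y := by rw [this]; group
  · rw [← mul_smul, ← hx.2 v hv, mul_smul, e]

include h4

theorem fpf (ht : t ∈ CZ E a) (t2 : orderOf t = 2) (hk : k ∈ KV h hO.le V) (hc : t * k * t⁻¹ = k) :
    k ∈ Z E a := by
  obtain ⟨b, hb, ht'⟩ := h.inv_mem ht t2
  have tt := sq_one t2
  have ta := h.CZ_fix ht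
  obtain ⟨u, hu, hk'⟩ := dec h hb ht' t2 (hO.le hk.1)
    (by rw [commutatorElement_def, hc, mul_inv_cancel]; exact one_mem _)
  have hl : u⁻¹ * k ∈ KV h hO.le V := mul_mem (inv_mem ⟨hO.ge hu, fun v hv => by
    rw [commutatorElement_def, mul_assoc, mul_assoc, ← mul_assoc v, cen (inv_mem hu) (hO.le (h1 hv))]
    simp⟩) hk
  have tl : t * (u⁻¹ * k) * t⁻¹ = u⁻¹ * k := by
    rw [show t * (u⁻¹ * k) * t⁻¹ = (t * u⁻¹ * t⁻¹) * (t * k * t⁻¹) by group, hc, cen (inv_mem hu) ht]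
  obtain ⟨l, el⟩ : ∃ l, l = u⁻¹ * k := ⟨_, rfl⟩
  rw [← el] at hl tl hk'
  have key : l = 1 := cent h hO h1 h2 h3 hb hk' fun v hv => by
    have hv' := h3 t ta v hv
    have c1 : ⁅t, v * (t * v * t⁻¹)⁆ ∈ Z E a := by
      have e : ⁅t, v * (t * v * t⁻¹)⁆ = t * v * (t * t)⁻¹ * t * (t * t) * v * (t * t)⁻¹ *
          (t * v⁻¹ * t⁻¹) * v⁻¹ := by simp only [commutatorElement_def]; group
      rw [e, tt]
      have := h4 (commutator_mem_commutator hv' hv)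
      simpa [commutatorElement_def, mul_assoc, inv_eq_of_mul_eq_one_right tt] using this
    obtain ⟨u', hu', hx⟩ := dec h hb ht' t2 (hO.le (h1 (mul_mem hv hv'))) c1
    have c2 : ⁅l, v * (t * v * t⁻¹)⁆ = ⁅l, u'⁻¹ * (v * (t * v * t⁻¹))⁆ := by
      have e : ⁅l, u'⁻¹ * (v * (t * v * t⁻¹))⁆ =
          (l * u'⁻¹ * l⁻¹) * ⁅l, v * (t * v * t⁻¹)⁆ * u' := by simp only [commutatorElement_def]; group
      rw [e, cen (inv_mem hu') hk'.1, mul_assoc u'⁻¹, ← (zcomm h hu' (hl.2 _ (mul_mem hv hv'))).eq,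
        inv_mul_cancel_left]
    have c3 : ⁅l, v * (t * v * t⁻¹)⁆ = 1 := by
      refine h.semi (hl.2 _ (mul_mem hv hv')) hb ?_
      rw [c2]
      exact (KK E a b).mul_mem (mul_mem (mul_mem hk' hx) (inv_mem hk')) (inv_mem hx) |>.2
    have c4 : ⁅l, t * v * t⁻¹⁆ = ⁅l, v⁆ := by
      conv_lhs => rw [← tl]
      rw [← cen (hl.2 v hv) ht]
      simp only [commutatorElement_def]; group
    have c5 : ⁅l, v⁆ * ⁅l, v⁆ = 1 := by
      have e : ⁅l, v * (t * v * t⁻¹)⁆ = ⁅l, v⁆ * (v * ⁅l, t * v * t⁻¹⁆ * v⁻¹) := by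
        simp only [commutatorElement_def]; group
      rw [← c3, e, c4, cen (hl.2 v hv) (hO.le (h1 hv))]
    have c6 : ⁅l, v⁆ = 1 := by
      obtain ⟨j, ej⟩ := exists_sqrt (hO.odd.of_dvd_nat (O.orderOf_dvd_natCard (hO.ge (hl.2 v hv))))
      rwa [← (Commute.refl _).mul_pow, c5, one_pow, one_mul] at ej
    exact (commutatorElement_eq_one_iff_mul_comm.1 c6).symm
  rw [key] at el
  rw [eq_of_inv_mul_eq_one el.symm] at hu
  exact hu

omit h4 in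
theorem KV_norm : NA a (KV h hO.le V) := fun g hg x hx => ⟨hO.norm g hg x hx.1, fun v hv => by
  have e : ⁅g * x * g⁻¹, v⁆ = g * ⁅x, g⁻¹ * v * g⁻¹⁻¹⁆ * g⁻¹ := by
    simp only [commutatorElement_def]; group
  rw [e]
  exact cjf h hg (hx.2 _ (h3 g⁻¹ (inv_fix hg) v hv))⟩

omit h4 in
theorem P_le_KV : Z E a ≤ KV h hO.le V := fun u hu => ⟨hO.ge hu, fun v hv => by
  rw [commutatorElement_def, mul_assoc, mul_assoc, ← mul_assoc v, cen (inv_mem hu) (hO.le (h1 hv))]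
  simp⟩

theorem inverts (ht : t ∈ CZ E a) (t2 : orderOf t = 2) (hk : k ∈ KV h hO.le V) :
    t * k * t⁻¹ * k ∈ Z E a := by
  have tt := sq_one t2
  have ti := inv_eq_of_mul_eq_one_right tt
  have hy : t * k * t⁻¹ * k⁻¹ ∈ KV h hO.le V :=
    mul_mem (KV_norm h hO h1 h2 h3 t (h.CZ_fix ht) k hk) (inv_mem hk)
  obtain ⟨y, ey⟩ : ∃ y, y = t * k * t⁻¹ * k⁻¹ := ⟨_, rfl⟩
  rw [← ey] at hy
  obtain ⟨j, ej⟩ := exists_sqrt (hO.odd.of_dvd_nat (O.orderOf_dvd_natCard hy.1))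
  have e1 : t * y * t⁻¹ = y⁻¹ := by
    rw [ey, show t * (t * k * t⁻¹ * k⁻¹) * t⁻¹ = (t * t) * k * t⁻¹ * k⁻¹ * t⁻¹ by group, tt, ti]
    simp [mul_assoc, ti]
  have e2 : t * y ^ j * t⁻¹ = (y ^ j)⁻¹ := by rw [← conj_pow, e1, inv_pow]
  have e3 : t * k * t⁻¹ = y * k := by rw [ey]; group
  have e4 : (y ^ j)⁻¹ = y ^ j * y := by rw [inv_eq_iff_mul_eq_one, ← mul_assoc, ej]
  have hs : (y ^ j)⁻¹ ∈ KV h hO.le V := inv_mem (pow_mem hy j)
  have hc := fpf h hO h1 h2 h3 h4 ht t2 (mul_mem hs hk) (by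
    rw [show t * ((y ^ j)⁻¹ * k) * t⁻¹ = (t * y ^ j * t⁻¹)⁻¹ * (t * k * t⁻¹) by group, e2, e3, inv_inv,
      ← mul_assoc, ← e4])
  have e5 : t * k * t⁻¹ * k = (y ^ j)⁻¹ * ((y ^ j)⁻¹ * k) * (y ^ j)⁻¹⁻¹ * ((y ^ j)⁻¹ * k) := by
    have e6 : (y ^ j)⁻¹ * (y ^ j)⁻¹ = y := by
      rw [← mul_inv_rev, inv_eq_iff_mul_eq_one, ej]
    rw [e3, ← mul_assoc (y ^ j)⁻¹, e6]; group
  rw [e5]
  exact mul_mem (cjf h (h.CZ_fix (hO.le hs.1)) hc) hc

theorem KV_comm {l : G} (hk : k ∈ KV h hO.le V) (hl : l ∈ KV h hO.le V) : ⁅k, l⁆ ∈ Z E a := by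
  obtain ⟨b, hb⟩ := exists_ne h a
  obtain ⟨t, ht, t2⟩ := h.exists_inv hb.symm
  have i1 := inverts h hO h1 h2 h3 h4 ht.1 t2 (inv_mem hk)
  have i2 := inverts h hO h1 h2 h3 h4 ht.1 t2 (inv_mem hl)
  have i3 := inverts h hO h1 h2 h3 h4 ht.1 t2 (mul_mem (inv_mem hk) (inv_mem hl))
  have e : ⁅k, l⁆ = (k * (t * l⁻¹ * t⁻¹ * l⁻¹)⁻¹ * k⁻¹) * (t * k⁻¹ * t⁻¹ * k⁻¹)⁻¹ *
      (t * (k⁻¹ * l⁻¹) * t⁻¹ * (k⁻¹ * l⁻¹)) := by
    have e1 := cen i2 (hO.le hk.1)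
    have e2 := (zcomm h i1 i2).eq
    rw [← conj_inv, e1, ← mul_inv_rev]
    obtain ⟨A, eA⟩ : ∃ A, A = t * k⁻¹ * t⁻¹ * k⁻¹ := ⟨_, rfl⟩
    obtain ⟨B, eB⟩ : ∃ B, B = t * l⁻¹ * t⁻¹ * l⁻¹ := ⟨_, rfl⟩
    have e3 : t * (k⁻¹ * l⁻¹) * t⁻¹ * (k⁻¹ * l⁻¹) = A * (k * B * k⁻¹) * ⁅k, l⁆ := by
      rw [eA, eB]; simp only [commutatorElement_def]; group
    rw [e3, ← eA, ← eB, eB, e1, ← eB, inv_mul_cancel_left]
  rw [e]
  exact mul_mem (mul_mem (cjf h (h.CZ_fix (hO.le hk.1)) (inv_mem i2)) (inv_mem i1)) i3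

theorem KV_tr (hc : c ≠ a) (hd : d ≠ a) : ∃ x ∈ KV h hO.le V, x • c = d := by
  obtain ⟨o, ho, rfl⟩ := hO.tr c d hc hd
  obtain ⟨t, ht, t2⟩ := h.exists_inv hc.symm
  have oa := h.CZ_fix (hO.le ho)
  have tt := sq_one t2
  have ti := inv_eq_of_mul_eq_one_right tt
  have ht' : o * t * o⁻¹ ∈ KK E a (o • c) := by
    have := (h.CZ_conj o).2 ht.1
    rw [oa] at this
    refine ⟨this, mem_stabilizer_iff.2 ?_⟩
    rw [mul_smul, inv_smul_smul, mul_smul, mem_stabilizer_iff.1 ht.2]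
  have t2' : orderOf (o * t * o⁻¹) = 2 :=
    (orderOf_injective (MulAut.conj o).toMonoidHom (MulAut.conj o).injective t).trans t2
  have hV : V ≤ KV h hO.le V := fun v hv => ⟨h1 hv, fun w hw => h4 (commutator_mem_commutator hv hw)⟩
  have yO : t * (o * t * o⁻¹) ∈ O := by
    rw [show t * (o * t * o⁻¹) = t * o * t * o⁻¹ by group]
    have := hO.norm t (h.CZ_fix ht.1) o ho
    rw [ti] at this
    exact mul_mem this (inv_mem ho)
  obtain ⟨s, es⟩ : ∃ s, s = o * t * o⁻¹ := ⟨_, rfl⟩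
  rw [← es] at ht' t2' yO
  have hy : t * s ∈ KV h hO.le V := ⟨yO, fun v hv => by
    have i1 := inverts h hO h1 h2 h3 h4 ht.1 t2 (hV hv)
    have i2 := inverts h hO h1 h2 h3 h4 ht'.1 t2' (hV hv)
    have e : ⁅t * s, v⁆ = (t * (s * v * s⁻¹ * v) * t⁻¹) * (v * (t * v * t⁻¹ * v)⁻¹ * v⁻¹) := by
      simp only [commutatorElement_def]; group
    rw [e]
    exact mul_mem (cjf h (h.CZ_fix ht.1) i2)
      (cjf h (h.CZ_fix (hO.le (h1 hv))) (inv_mem i1))⟩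
  obtain ⟨j, ej⟩ := exists_sqrt (hO.odd.of_dvd_nat (O.orderOf_dvd_natCard yO))
  have ss := sq_one t2'
  have e1 : t * (t * s) * t⁻¹ = (t * s)⁻¹ := by
    rw [← mul_assoc, tt, one_mul, mul_inv_rev, inv_eq_of_mul_eq_one_right ss]
  have e2 : t * (t * s) ^ j * t⁻¹ = ((t * s) ^ j)⁻¹ := by rw [← conj_pow, e1, inv_pow]
  have e3 : s * (t * s) ^ j = (t * s) ^ j * t := by
    have e4 : ((t * s) ^ j)⁻¹ = (t * s) * (t * s) ^ j := by
      rw [inv_eq_iff_mul_eq_one, (Commute.self_pow (t * s) j).eq, ← mul_assoc, ej]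
    have e5 : t * ((t * s) ^ j)⁻¹ * t⁻¹ = (t * s) ^ j := by rw [← conj_inv, e2, inv_inv]
    calc s * (t * s) ^ j = t * ((t * s) * (t * s) ^ j) := by
          rw [← mul_assoc, ← mul_assoc, tt, one_mul]
      _ = (t * s) ^ j * t := by rw [← e4, ← inv_mul_cancel_right (t * ((t * s) ^ j)⁻¹) t, e5]
  have hz := pow_mem hy j
  have h5 : (t * s) ^ j • c ∈ hl E a (o • c) := by
    rw [← h.ifx a _ hd.symm s ht' t2', mem_fixedBy, ← mul_smul, e3, mul_smul, mem_stabilizer_iff.1 ht.2]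
  obtain ⟨u, hu, e⟩ := exists_P (smul_ne (h.CZ_fix (hO.le hz.1)) hc) h5
  exact ⟨u⁻¹ * (t * s) ^ j, mul_mem (inv_mem (P_le_KV h hO h1 h2 h3 hu)) hz, by
    rw [mul_smul, ← e, inv_smul_smul]⟩

end

end KE3

end

variable {G : Type u} {Ω : Type v} [Group G] [MulAction G Ω] [Finite G] [Finite Ω]
  {E : Ω → Set G} {p : ℕ} {x y x' y' c : Ω} {a b a' b' d g : G}

open KE3 in
theorem KE.nt (h : KE E p) {O : Subgroup G} (hO : OT E x O) : ∃ U : Subgroup G, NT x U := by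
  obtain ⟨V, h1, h2, h3, h4⟩ := exists_V h hO
  have le : KV h hO.le V ≤ CZ E x := fun _ hx => hO.le hx.1
  refine ⟨KV h hO.le V, h.two, fun u hu => h.CZ_fix (le hu), KV_norm h hO h1 h2 h3, ?_,
    fun _ _ => KV_tr h hO h1 h2 h3 h4⟩
  refine Subgroup.isNilpotent_of_ker_le_center (Abelianization.of (G := KV h hO.le V)) ?_
  rw [Abelianization.ker_of]
  exact commutator_le.2 fun u _ v _ => mem_center_iff.2 fun z =>
    Subtype.ext (mem_centralizer_iff.1 (le z.2) _ (KV_comm h hO h1 h2 h3 h4 u.2 v.2)).symm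

end Cfsg.Agent.PT
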