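import Mathlib
import Cfsg.Agent.PT.Defs

set_option autoImplicit false
set_option linter.unusedSectionVars false

namespace Cfsg.Agent.PT

open Subgroup MulAction Cfsg.Agent.GT Cfsg.Agent.TT Cfsg.Agent.Perm.TT Cfsg.Agent.Perm.TwoCount
open Cfsg.Agent.KS (St NT)
open scoped MatrixGroups commutatorElement

universe u v

namespace TWa

theorem alt_zero {F Q : Type*} [Field F] [Group Q] (h2 : (2 : F) ≠ 0) (h3 : (3 : F) ≠ 0) (β : F → F → Q)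
    (hl : ∀ a a' b, β (a + a') b = β a b * β a' b) (hr : ∀ a b b', β a (b + b') = β a b * β a b')
    (h1 : β 1 1 = 1) (hs : ∀ l a b, l ≠ 0 → β (l ^ 2 * a) (l ^ 2 * b) = β a b) (a₀ b₀ : F) : β a₀ b₀ = 1 := by
  by_contra h0
  have k1 : ∀ l a b, l ≠ 0 → β (l ^ 2 * a) b = β a ((l ^ 2)⁻¹ * b) := fun l a b hl => by
    rw [← hs l a _ hl, mul_inv_cancel_left₀ (pow_ne_zero 2 hl)]
  have k2 : ∀ m : F, m ≠ 0 → m + 1 ≠ 0 → m - 1 ≠ 0 → (m ^ 2 + 1) * (m ^ 2 - m - 1) * (m ^ 2 + m - 1) = 0 := by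
    intro m m0 m1 m2
    have e : ((m + 1) ^ 2)⁻¹ + ((m - 1) ^ 2)⁻¹ - ((m ^ 2)⁻¹ + (m ^ 2)⁻¹ + 1 + 1) = 0 := by
      by_contra hc
      obtain ⟨b, rfl⟩ : ∃ b, b₀ = (((m + 1) ^ 2)⁻¹ + ((m - 1) ^ 2)⁻¹ - ((m ^ 2)⁻¹ + (m ^ 2)⁻¹ + 1 + 1)) * b :=
        ⟨_, (mul_inv_cancel_left₀ hc b₀).symm⟩
      have e1 : β ((m + 1) ^ 2 * a₀ + (m - 1) ^ 2 * a₀) b = β (m ^ 2 * a₀ + m ^ 2 * a₀ + a₀ + a₀) b := by
        congr 1; ring
      rw [hl, hl, hl, hl, k1 _ _ _ m1, k1 _ _ _ m2, k1 _ _ _ m0, ← hr, ← hr, ← hr, ← hr] at e1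
      refine h0 (mul_eq_right.1 ((hr _ _ _).symm.trans (Eq.trans ?_ e1)))
      congr 1; ring
    have e2 : (2 : F) * ((m ^ 2 + 1) * (m ^ 2 - m - 1) * (m ^ 2 + m - 1)) = 0 := by
      field_simp at e
      linear_combination -e
    exact (mul_eq_zero.1 e2).resolve_left h2
  have h5 : (5 : F) = 0 := by
    have := k2 2 h2 (by convert h3 using 1; norm_num) (by norm_num)
    exact pow_eq_zero_iff (n := 2) two_ne_zero |>.1 (by linear_combination this)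
  have k3 : ∀ m : F, ∃ n : ℕ, m = n := fun m => by
    by_cases m0 : m = 0
    · exact ⟨0, by simpa using m0⟩
    by_cases m1 : m + 1 = 0
    · exact ⟨4, by push_cast; linear_combination m1 - h5⟩
    by_cases m2 : m - 1 = 0
    · exact ⟨1, by push_cast; linear_combination m2⟩
    have e : ((m - 2) * (m + 2)) ^ 3 = 0 := by
      linear_combination k2 m m0 m1 m2 + (-2 * m ^ 4 + 10 * m ^ 2 - 13) * h5
    rcases mul_eq_zero.1 (pow_eq_zero_iff (by norm_num) |>.1 e) with e | e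
    · exact ⟨2, by push_cast; linear_combination e⟩
    · exact ⟨3, by push_cast; linear_combination e - h5⟩
  obtain ⟨n, rfl⟩ := k3 a₀
  obtain ⟨n', rfl⟩ := k3 b₀
  have k4 : β 1 n' = 1 := by
    clear h0
    induction n' with
    | zero => simpa using hr 1 0 0
    | succ n' ih => rw [Nat.cast_succ, hr, ih, h1, mul_one]
  refine h0 ?_
  clear h0
  induction n with
  | zero => simpa using hl 0 0 n'
  | succ n ih => rw [Nat.cast_succ, hl, ih, k4, mul_one]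

theorem comm_zpow {Q : Type*} [Group Q] {a b : Q} (h : Commute a ⁅a, b⁆) (k : ℤ) : ⁅a ^ k, b⁆ = ⁅a, b⁆ ^ k := by
  have e : ⁅a, b⁆ = a * (b * a⁻¹ * b⁻¹) := by rw [commutatorElement_def]; group
  have c : Commute a (b * a⁻¹ * b⁻¹) := by
    rw [e] at h
    simpa using (Commute.refl a).inv_right.mul_right h
  rw [e, c.mul_zpow, conj_zpow, commutatorElement_def]; group

theorem comm_zpow' {Q : Type*} [Group Q] {a b : Q} (h : Commute b ⁅a, b⁆) (k : ℤ) : ⁅a, b ^ k⁆ = ⁅a, b⁆ ^ k := by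
  rw [← commutatorElement_inv, comm_zpow (by rw [← commutatorElement_inv]; exact h.inv_right), ← inv_zpow,
    commutatorElement_inv]

theorem bez {Q : Type*} [Group Q] {p : ℕ} (hp : p.Prime) {k : ℤ} (hk : ¬ k ≡ 1 [ZMOD p]) {N : Subgroup Q} {g : Q}
    (h1 : g ^ p ∈ N) (h2 : g ^ (k - 1) ∈ N) : g ∈ N := by
  obtain ⟨u, v, e⟩ := (Nat.prime_iff_prime_int.1 hp).irreducible.coprime_iff_not_dvd.2
    fun h => hk (Int.modEq_iff_dvd.2 h).symm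
  have := mul_mem (zpow_mem h1 u) (zpow_mem h2 v)
  rwa [← zpow_natCast, ← zpow_mul, ← zpow_mul, ← zpow_add, mul_comm _ u, mul_comm _ v, e, zpow_one] at this

theorem bez1 {Q : Type*} [Group Q] {p : ℕ} (hp : p.Prime) {k : ℤ} (hk : ¬ k ≡ 1 [ZMOD p]) {g : Q}
    (h1 : g ^ p = 1) (h2 : g ^ k = g) : g = 1 :=
  bez hp hk (N := ⊥) h1 (by rw [zpow_sub_one, h2, mul_inv_cancel]; exact one_mem _)

variable {B : Type u} [Group B] [Finite B] {p r : ℕ} {C Z K : Subgroup B} {F : Type}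
  [Field F] {φ : F → B} {τ : Fˣ → B} {t x y g g' a a' : B} {k : ℤ} [Z.Normal]

theorem com_iff : Commute (g : B ⧸ Z) (y : B ⧸ Z) ↔ ⁅g, y⁆ ∈ Z := by
  rw [← commutatorElement_eq_one_iff_commute, ← QuotientGroup.eq_one_iff]; rfl

variable (C Z) in
/-- The elements of `C` centralizing `y` modulo `Z`. -/
def RR (y : B) : Subgroup B := C ⊓ (centralizer {(y : B ⧸ Z)}).comap (QuotientGroup.mk' Z)

theorem mem_RR' : g ∈ RR C Z y ↔ g ∈ C ∧ Commute (g : B ⧸ Z) (y : B ⧸ Z) :=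
  and_congr_right fun _ => mem_centralizer_singleton_iff

theorem mem_RR : g ∈ RR C Z y ↔ g ∈ C ∧ ⁅g, y⁆ ∈ Z := by rw [mem_RR', com_iff]

variable (C Z K) in
/-- `y` is conjugate to `y z` for some `z ≠ 1`. -/
def Hy (y : B) : Prop := y ∈ K ∧ ∃ g ∈ RR C Z y, ⁅g, y⁆ ≠ 1

theorem Hy.ne (h : Hy C Z K y) : y ≠ 1 := by
  rintro rfl
  obtain ⟨-, g, -, e⟩ := h
  exact e (by simp)

variable (h : TW p C Z K φ τ t k r)
include h

theorem phi0 : φ 0 = 1 := by simpa using h.add 0 0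

theorem Zp {z : B} (hz : z ∈ Z) : z ^ p = 1 := by
  obtain ⟨s, rfl⟩ := (h.mem z).1 hz
  have := h.char
  have key : ∀ n : ℕ, φ s ^ n = φ (n * s) := fun n => by
    induction n with
    | zero => simpa using (phi0 h).symm
    | succ n ih => rw [pow_succ, ih, ← h.add, Nat.cast_succ, add_one_mul]
  rw [key, CharP.cast_eq_zero, zero_mul, phi0 h]

theorem cjZ {z : B} (hg : g ∈ C) (hz : z ∈ Z) : g * z * g⁻¹ = z := mul_inv_eq_iff_eq_mul.2 (h.cen g hg z hz).eq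

theorem comm_Z {z : B} (hy : y ∈ C) (hz : z ∈ Z) : ⁅g * z, y⁆ = ⁅g, y⁆ := by
  rw [commutatorElement_def, commutatorElement_def, mul_assoc g, ← (h.cen y hy z hz).eq]; group

theorem notL (hy : y ∈ K) (hg : g ∈ K ⊔ Z) (h1 : ⁅g, y⁆ ∈ Z) : ⁅g, y⁆ = 1 := by
  obtain ⟨a, ha, z, hz, rfl⟩ := mem_sup_of_normal_right.1 hg
  rw [comm_Z h (h.KC hy) hz] at h1 ⊢
  exact h.disj _ h1 (mul_mem (mul_mem (mul_mem ha hy) (inv_mem ha)) (inv_mem hy))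

theorem hy_of {c : B} (hy : y ∈ K) (y1 : y ≠ 1) (hc : c ∈ C) (h1 : c⁻¹ * y * c ∈ K ⊔ Z) (h2 : c ∉ K ⊔ Z) :
    Hy C Z K y := by
  obtain ⟨a, ha, z, hz, e⟩ := mem_sup_of_normal_right.1 h1
  have z1 : z ≠ 1 := by
    rintro rfl
    exact h2 (inv_mem_iff.1 (h.ti _ (inv_mem hc) y hy y1 (by rw [inv_inv, ← e, mul_one]; exact ha)))
  have hz' := zpow_mem hz (k - 1)
  have e1 : ⁅c * (t * c⁻¹ * t⁻¹), y⁆ = z ^ (k - 1) := by
    calc _ = c * (t * (c⁻¹ * (t⁻¹ * y * t) * c) * t⁻¹) * c⁻¹ * y⁻¹ := by rw [commutatorElement_def]; group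
      _ = c * (t * a * t⁻¹ * (t * z * t⁻¹)) * c⁻¹ * y⁻¹ := by
        rw [(h.tK y hy).inv_left.eq, inv_mul_cancel_right, ← e]; group
      _ = c * (a * z) * c⁻¹ * (c * z ^ (k - 1) * c⁻¹) * y⁻¹ := by
        rw [h.tZ z hz, (h.tK a ha).eq, mul_inv_cancel_right]; group
      _ = y * z ^ (k - 1) * y⁻¹ := by rw [cjZ h hc hz', e]; group
      _ = _ := cjZ h (h.KC hy) hz'
  refine ⟨hy, _, mem_RR.2 ⟨mul_mem hc (h.nC.conj_mem _ (inv_mem hc) t), e1 ▸ hz'⟩, fun e2 => z1 ?_⟩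
  exact bez h.prime h.k1 (N := ⊥) (Zp h hz) (e1.symm.trans e2)

theorem psi_mul (hg : g ∈ C) (hg' : g' ∈ RR C Z y) : ⁅g * g', y⁆ = ⁅g', y⁆ * ⁅g, y⁆ := by
  conv_rhs => rw [← cjZ h hg (mem_RR.1 hg').2]
  simp only [commutatorElement_def]; group

theorem psi_zpow (hg : g ∈ RR C Z y) (n : ℤ) : ⁅g ^ n, y⁆ = ⁅g, y⁆ ^ n :=
  comm_zpow (h.cen g hg.1 _ (mem_RR.1 hg).2) n

theorem cj_RR {u : B} (hu : Commute u y) (hg : g ∈ RR C Z y) :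
    u * g * u⁻¹ ∈ RR C Z y ∧ ⁅u * g * u⁻¹, y⁆ = u * ⁅g, y⁆ * u⁻¹ := by
  have e : ⁅u * g * u⁻¹, y⁆ = u * ⁅g, y⁆ * u⁻¹ := by
    rw [conjugate_commutatorElement, hu.eq, mul_inv_cancel_right]
  exact ⟨mem_RR.2 ⟨h.nC.conj_mem _ hg.1 u, e ▸ h.nZ.conj_mem _ (mem_RR.1 hg).2 u⟩, e⟩

theorem two_three : (2 : F) ≠ 0 ∧ (3 : F) ≠ 0 := by
  have := h.char
  have := h.five
  exact ⟨fun e => absurd (Nat.le_of_dvd (by decide) ((CharP.cast_eq_zero_iff F p 2).1 (by exact_mod_cast e))) (by omega),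
    fun e => absurd (Nat.le_of_dvd (by decide) ((CharP.cast_eq_zero_iff F p 3).1 (by exact_mod_cast e))) (by omega)⟩

theorem onto (hy : Hy C Z K y) (s : F) : ∃ g ∈ RR C Z y, ⁅g, y⁆ = φ s := by
  obtain ⟨hK, g, hg, g1⟩ := hy
  obtain ⟨s₀, e⟩ := (h.mem _).1 (mem_RR.1 hg).2
  have s0 : s₀ ≠ 0 := by rintro rfl; exact g1 (e.trans (phi0 h))
  have key : ∀ l : F, ∃ g ∈ RR C Z y, ⁅g, y⁆ = φ (l ^ 2 * s₀) := fun l => by
    by_cases hl : l = 0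
    · exact ⟨1, one_mem _, by simp [hl, phi0 h]⟩
    · have := cj_RR h (h.τK (Units.mk0 l hl) y hK) hg
      exact ⟨_, this.1, by rw [this.2, e, h.τZ]; rfl⟩
  obtain ⟨g₁, h₁, e₁⟩ := key ((s / s₀ + 1) / 2)
  obtain ⟨g₂, h₂, e₂⟩ := key ((s / s₀ - 1) / 2)
  refine ⟨g₂ ^ (-1 : ℤ) * g₁, mul_mem (zpow_mem h₂ _) h₁, ?_⟩
  rw [psi_mul h (zpow_mem h₂ _).1 h₁, psi_zpow h h₂, e₁, e₂, zpow_neg_one, mul_inv_eq_iff_eq_mul, ← h.add]
  congr 1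
  have := (two_three h).1
  field_simp
  ring

theorem ker (hy : y ∈ K) (y1 : y ≠ 1) (hg : g ∈ C) (hc : Commute g y) :
    ∃ a ∈ K, Commute a y ∧ ∃ z ∈ Z, g = a * z := by
  obtain ⟨a, ha, z, hz, rfl⟩ := mem_sup_of_normal_right.1 (h.ti g hg y hy y1 (by rwa [hc.eq, mul_inv_cancel_right]))
  refine ⟨a, ha, ?_, z, hz, rfl⟩
  rwa [← commutatorElement_eq_one_iff_commute, ← comm_Z h (h.KC hy) hz, commutatorElement_eq_one_iff_commute]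

theorem ker' (hy : y ∈ K) (y1 : y ≠ 1) (hg : g ∈ RR C Z y) (hg' : g' ∈ RR C Z y) (e : ⁅g, y⁆ = ⁅g', y⁆) :
    ∃ a ∈ K, Commute a y ∧ (g' : B ⧸ Z) = g * a := by
  obtain ⟨a, ha, hc, z, hz, e1⟩ := ker h hy y1 (mul_mem (zpow_mem hg (-1)) hg').1 (by
    rw [← commutatorElement_eq_one_iff_commute, psi_mul h (zpow_mem hg _).1 hg', psi_zpow h hg, e, zpow_neg_one,
      mul_inv_cancel])
  refine ⟨a, ha, hc, ?_⟩
  rw [zpow_neg_one, inv_mul_eq_iff_eq_mul] at e1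
  rw [e1, QuotientGroup.mk_mul, QuotientGroup.mk_mul, (QuotientGroup.eq_one_iff z).2 hz, mul_one]

theorem cnj (hy : y ∈ K) (y1 : y ≠ 1) (hg : g ∈ RR C Z y) (ha : a ∈ K) (hc : Commute a y) :
    ∃ a' ∈ K, Commute a' y ∧ ∃ z ∈ Z, g * a * g⁻¹ = a' * z := by
  refine ker h hy y1 (h.nC.conj_mem _ (h.KC ha) g) ?_
  have h1 : Commute a (⁅g⁻¹, y⁆ * y) := (h.cen a (h.KC ha) _ (mem_RR.1 (inv_mem hg)).2).mul_right hc
  simpa [commutatorElement_def, mul_assoc] using h1.conj g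

theorem Pc (hy : Hy C Z K y) (ha : a ∈ K) (hc : Commute a y) (ha' : a' ∈ K) (hc' : Commute a' y) :
    Commute a a' ∧ a ^ p = 1 := by
  obtain ⟨hK, g, hg, g1⟩ := id hy
  have hL : g ∉ K ⊔ Z := fun e => g1 (notL h hK e (mem_RR.1 hg).2)
  obtain ⟨b, hb, -, z, hz, e⟩ := cnj h hK hy.ne hg ha hc
  obtain ⟨b', hb', -, z', hz', e'⟩ := cnj h hK hy.ne hg ha' hc'
  constructor
  · rw [← commutatorElement_eq_one_iff_commute]
    by_contra h1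
    refine hL (h.ti g hg.1 _ (mul_mem (mul_mem (mul_mem ha ha') (inv_mem ha)) (inv_mem ha')) h1 ?_)
    rw [← commutatorElement_def, conjugate_commutatorElement, e, e',
      comm_Z h (mul_mem (h.KC hb') (h.ZC hz')) hz, ← commutatorElement_inv, comm_Z h (h.KC hb) hz']
    exact inv_mem (mul_mem (mul_mem (mul_mem hb' hb) (inv_mem hb')) (inv_mem hb))
  · by_contra h1
    refine hL (h.ti g hg.1 _ (pow_mem ha p) h1 ?_)
    rw [← conj_pow, e, (h.cen b (h.KC hb) z hz).mul_pow, Zp h hz, mul_one]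
    exact pow_mem hb p

theorem hy_P (hx : Hy C Z K x) (hy : y ∈ K) (y1 : y ≠ 1) (hc : Commute y x) : Hy C Z K y := by
  obtain ⟨hK, g, hg, g1⟩ := id hx
  obtain ⟨b, hb, -, z, hz, e⟩ := cnj h hK hx.ne (inv_mem hg) hy hc
  rw [inv_inv] at e
  exact hy_of h hy y1 hg.1 (e ▸ mul_mem_sup hb hz) fun e => g1 (notL h hK e (mem_RR.1 hg).2)

theorem tdec (hy : y ∈ K) (y1 : y ≠ 1) (hg : g ∈ RR C Z y) :
    ∃ a ∈ K, Commute a y ∧ ((t * g * t⁻¹ : B) : B ⧸ Z) = (g : B ⧸ Z) ^ k * a := by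
  have h1 := cj_RR h (h.tK y hy) hg
  exact ker' h hy y1 (zpow_mem hg k) h1.1 (by rw [h1.2, psi_zpow h hg, h.tZ _ (mem_RR.1 hg).2])

theorem pdec (hy : y ∈ K) (y1 : y ≠ 1) (hg : g ∈ RR C Z y) : ∃ a ∈ K, Commute a y ∧ (g : B ⧸ Z) ^ p = a := by
  obtain ⟨a, ha, hc, e⟩ := ker' h hy y1 (one_mem _) (pow_mem hg p) (by
    rw [← zpow_natCast, psi_zpow h hg, zpow_natCast, Zp h (mem_RR.1 hg).2, commutatorElement_one_left])
  exact ⟨a, ha, hc, by simpa using e⟩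

theorem RR_le (hx : Hy C Z K x) (hg : g ∈ RR C Z x) (hy : y ∈ K) (hc : Commute y x) : g ∈ RR C Z y := by
  have hP : ∀ a ∈ K, Commute a x → (a : B ⧸ Z) ∈ centralizer {(y : B ⧸ Z)} := fun a ha e =>
    mem_centralizer_singleton_iff.2 (congrArg (QuotientGroup.mk' Z) (Pc h hx ha e hy hc).1.eq)
  refine mem_RR'.2 ⟨hg.1, mem_centralizer_singleton_iff.1
    (bez h.prime h.k1 (N := centralizer {(y : B ⧸ Z)}) (g := (g : B ⧸ Z)) ?_ ?_)⟩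
  · obtain ⟨a, ha, e, e'⟩ := pdec h hx.1 hx.ne hg
    exact e' ▸ hP a ha e
  · obtain ⟨a, ha, e, e'⟩ := tdec h hx.1 hx.ne hg
    obtain ⟨b, hb, -, z, hz, e1⟩ := cnj h hx.1 hx.ne hg hy hc
    have e2 : (t * g * t⁻¹) * y * (t * g * t⁻¹)⁻¹ = g * y * g⁻¹ * z ^ (k - 1) := by
      calc _ = t * (g * (t⁻¹ * y * t) * g⁻¹) * t⁻¹ := by group
        _ = t * b * t⁻¹ * (t * z * t⁻¹) := by rw [(h.tK y hy).inv_left.eq, inv_mul_cancel_right, e1]; group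
        _ = _ := by rw [e1, h.tZ z hz, (h.tK b hb).eq]; group
    have e3 := congrArg (QuotientGroup.mk : B → B ⧸ Z) e2
    rw [QuotientGroup.mk_mul _ (g * y * g⁻¹), (QuotientGroup.eq_one_iff _).2 (zpow_mem hz _), mul_one,
      QuotientGroup.mk_mul, QuotientGroup.mk_mul _ _ y, QuotientGroup.mk_inv, e'] at e3
    have e4 : (g : B ⧸ Z) ^ (k - 1) * a ∈ centralizer {(y : B ⧸ Z)} := mem_centralizer_singleton_iff.2 (by
      calc _ = (g : B ⧸ Z)⁻¹ * (g ^ k * a * y * ((g : B ⧸ Z) ^ k * a)⁻¹) * (g ^ k * a) := by group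
        _ = _ := by rw [e3, QuotientGroup.mk_mul, QuotientGroup.mk_mul, QuotientGroup.mk_inv]; group)
    simpa using mul_mem e4 (inv_mem (hP a ha e))

theorem com_P (hx : Hy C Z K x) (hg : g ∈ RR C Z x) (hy : y ∈ K) (hc : Commute y x) :
    Commute (g : B ⧸ Z) (y : B ⧸ Z) := (mem_RR'.1 (RR_le h hx hg hy hc)).2

theorem cdec (hx : Hy C Z K x) (hg : g ∈ RR C Z x) (hg' : g' ∈ RR C Z x) :
    ∃ a ∈ K, Commute a x ∧ ⁅(g : B ⧸ Z), (g' : B ⧸ Z)⁆ = a := by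
  obtain ⟨a, ha, hc, e⟩ := ker' h hx.1 hx.ne (mul_mem hg' hg) (mul_mem hg hg') (by
    rw [psi_mul h hg.1 hg', psi_mul h hg'.1 hg]
    exact (h.cen _ (h.ZC (mem_RR.1 hg).2) _ (mem_RR.1 hg').2).eq)
  refine ⟨a, ha, hc, ?_⟩
  rw [QuotientGroup.mk_mul, QuotientGroup.mk_mul, ((com_P h hx hg' ha hc).mul_left (com_P h hx hg ha hc)).eq] at e
  rw [commutatorElement_def, e]; group

theorem abel (hx : Hy C Z K x) (hg : g ∈ RR C Z x) (hg' : g' ∈ RR C Z x) : Commute (g : B ⧸ Z) (g' : B ⧸ Z) := by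
  choose σ hσ eσ using onto h hx
  have k0 : ∀ u ∈ RR C Z x, ∀ v ∈ RR C Z x, ∀ w ∈ RR C Z x, Commute (w : B ⧸ Z) ⁅(u : B ⧸ Z), (v : B ⧸ Z)⁆ :=
    fun u hu v hv w hw => by
      obtain ⟨a, ha, hc, e⟩ := cdec h hx hu hv
      exact e ▸ com_P h hx hw ha hc
  have k1 : ∀ u ∈ RR C Z x, ∀ v ∈ RR C Z x, ∀ w ∈ RR C Z x,
      ⁅(u : B ⧸ Z) * v, (w : B ⧸ Z)⁆ = ⁅(v : B ⧸ Z), (w : B ⧸ Z)⁆ * ⁅(u : B ⧸ Z), (w : B ⧸ Z)⁆ := fun u hu v hv w hw => by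
    conv_rhs => rw [← mul_inv_eq_iff_eq_mul.2 (k0 v hv w hw u hu).eq]
    simp only [commutatorElement_def]; group
  have k2 : ∀ u ∈ RR C Z x, ∀ s, ⁅u, x⁆ = φ s → ∀ w ∈ RR C Z x,
      ⁅(u : B ⧸ Z), (w : B ⧸ Z)⁆ = ⁅(σ s : B ⧸ Z), (w : B ⧸ Z)⁆ := fun u hu s e w hw => by
    obtain ⟨a, ha, hc, e1⟩ := ker' h hx.1 hx.ne (hσ s) hu ((eσ s).trans e.symm)
    rw [e1, k1 _ (hσ s) a (mem_RR.2 ⟨h.KC ha, commutatorElement_eq_one_iff_commute.2 hc ▸ one_mem _⟩) w hw,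
      commutatorElement_eq_one_iff_commute.2 (com_P h hx hw ha hc).symm, one_mul]
  have k3 : ∀ u ∈ RR C Z x, ∀ s, ⁅u, x⁆ = φ s → ∀ w ∈ RR C Z x, ∀ s', ⁅w, x⁆ = φ s' →
      ⁅(u : B ⧸ Z), (w : B ⧸ Z)⁆ = ⁅(σ s : B ⧸ Z), (σ s' : B ⧸ Z)⁆ := fun u hu s e w hw s' e' => by
    rw [k2 u hu s e w hw, ← commutatorElement_inv, k2 w hw s' e' _ (hσ s), commutatorElement_inv]
  have k4 : ∀ s s', ⁅σ s' * σ s, x⁆ = φ (s + s') := fun s s' => by rw [psi_mul h (hσ _).1 (hσ _), eσ, eσ, h.add]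
  obtain ⟨s, e⟩ := (h.mem _).1 (mem_RR.1 hg).2
  obtain ⟨s', e'⟩ := (h.mem _).1 (mem_RR.1 hg').2
  rw [← commutatorElement_eq_one_iff_commute, k3 g hg s e g' hg' s' e']
  refine alt_zero (two_three h).1 (two_three h).2 (fun a b => ⁅(σ a : B ⧸ Z), (σ b : B ⧸ Z)⁆) (fun a a' b => ?_)
    (fun a b b' => ?_) (commutatorElement_self _) (fun l a b hl => ?_) s s'
  · rw [← k2 _ (mul_mem (hσ _) (hσ _)) _ (k4 a a') _ (hσ b), QuotientGroup.mk_mul, k1 _ (hσ _) _ (hσ _) _ (hσ _)]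
  · rw [← commutatorElement_inv, add_comm, ← k2 _ (mul_mem (hσ _) (hσ _)) _ (k4 b' b) _ (hσ a), QuotientGroup.mk_mul,
      k1 _ (hσ _) _ (hσ _) _ (hσ _), mul_inv_rev, commutatorElement_inv, commutatorElement_inv]
  · have c1 := fun a => cj_RR h (h.τK (Units.mk0 l hl) x hx.1) (hσ a)
    have c2 : ∀ a, ⁅τ (Units.mk0 l hl) * σ a * (τ (Units.mk0 l hl))⁻¹, x⁆ = φ (l ^ 2 * a) := fun a => by
      rw [(c1 a).2, eσ, h.τZ]; rfl
    obtain ⟨y, hy, -, e1⟩ := cdec h hx (hσ a) (hσ b)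
    rw [← k3 _ (c1 a).1 _ (c2 a) _ (c1 b).1 _ (c2 b)]
    simp only [QuotientGroup.mk_mul, QuotientGroup.mk_inv]
    rw [← conjugate_commutatorElement, e1, ← QuotientGroup.mk_mul, (h.τK _ y hy).eq, QuotientGroup.mk_mul,
      mul_inv_cancel_right]

theorem mk_t (hy : y ∈ K) : ((t * y * t⁻¹ : B) : B ⧸ Z) = y := by rw [(h.tK y hy).eq, mul_inv_cancel_right]

theorem Pp (hx : Hy C Z K x) (ha : a ∈ K) (hc : Commute a x) : (a : B ⧸ Z) ^ p = 1 := by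
  rw [← QuotientGroup.mk_pow, (Pc h hx ha hc ha hc).2, QuotientGroup.mk_one]

theorem Rp (hx : Hy C Z K x) (hg : g ∈ RR C Z x) : g ^ p ∈ Z := by
  obtain ⟨a, ha, hc, e⟩ := pdec h hx.1 hx.ne hg
  obtain ⟨b, hb, hc', e'⟩ := tdec h hx.1 hx.ne hg
  rw [← QuotientGroup.eq_one_iff, QuotientGroup.mk_pow, e]
  refine bez1 h.prime h.k1 (Pp h hx ha hc) ?_
  have e1 := congrArg (· ^ p) e'
  simp only [QuotientGroup.mk_mul, QuotientGroup.mk_inv, conj_pow] at e1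
  rw [((com_P h hx hg hb hc').zpow_left k).mul_pow, Pp h hx hb hc', mul_one, ← zpow_natCast ((g : B ⧸ Z) ^ k),
    ← zpow_mul, mul_comm, zpow_mul, zpow_natCast, e] at e1
  rw [← e1]
  exact mk_t h ha

/-- The elements on which `t` acts as the power `k` modulo `Z`. -/
def AA (hx : Hy C Z K x) : Subgroup B where
  carrier := {a | a ∈ RR C Z x ∧ ((t * a * t⁻¹ : B) : B ⧸ Z) = (a : B ⧸ Z) ^ k}
  one_mem' := ⟨one_mem _, by simp⟩
  mul_mem' := fun {a b} ha hb => ⟨mul_mem ha.1 hb.1, by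
    rw [QuotientGroup.mk_mul _ a, (abel h hx ha.1 hb.1).mul_zpow, ← ha.2, ← hb.2, ← QuotientGroup.mk_mul]
    congr 1; group⟩
  inv_mem' := fun {a} ha => ⟨inv_mem ha.1, by
    rw [QuotientGroup.mk_inv, inv_zpow, ← ha.2, ← QuotientGroup.mk_inv]
    congr 1; group⟩

theorem Adec (hx : Hy C Z K x) (hg : g ∈ RR C Z x) : ∃ y ∈ K, Commute y x ∧ ∃ a ∈ AA h hx, g = y * a := by
  obtain ⟨b, hb, hc, e⟩ := tdec h hx.1 hx.ne hg
  obtain ⟨u, v, e1⟩ := (Nat.prime_iff_prime_int.1 h.prime).irreducible.coprime_iff_not_dvd.2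
    fun e => h.k1 (Int.modEq_iff_dvd.2 e).symm
  have e2 : ((b : B ⧸ Z) ^ v) ^ k = (b : B ⧸ Z) ^ v * b := by
    rw [← zpow_mul, ← zpow_add_one, show v + 1 = p * u + v * k by linear_combination -e1, zpow_add, zpow_mul _ (p : ℤ),
      zpow_natCast, Pp h hx hb hc, one_zpow, one_mul]
  have hb' := zpow_mem hb v
  have c := com_P h hx hg hb hc
  refine ⟨(b ^ v)⁻¹, inv_mem hb', (hc.zpow_left v).inv_left, b ^ v * g, ⟨mul_mem (mem_RR.2 ⟨h.KC hb',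
    commutatorElement_eq_one_iff_commute.2 (hc.zpow_left v) ▸ one_mem _⟩) hg, ?_⟩, by group⟩
  rw [show t * (b ^ v * g) * t⁻¹ = t * b ^ v * t⁻¹ * (t * g * t⁻¹) by group, QuotientGroup.mk_mul, mk_t h hb', e,
    QuotientGroup.mk_mul, QuotientGroup.mk_zpow, (c.zpow_right v).symm.mul_zpow, e2, (c.zpow_left k).eq, mul_assoc]

theorem At (hx : Hy C Z K x) (ha : a ∈ AA h hx) : t * a * t⁻¹ * (a ^ k)⁻¹ ∈ Z := by
  rw [← QuotientGroup.eq_one_iff, QuotientGroup.mk_mul, ha.2, QuotientGroup.mk_inv, QuotientGroup.mk_zpow,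
    mul_inv_cancel]

theorem Ac (hx : Hy C Z K x) (ha : a ∈ AA h hx) (ha' : a' ∈ AA h hx) : Commute a a' := by
  have h1 : ⁅a, a'⁆ ∈ Z := com_iff.1 (abel h hx ha.1 ha'.1)
  have hC : ∀ {b}, b ∈ AA h hx → b ∈ C := fun hb => (mem_RR.1 hb.1).1
  have h2 : ∀ b ∈ AA h hx, ∃ z ∈ Z, t * b * t⁻¹ = b ^ k * z := fun b hb =>
    ⟨_, At h hx hb, by rw [(h.cen _ (zpow_mem (hC hb) k) _ (At h hx hb)).eq, inv_mul_cancel_right]⟩
  obtain ⟨z, hz, e⟩ := h2 a ha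
  obtain ⟨z', hz', e'⟩ := h2 a' ha'
  have h3 := h.tZ _ h1
  rw [conjugate_commutatorElement, e, e', comm_Z h (mul_mem (zpow_mem (hC ha') k) (h.ZC hz')) hz,
    ← commutatorElement_inv, comm_Z h (zpow_mem (hC ha) k) hz', commutatorElement_inv,
    comm_zpow' (h.cen _ (hC ha') _ (com_iff.1 (abel h hx (zpow_mem ha.1 k) ha'.1))), comm_zpow (h.cen _ (hC ha) _ h1)] at h3
  have h4 := bez1 h.prime h.k1 (Zp h (zpow_mem h1 k)) h3
  rwa [← h.tZ _ h1, conj_eq_one_iff, commutatorElement_eq_one_iff_commute] at h4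

end TWa

variable {B : Type u} [Group B] [Finite B] {p r : ℕ} {C Z K P A M : Subgroup B} {F : Type}
  [Field F] {φ : F → B} {τ : Fˣ → B} {t x : B} {k : ℤ}

open TWa in
theorem TW.exists_tr (h : TW p C Z K φ τ t k r) (hx : x ∈ K) (hp : orderOf x = p) {c : B}
    (hc : c ∈ C) (h1 : c⁻¹ * x * c ∈ K ⊔ Z) (h2 : c ∉ K ⊔ Z) :
    ∃ P A, TR p C Z K φ τ t k r x P A := by
  have := h.nZ
  have hy : Hy C Z K x := hy_of h hx (by rintro rfl; exact h.prime.one_lt.ne (orderOf_one.symm.trans hp)) hc h1 h2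
  have hP : ∀ {y}, y ∈ K ⊓ centralizer {x} ↔ y ∈ K ∧ Commute y x := and_congr_right fun _ => mem_centralizer_singleton_iff
  have hK : ∀ y ∈ K ⊓ centralizer {x}, y ≠ 1 → ∀ c ∈ K, Commute c y → c ∈ K ⊓ centralizer {x} := fun y k1 y1 c k2 k3 =>
    hP.2 ⟨k2, (Pc h (hy_P h hy k1.1 y1 (hP.1 k1).2) k2 k3 hx (hP.1 k1).2.symm).1⟩
  have hR : ∀ y ∈ K ⊓ centralizer {x}, y ≠ 1 → RR C Z y = RR C Z x := fun y k1 y1 => le_antisymm
    (fun g hg => RR_le h (hy_P h hy k1.1 y1 (hP.1 k1).2) hg hx (hP.1 k1).2.symm) fun g hg => RR_le h hy hg k1.1 (hP.1 k1).2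
  refine ⟨K ⊓ centralizer {x}, AA h hy, {
    toTW := h, xP := hP.2 ⟨hx, Commute.refl x⟩, xp := hp, PK := inf_le_left,
    Pel := fun y k1 => (Pc h hy k1.1 (hP.1 k1).2 k1.1 (hP.1 k1).2).2,
    Pc := fun y k1 y' k2 => (Pc h hy k1.1 (hP.1 k1).2 k2.1 (hP.1 k2).2).1, cK := hK, ZA := fun z hz => ?_,
    AC := fun a ha => ha.1.1, Ac := fun a ha a' ha' => Ac h hy ha ha', Ap := fun a ha => Rp h hy ha.1,
    At := fun a ha => At h hy ha, Aτ := fun l a ha => ⟨(cj_RR h (h.τK l x hx) ha.1).1, ?_⟩,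
    cm := fun y k1 y1 c => ?_, onto := fun y k1 y1 z hz => ?_, ker := fun y k1 y1 a ha hc => ?_ }⟩
  · have e := (QuotientGroup.eq_one_iff z).2 hz
    exact ⟨mem_RR'.2 ⟨h.ZC hz, e ▸ Commute.one_left _⟩, by simp [e]⟩
  · have e : t * (τ l * a * (τ l)⁻¹) * t⁻¹ = τ l * (t * a * t⁻¹) * (τ l)⁻¹ := by
      calc _ = t * τ l * a * (t * τ l)⁻¹ := by group
        _ = _ := by rw [← (h.τt l).eq]; group
    rw [e, QuotientGroup.mk_mul, QuotientGroup.mk_mul, ha.2]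
    simp only [QuotientGroup.mk_mul, QuotientGroup.mk_inv, conj_zpow]
  · show c ∈ C ∧ ⁅c, y⁆ ∈ Z ↔ _
    rw [← mem_RR, hR y k1 y1]
    refine ⟨fun hg => ?_, ?_⟩
    · obtain ⟨y', k2, k3, a, ha, e⟩ := Adec h hy hg
      exact ⟨y', hP.2 ⟨k2, k3⟩, a, ha, e⟩
    · rintro ⟨y', k2, a, ha, rfl⟩
      exact mul_mem (mem_RR.2 ⟨h.KC k2.1, commutatorElement_eq_one_iff_commute.2 (hP.1 k2).2 ▸ one_mem _⟩) ha.1
  · obtain ⟨s, rfl⟩ := (h.mem z).1 hz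
    obtain ⟨g, hg, e⟩ := onto h (hy_P h hy k1.1 y1 (hP.1 k1).2) s
    obtain ⟨y', k2, k3, a, ha, rfl⟩ := Adec h hy (hR y k1 y1 ▸ hg)
    refine ⟨a, ha, ?_⟩
    rw [← e, psi_mul h (h.KC k2) ((hR y k1 y1).ge ha.1),
      commutatorElement_eq_one_iff_commute.2 (Pc h hy k2 k3 k1.1 (hP.1 k1).2).1, mul_one]
  · obtain ⟨b, hb, k2, z, hz, rfl⟩ := ker h k1.1 y1 ha.1.1 hc
    have k3 := (hP.1 (hK y k1 y1 b hb k2)).2
    have e := (QuotientGroup.eq_one_iff z).2 hz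
    have e1 := ha.2
    rw [show t * (b * z) * t⁻¹ = t * b * t⁻¹ * (t * z * t⁻¹) by group, QuotientGroup.mk_mul, mk_t h hb,
      (QuotientGroup.eq_one_iff _).2 (h.nZ.conj_mem _ hz t), QuotientGroup.mk_mul, e, mul_one] at e1
    rw [← QuotientGroup.eq_one_iff, QuotientGroup.mk_mul, e, mul_one]
    exact bez1 h.prime h.k1 (Pp h hy hb k3) e1.symm

end Cfsg.Agent.PT
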