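import Mathlib
import Cfsg.Agent.PT.Defs
import Cfsg.Agent.FT.Wielandt
import Cfsg.Agent.FT.BG3_2
import Cfsg.Agent.GT.Fitting
import Cfsg.Agent.GT.PGroupChain
import Cfsg.Agent.GT.TransferSylow
import Cfsg.Agent.S0205

set_option autoImplicit false

namespace Cfsg.Agent.PT

open Subgroup MulAction Cfsg.Agent.GT Cfsg.Agent.TT Cfsg.Agent.Perm.TT Cfsg.Agent.Perm.TwoCount
open Cfsg.Agent.KS (St NT)
open scoped MatrixGroups commutatorElement

universe u v

variable {B : Type u} [Group B] [Finite B] {p r : ℕ} {C Z K P A M : Subgroup B} {F : Type}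
  [Field F] {φ : F → B} {τ : Fˣ → B} {t x : B} {k : ℤ}

namespace TWb

theorem conj_pow {G : Type*} [Group G] {t a : G} {k : ℤ} (h : t * a * t⁻¹ = a ^ k) (j : ℕ) :
    t ^ j * a * (t ^ j)⁻¹ = a ^ k ^ j := by
  induction j with
  | zero => simp
  | succ j ih =>
    calc t ^ (j + 1) * a * (t ^ (j + 1))⁻¹ = t * (t ^ j * a * (t ^ j)⁻¹) * t⁻¹ := by rw [pow_succ']; group
      _ = (t * a * t⁻¹) ^ k ^ j := by rw [ih, conj_zpow]
      _ = _ := by rw [h, ← zpow_mul, pow_succ']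

theorem eq_one {G : Type*} [Group G] {p : ℕ} (hp : p.Prime) {a : G} {m : ℤ} (h1 : a ^ p = 1) (h2 : a ^ m = a)
    (hm : ¬ m ≡ 1 [ZMOD p]) : a = 1 := by
  rcases (Nat.dvd_prime hp).1 (orderOf_dvd_of_pow_eq_one h1) with e | e
  · exact orderOf_eq_one_iff.1 e
  · have := zpow_eq_zpow_iff_modEq.1 (h2.trans (zpow_one a).symm)
    rw [e] at this
    exact absurd this hm

omit [Finite B] in
theorem zp (h : TW p C Z K φ τ t k r) {z : B} (hz : z ∈ Z) : z ^ p = 1 := by
  obtain ⟨s, rfl⟩ := (h.mem z).1 hz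
  have := h.char
  have h0 : φ 0 = 1 := by simpa using h.add 0 0
  have : ∀ n : ℕ, φ s ^ n = φ (n * s) := fun n => by
    induction n with
    | zero => simp [h0]
    | succ n ih => rw [pow_succ, ih, ← h.add]; congr 1; push_cast; ring
  rw [this, CharP.cast_eq_zero, zero_mul, h0]

omit [Finite B] in
theorem ex_z (h : TW p C Z K φ τ t k r) : ∃ z ∈ Z, z ≠ 1 :=
  ⟨φ 1, (h.mem _).2 ⟨1, rfl⟩, fun e => one_ne_zero (h.inj (e.trans (Eq.symm (by simpa using h.add 0 0))))⟩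

omit [Finite B] in
theorem x_ne (h : TR p C Z K φ τ t k r x P A) : x ≠ 1 := fun e =>
  h.prime.one_lt.ne' (by rw [← h.xp, e, orderOf_one])

omit [Finite B] in
/-- `A` does not lie in `K Z`. -/
theorem not_le (h : TR p C Z K φ τ t k r x P A) : ¬ A ≤ K ⊔ Z := fun hA => by
  have := h.nZ
  obtain ⟨z, hz, z1⟩ := ex_z h.toTW
  obtain ⟨a, ha, e⟩ := h.onto x h.xP (x_ne h) z hz
  obtain ⟨y, hy, w, hw, rfl⟩ := mem_sup_of_normal_right.1 (hA ha)
  have hx := h.PK h.xP
  refine z1 (h.disj z hz ?_)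
  rw [← e, show ⁅y * w, x⁆ = y * (w * x) * w⁻¹ * y⁻¹ * x⁻¹ by group, ← (h.cen x (h.KC hx) w hw).eq,
    show y * (x * w) * w⁻¹ * y⁻¹ * x⁻¹ = y * x * y⁻¹ * x⁻¹ by group]
  exact mul_mem (mul_mem (mul_mem hy hx) (inv_mem hy)) (inv_mem hx)

/-- A normal `s`-subgroup meets `K` trivially. -/
theorem disj (h : TR p C Z K φ τ t k r x P A) {s : ℕ} (hs : s.Prime) (sp : s ≠ p) {Q : Subgroup B} [Q.Normal]
    (hQ : IsPGroup s Q) (QC : Q ≤ C) {y : B} (hy : y ∈ Q) (yK : y ∈ K) : y = 1 := by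
  by_contra y1
  have := h.nZ
  have : Fact s.Prime := ⟨hs⟩
  have QK : Q ≤ K := by
    by_contra hn
    refine (Tr.lt_inf_normalizer hQ (inf_lt_left.2 hn)).not_ge fun c hc => ⟨hc.1, ?_⟩
    obtain ⟨a, ha, z, hz, rfl⟩ := mem_sup_of_normal_right.1
      (h.ti c (QC hc.1) y yK y1 ((mem_normalizer_iff.1 hc.2 y).1 ⟨hy, yK⟩).2)
    obtain ⟨n, hn⟩ := hQ ⟨_, hc.1⟩
    have e : a ^ s ^ n * z ^ s ^ n = 1 := by
      rw [← (h.cen a (h.KC ha) z hz).mul_pow]
      exact congrArg Subtype.val hn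
    have e1 : z ^ s ^ n = 1 := h.disj _ (pow_mem hz _) (by
      rw [← inv_eq_of_mul_eq_one_right e]
      exact inv_mem (pow_mem ha _))
    have e2 : z = 1 := orderOf_eq_one_iff.1 (Nat.eq_one_of_dvd_coprimes
      (((Nat.coprime_primes hs h.prime).2 sp).pow_left n) (orderOf_dvd_of_pow_eq_one e1)
      (orderOf_dvd_of_pow_eq_one (zp h.toTW hz)))
    rwa [e2, mul_one]
  exact not_le h fun a ha => h.ti a (h.AC ha) y yK y1 (QK (Normal.conj_mem ‹_› y hy a))

theorem semireg (h : TR p C Z K φ τ t k r x P A) : FT.Semiregular A (zpowers t) := by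
  have := h.nZ
  intro y hy y1
  obtain ⟨j, rfl⟩ := mem_powers_iff_mem_zpowers.2 hy
  dsimp only at y1 ⊢
  have hk : ¬ k ^ j ≡ 1 [ZMOD p] := fun e => y1 (h.tf j fun z hz => by
    have e1 := conj_pow (h.tZ z hz) j
    rw [zpow_eq_zpow_iff_modEq.2 (e.of_dvd (Int.natCast_dvd_natCast.2 (orderOf_dvd_of_pow_eq_one (zp h.toTW hz)))),
      zpow_one] at e1
    exact mul_inv_eq_iff_eq_mul.1 e1)
  refine eq_bot_iff.2 fun a ha => mem_bot.2 ?_
  have c : t ^ j * a * (t ^ j)⁻¹ = a := mul_inv_eq_iff_eq_mul.2 (mem_centralizer_singleton_iff.1 ha.2).symm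
  have aZ : a ∈ Z := by
    let π := QuotientGroup.mk' Z
    have e1 : π t * π a * (π t)⁻¹ = π a ^ k := by
      rw [← mul_inv_eq_one, ← map_zpow, ← map_inv, ← map_inv, ← map_mul, ← map_mul, ← map_mul]
      exact (QuotientGroup.eq_one_iff _).2 (h.At a ha.1)
    have e2 := conj_pow e1 j
    rw [← map_pow, ← map_inv, ← map_mul, ← map_mul, c] at e2
    refine (QuotientGroup.eq_one_iff a).1 (eq_one h.prime (a := π a) ?_ e2.symm hk)
    rw [← map_pow]
    exact (QuotientGroup.eq_one_iff _).2 (h.Ap a ha.1)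
  exact eq_one h.prime (zp h.toTW aZ) ((conj_pow (h.tZ a aZ) j).symm.trans c) hk

omit [Finite B] in
theorem pgA (h : TR p C Z K φ τ t k r x P A) : IsPGroup p A := fun a =>
  ⟨2, Subtype.ext (by rw [coe_pow, pow_two, pow_mul]; exact zp h.toTW (h.Ap a a.2))⟩

/-- `A` centralizes the normal `s`-subgroups of `C`. -/
theorem cent (h : TR p C Z K φ τ t k r x P A) {s : ℕ} (hs : s.Prime) (sp : s ≠ p) {Q : Subgroup B} [Q.Normal]
    (hQ : IsPGroup s Q) (QC : Q ≤ C) : A ≤ centralizer (Q : Set B) := by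
  by_cases Q0 : Q = ⊥
  · rw [Q0]
    exact fun a _ => mem_centralizer_iff.2 fun y hy => by rw [mem_bot.1 hy, one_mul, mul_one]
  have : Fact s.Prime := ⟨hs⟩
  have : Fact p.Prime := ⟨h.prime⟩
  have : Fact r.Prime := ⟨h.rp⟩
  have nQ : ∀ X : Subgroup B, X ≤ normalizer (Q : Set B) := fun X => le_top.trans (normalizer_eq_top Q).ge
  have fx : Q ⊓ centralizer (zpowers t : Set B) = ⊥ := eq_bot_iff.2 fun c hc => mem_bot.2 (by
    refine disj h hs sp hQ QC hc.1 (h.tfix c (QC hc.1) ?_)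
    rw [mem_centralizer_iff.1 hc.2 t (mem_zpowers t), mul_inv_cancel_right, inv_mul_cancel]
    exact one_mem _)
  have pt : IsPGroup r (zpowers t) := by
    obtain ⟨j, hj⟩ := h.pw
    obtain ⟨i, -, e⟩ := (Nat.dvd_prime_pow h.rp).1 (orderOf_dvd_of_pow_eq_one hj)
    exact IsPGroup.of_card (by rw [Nat.card_zpowers, e])
  have sr : s ≠ r := by
    rintro rfl
    exact PG.inf_centralizer_ne_bot_of_isPGroup hQ pt (nQ _) Q0 fx
  obtain ⟨z, hz, z1⟩ := ex_z h.toTW
  have fr := FT.isFrob_of_semiregular (K := A) (R := zpowers t) (zpowers_le.2 (mem_normalizer_fintype fun a ha => by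
      have := mul_mem (h.ZA (h.At a ha)) (zpow_mem ha k)
      rwa [inv_mul_cancel_right] at this)) (semireg h)
    (fun e => z1 (mem_bot.1 (e ▸ h.ZA hz))) fun e => h.k1 (by
      by_contra k1
      have e1 := h.tZ z hz
      rw [zpowers_eq_bot.1 e, inv_one, mul_one, one_mul] at e1
      exact z1 (eq_one h.prime (zp h.toTW hz) e1.symm k1))
  have : Group.IsNilpotent Q := hQ.isNilpotent
  refine (FT.Frobenius_Wielandt_fixpoint fr (nQ _) ?_ inferInstance).2.1 fx
  rw [← fr.sdprod.card_eq]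
  exact Nat.Coprime.mul_right (IsPGroup.coprime_card_of_ne s p sp _ _ hQ (pgA h))
    (IsPGroup.coprime_card_of_ne s r sr _ _ hQ pt)

theorem core (h : TR p C Z K φ τ t k r x P A) : ¬ pCoreOf p C ≤ Z := fun hZ => by
  have := h.nC
  have : Group.IsSolvable C := S0205.result h.odd
  have h1 : fittingOf C ≤ centralizer (A : Set B) := by
    rw [fittingOf_eq_iSup_pCoreOf]
    refine iSup_le fun s => ?_
    by_cases e : (s : ℕ) = p
    · rw [e]
      exact fun z hz => mem_centralizer_iff.2 fun a ha => h.cen a (h.AC ha) z (hZ hz)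
    · exact le_centralizer_iff.1 (cent h s.2 e (isPGroup_pCoreOf _ _) (pCoreOf_le _))
  have h2 := (le_inf h.AC (le_centralizer_iff.1 h1)).trans (inf_centralizer_fittingOf_le C)
  exact not_le h (((le_pCoreOf_of_le_fittingOf (pgA h) h2).trans hZ).trans le_sup_right)

/-- A nontrivial normal `p`-subgroup contains a nontrivial normal elementary abelian subgroup. -/
theorem ex_elem {G : Type*} [Group G] [Finite G] (hp : p.Prime) {O : Subgroup G} [hn : O.Normal] (hO : IsPGroup p O)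
    (h0 : O ≠ ⊥) : ∃ N : Subgroup G, N.Normal ∧ N ≤ O ∧ N ≠ ⊥ ∧ (∀ a ∈ N, ∀ b ∈ N, Commute a b) ∧
      ∀ a ∈ N, a ^ p = 1 := by
  have : Fact p.Prime := ⟨hp⟩
  let N : Subgroup G :=
    { carrier := {a | a ∈ O ⊓ centralizer (O : Set G) ∧ a ^ p = 1}
      one_mem' := ⟨one_mem _, one_pow _⟩
      mul_mem' := fun {a b} ha hb => ⟨mul_mem ha.1 hb.1, by
        rw [Commute.mul_pow (mem_centralizer_iff.1 hb.1.2 a ha.1.1), ha.2, hb.2, one_mul]⟩
      inv_mem' := fun {a} ha => ⟨inv_mem ha.1, by rw [inv_pow, ha.2, inv_one]⟩ }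
  refine ⟨N, ⟨fun a ha g => ⟨Normal.conj_mem inferInstance a ha.1 g, by rw [_root_.conj_pow, ha.2]; group⟩⟩,
    fun a ha => ha.1.1, ?_, fun a ha b hb => mem_centralizer_iff.1 hb.1.2 a ha.1.1, fun a ha => ha.2⟩
  have h1 := PG.inf_centralizer_ne_bot_of_isPGroup hO hO le_normalizer h0
  obtain ⟨n, hn0, e⟩ := (hO.to_inf_left.nontrivial_iff_card).1 ((nontrivial_iff_ne_bot _).2 h1)
  obtain ⟨a, ha⟩ := exists_prime_orderOf_dvd_card' (G := ↥(O ⊓ centralizer (O : Set G))) p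
    (e ▸ dvd_pow_self p hn0.ne')
  refine (ne_bot_iff_exists_ne_one).2 ⟨⟨a, a.2, ?_⟩, fun e => hp.one_lt.ne' ?_⟩
  · rw [← ha, ← coe_pow, pow_orderOf_eq_one, coe_one]
  · rw [← ha, show a = 1 from Subtype.ext (congrArg (fun y : N => (y : G)) e), orderOf_one]

end TWb

theorem TR.exists_tm (h : TR p C Z K φ τ t k r x P A) : ∃ M, TM p C Z M := by
  have := h.nZ
  have := h.nC
  let π := QuotientGroup.mk' Z
  have hs : Function.Surjective π := QuotientGroup.mk'_surjective Z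
  have : ((pCoreOf p C).map π).Normal := Normal.map inferInstance π hs
  obtain ⟨N, n1, n2, n3, n4, n5⟩ := TWb.ex_elem h.prime ((isPGroup_pCoreOf p C).map π) fun e =>
    TWb.core h (by rwa [Subgroup.map_eq_bot_iff, QuotientGroup.ker_mk'] at e)
  refine ⟨N.comap π, inferInstance, fun z hz => ?_, fun m hm => ?_, fun e => n3 ?_, fun m hm m' hm' => ?_,
    fun m hm => ?_⟩
  · rw [mem_comap, show π z = 1 from (QuotientGroup.eq_one_iff z).2 hz]
    exact one_mem _
  · have := comap_mono (f := π) (n2.trans (map_mono (pCoreOf_le C))) hm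
    rwa [comap_map_eq, QuotientGroup.ker_mk', sup_of_le_left h.ZC] at this
  · rw [← map_comap_eq_self_of_surjective hs N, Subgroup.map_eq_bot_iff, QuotientGroup.ker_mk']
    exact e
  · refine (QuotientGroup.eq_one_iff _).1 (show π _ = 1 from ?_)
    rw [map_commutatorElement]
    exact (n4 _ hm _ hm').commutator_eq
  · refine (QuotientGroup.eq_one_iff _).1 (show π _ = 1 from ?_)
    rw [map_pow]
    exact n5 _ hm

end Cfsg.Agent.PT
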