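import Mathlib
import Cfsg.Agent.PT.Defs
import Cfsg.Agent.GT.HallTools
import Cfsg.Agent.S0205

set_option autoImplicit false

namespace Cfsg.Agent.PT

open Subgroup MulAction Cfsg.Agent.GT Cfsg.Agent.TT Cfsg.Agent.Perm.TT Cfsg.Agent.Perm.TwoCount
open Cfsg.Agent.KS (St NT)
open scoped MatrixGroups commutatorElement

universe u v

namespace SL2X

variable {F : Type} [Field F]

theorem ex [Finite F] (h5 : 5 < Nat.card F) : ∃ s : F, s ≠ 0 ∧ s ^ 4 ≠ 1 := by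
  by_contra! h
  have h1 : Monoid.exponent Fˣ ∣ 4 :=
    Monoid.exponent_dvd_of_forall_pow_eq_one fun u => Units.ext (by simpa using h u u.ne_zero)
  rw [IsCyclic.exponent_eq_card, Nat.card_units] at h1
  have := Nat.le_of_dvd (by norm_num) h1
  omega

theorem ent {a b c d : SL(2, F)} (h : a * b = c * d) (i j : Fin 2) :
    a.1 i 0 * b.1 0 j + a.1 i 1 * b.1 1 j = c.1 i 0 * d.1 0 j + c.1 i 1 * d.1 1 j := by
  simpa [Matrix.mul_apply, Fin.sum_univ_two] using congrFun (congrFun (congrArg Subtype.val h) i) j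

theorem det (a : SL(2, F)) : a.1 0 0 * a.1 1 1 - a.1 0 1 * a.1 1 0 = 1 := by
  rw [← Matrix.det_fin_two]; exact a.2

/-- the diagonal matrix -/
def D {s : F} (hs : s ≠ 0) : SL(2, F) := ⟨!![s⁻¹, 0; 0, s], by simp [Matrix.det_fin_two, hs]⟩

theorem D_ent {s : F} (hs : s ≠ 0) {M N : SL(2, F)} (h : D hs * M * (D hs)⁻¹ = N) : N.1 0 0 = M.1 0 0 ∧
    N.1 1 1 = M.1 1 1 ∧ N.1 0 1 * s ^ 2 = M.1 0 1 ∧ N.1 1 0 = s ^ 2 * M.1 1 0 := by
  have k := ent (mul_inv_eq_iff_eq_mul.1 h)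
  have h00 := k 0 0
  have h01 := k 0 1
  have h10 := k 1 0
  have h11 := k 1 1
  simp [D] at h00 h01 h10 h11
  field_simp at h00 h01 h10 h11
  exact ⟨h00.symm, h11.symm, by linear_combination -h01, by linear_combination -h10⟩

theorem one {X : Subgroup SL(2, F)} (ho : Odd (Nat.card X)) {M : SL(2, F)} (hM : M ∈ X) (h : M ^ 2 ^ 2 = 1) :
    M = 1 :=
  orderOf_eq_one_iff.1 (Nat.eq_one_of_dvd_coprimes
    (Nat.Coprime.pow_right 2 (Nat.coprime_two_right.2 ho)) (X.orderOf_dvd_natCard hM) (orderOf_dvd_of_pow_eq_one h))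

theorem four {M : SL(2, F)} {e : F} (e2 : e * e = 1) (h : (M * M).1 = e • 1) : M ^ 2 ^ 2 = 1 := by
  rw [show M ^ 2 ^ 2 = M * M * (M * M) by norm_num [pow_succ, mul_assoc]]
  exact Subtype.ext (by
    rw [Matrix.SpecialLinearGroup.coe_mul, h, smul_mul_smul_comm, e2, one_smul, one_mul]; rfl)

end SL2X

open SL2X in
theorem sl2x {F : Type} [Field F] [Finite F] (h5 : 5 < Nat.card F) (X : Subgroup SL(2, F))
    (ho : Odd (Nat.card X)) (h2 : (2 : F) ≠ 0)
    (hn : ∀ s : F, s ≠ 0 → ∀ M ∈ X, ∃ N ∈ X, N.1 0 0 = M.1 0 0 ∧ N.1 1 1 = M.1 1 1 ∧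
      N.1 0 1 * s ^ 2 = M.1 0 1 ∧ N.1 1 0 = s ^ 2 * M.1 1 0) :
    (∀ M ∈ X, M.1 1 0 = 0) ∨ ∀ M ∈ X, M.1 0 1 = 0 := by
  have _ := h2
  by_cases hX : X = ⊥
  · exact .inl fun M hM => by rw [hX, mem_bot] at hM; simp [hM]
  obtain ⟨p, -, A, hA, hN, A1, hc, -⟩ :=
    HT.exists_comm_pGroup_le_of_solvable X _ le_rfl (S0205.result ho) hX
  obtain ⟨s, hs, s4⟩ := ex h5
  have u1 : s ^ 2 - 1 ≠ 0 := fun e => s4 (by linear_combination (s ^ 2 + 1) * e)
  have hD : D hs ∈ normalizer (X : Set SL(2, F)) := mem_normalizer_fintype fun M hM => by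
    obtain ⟨N, hN, a, b, c, d⟩ := hn s hs M hM
    obtain ⟨a', b', c', d'⟩ := D_ent hs (rfl : D hs * M * (D hs)⁻¹ = _)
    have : D hs * M * (D hs)⁻¹ = N := Matrix.SpecialLinearGroup.ext _ _ fun i j => by
      fin_cases i <;> fin_cases j
      · exact a'.trans a.symm
      · exact mul_right_cancel₀ (pow_ne_zero 2 hs) (c'.trans c.symm)
      · exact d'.trans d.symm
      · exact b'.trans b.symm
    exact this ▸ hN
  have cm : ∀ g ∈ A, ∀ g' ∈ A, g * g' = g' * g := fun g hg g' hg' =>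
    congrArg Subtype.val (hc.is_comm.comm (⟨g, hg⟩ : A) ⟨g', hg'⟩)
  have cD : ∀ g ∈ A, ∃ N ∈ A, N.1 0 0 = g.1 0 0 ∧ N.1 1 1 = g.1 1 1 ∧ N.1 0 1 * s ^ 2 = g.1 0 1 ∧
      N.1 1 0 = s ^ 2 * g.1 1 0 := fun g hg => ⟨_, (mem_normalizer_iff.1 (hN hD) g).1 hg, D_ent hs rfl⟩
  have cX : ∀ M ∈ X, ∀ g ∈ A, ∃ h ∈ A, h * M = M * g := fun M hM g hg =>
    ⟨_, (mem_normalizer_iff.1 (hN (le_normalizer hM)) g).1 hg, inv_mul_cancel_right _ _⟩
  have key : ∀ g ∈ A, ∀ g' ∈ A, g.1 0 1 * g'.1 1 0 = 0 := fun g hg g' hg' => by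
    obtain ⟨N, hN, a, b, c, d⟩ := cD g' hg'
    have e1 := ent (cm g hg g' hg') 0 0
    have e2 := ent (cm g hg N hN) 0 0
    rw [a, d] at e2
    refine (mul_eq_zero.1 (?_ : (s ^ 4 - 1) * _ = 0)).resolve_left (sub_ne_zero.2 s4)
    linear_combination s ^ 2 * e2 - e1 + g.1 1 0 * c - (s ^ 2 - 1) * (g.1 0 0 * g'.1 0 0) +
      (s ^ 2 - 1) * (g.1 0 0 * g'.1 0 0)
  by_cases h1 : ∃ g ∈ A, g.1 0 1 ≠ 0
  · obtain ⟨g, hg, b0⟩ := h1
    have z : ∀ g' ∈ A, g'.1 1 0 = 0 := fun g' hg' => (mul_eq_zero.1 (key g hg g' hg')).resolve_left b0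
    obtain ⟨N, hN, a, b, c, -⟩ := cD g hg
    have e := ent (cm g hg N hN) 0 1
    rw [a, b] at e
    have ad : g.1 0 0 = g.1 1 1 := sub_eq_zero.1 ((mul_eq_zero.1 (by
      linear_combination -s ^ 2 * e + (g.1 0 0 - g.1 1 1) * c :
        (g.1 0 1 * (s ^ 2 - 1)) * (g.1 0 0 - g.1 1 1) = 0)).resolve_left (mul_ne_zero b0 u1))
    refine .inl fun M hM => by_contra fun m => ?_
    obtain ⟨h, hh, k⟩ := cX M hM g hg
    have e1 := ent k 1 0
    have e2 := ent k 1 1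
    rw [z h hh, z g hg] at e1
    rw [z h hh, ← ad] at e2
    have : h.1 1 1 = g.1 0 0 := mul_right_cancel₀ m (by linear_combination e1)
    exact mul_ne_zero m b0 (by rw [this] at e2; linear_combination -e2)
  by_cases h0 : ∃ g ∈ A, g.1 1 0 ≠ 0
  · obtain ⟨g, hg, b0⟩ := h0
    have z : ∀ g' ∈ A, g'.1 0 1 = 0 := fun g' hg' => (mul_eq_zero.1 (key g' hg' g hg)).resolve_right b0
    obtain ⟨N, hN, a, b, -, c⟩ := cD g hg
    have e := ent (cm g hg N hN) 1 0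
    rw [a, b, c] at e
    have ad : g.1 0 0 = g.1 1 1 := sub_eq_zero.1 ((mul_eq_zero.1 (by
      linear_combination -e : (g.1 1 0 * (s ^ 2 - 1)) * (g.1 0 0 - g.1 1 1) = 0)).resolve_left (mul_ne_zero b0 u1))
    refine .inr fun M hM => by_contra fun m => ?_
    obtain ⟨h, hh, k⟩ := cX M hM g hg
    have e1 := ent k 0 1
    have e2 := ent k 0 0
    rw [z h hh, z g hg, ← ad] at e1
    rw [z h hh] at e2
    have : h.1 0 0 = g.1 0 0 := mul_right_cancel₀ m (by linear_combination e1)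
    exact mul_ne_zero m b0 (by rw [this] at e2; linear_combination -e2)
  push Not at h1 h0
  obtain ⟨⟨g, hg⟩, g1⟩ := (A.ne_bot_iff_exists_ne_one).1 A1
  have dg := det g
  rw [h1 g hg] at dg
  have ad : g.1 1 1 - g.1 0 0 ≠ 0 := fun e => g1 (Subtype.ext (one ho (hA hg) (four (one_mul 1)
    (Matrix.ext fun i j => by
      have := h1 g hg
      have := h0 g hg
      fin_cases i <;> fin_cases j <;> simp [Matrix.mul_apply, Fin.sum_univ_two, *]
      · linear_combination dg - g.1 0 0 * e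
      · linear_combination dg + g.1 1 1 * e))))
  refine .inr fun M hM => by_contra fun m => ?_
  obtain ⟨h, hh, k⟩ := cX M hM g hg
  have e00 := ent k 0 0
  have e01 := ent k 0 1
  have e10 := ent k 1 0
  have e11 := ent k 1 1
  rw [h1 h hh, h0 g hg] at e00
  rw [h1 h hh, h1 g hg] at e01
  rw [h0 h hh, h0 g hg] at e10
  rw [h0 h hh, h1 g hg] at e11
  have dm := det M
  have a1 : h.1 0 0 = g.1 1 1 := mul_right_cancel₀ m (by linear_combination e01)
  have a2 : M.1 0 0 = 0 := (mul_eq_zero.1 (by rw [a1] at e00; linear_combination e00)).resolve_left ad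
  have a3 : M.1 1 0 ≠ 0 := fun e => by rw [a2, e] at dm; simp at dm
  have a4 : h.1 1 1 = g.1 0 0 := mul_right_cancel₀ a3 (by linear_combination e10)
  have a5 : M.1 1 1 = 0 := (mul_eq_zero.1 (by rw [a4] at e11; linear_combination -e11)).resolve_left ad
  rw [a2, zero_mul] at dm
  have := one ho hM (four (e := -1) (by ring) (Matrix.ext fun i j => by
    fin_cases i <;> fin_cases j <;> simp [Matrix.mul_apply, Fin.sum_univ_two, a2, a5]
    · linear_combination -dm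
    · linear_combination -dm))
  rw [this] at m
  exact m (by simp)

end Cfsg.Agent.PT
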