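import Mathlib
import Cfsg.Agent.PT.SL2X
import Cfsg.Agent.Cl.LinearBasic

/-! The case that the minimal normal subgroup meets `P`: `C` acts on a plane. -/

set_option autoImplicit false
set_option linter.unusedSectionVars false

namespace Cfsg.Agent.PT

open Subgroup MulAction Cfsg.Agent.GT Cfsg.Agent.TT Cfsg.Agent.Perm.TT Cfsg.Agent.Perm.TwoCount
open Cfsg.Agent.KS (St NT)
open scoped MatrixGroups commutatorElement

universe u v

variable {B : Type u} [Group B] [Finite B] {p r : ℕ} {C Z K P A M : Subgroup B} {F : Type}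
  [Field F] {φ : F → B} {τ : Fˣ → B} {t x : B} {k : ℤ}

namespace TWcA

/-- The commutator form. -/
noncomputable def om (φ : F → B) (g u : B) : F := Function.invFun φ ⁅g, u⁆

/-- The subgroup `P A` and a base point. -/
structure RR (φ : F → B) (x : B) (P A R : Subgroup B) (e : B) : Prop where
  normal : R.Normal
  mem : ∀ g, g ∈ R ↔ ∃ y ∈ P, ∃ a ∈ A, g = y * a
  eA : e ∈ A
  ex : om φ e x = 1

variable (h : TR p C Z K φ τ t k r x P A) {R : Subgroup B} {e g g' u b c y a : B}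
include h

theorem φ0 : φ 0 = 1 := by simpa using h.add 0 0

theorem φz (n : ℤ) (s : F) : φ (n * s) = φ s ^ n := by
  have := map_zpow (MonoidHom.mk' (fun s : Multiplicative F => φ s.toAdd) fun a b => h.add _ _) (.ofAdd s) n
  simpa using this

theorem zp {z : B} (hz : z ∈ Z) : z ^ p = 1 := by
  obtain ⟨s, rfl⟩ := (h.mem z).1 hz
  have := h.char
  rw [← zpow_natCast, ← φz h, Int.cast_natCast, CharP.cast_eq_zero, zero_mul, φ0 h]

theorem om_eq {s : F} (e : ⁅g, u⁆ = φ s) : om φ g u = s := by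
  rw [om, e, Function.leftInverse_invFun h.inj]

theorem φ_om (e : ⁅g, u⁆ ∈ Z) : φ (om φ g u) = ⁅g, u⁆ := by
  obtain ⟨s, e⟩ := (h.mem _).1 e
  rw [om_eq h e, e]

theorem om0 (e : Commute g u) : om φ g u = 0 :=
  om_eq h (by rw [φ0 h, commutatorElement_eq_one_iff_commute.2 e])

theorem x1 : x ≠ 1 := fun e => by
  have := h.xp
  rw [e, orderOf_one] at this
  exact h.prime.one_lt.ne this

theorem cPA (hg : ∃ y ∈ P, ∃ a ∈ A, g = y * a) (hu : ∃ y ∈ P, ∃ a ∈ A, u = y * a) : ⁅g, u⁆ ∈ Z := by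
  have := h.nZ
  have k : ∀ a ∈ A, ∀ y ∈ P, Commute (QuotientGroup.mk' Z a) (QuotientGroup.mk' Z y) := fun a ha y hy => by
    by_cases e : y = 1
    · rw [e, map_one]; exact Commute.one_right _
    rw [← commutatorElement_eq_one_iff_commute, ← map_commutatorElement]
    exact (QuotientGroup.eq_one_iff _).2 ((h.cm y hy e a).2 ⟨1, one_mem _, a, ha, (one_mul a).symm⟩).2
  obtain ⟨y, hy, a, ha, rfl⟩ := hg
  obtain ⟨y', hy', a', ha', rfl⟩ := hu
  rw [← QuotientGroup.eq_one_iff, ← QuotientGroup.mk'_apply, map_commutatorElement,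
    commutatorElement_eq_one_iff_commute, map_mul, map_mul]
  exact (((h.Pc y hy y' hy').map _).mul_right (k a' ha' y hy).symm).mul_left
    ((k a ha y' hy').mul_right ((h.Ac a ha a' ha').map _))

theorem exists_R (hM : TM p C Z M) (hy : y ∈ P) (h1 : y ≠ 1) (hm : y ∈ M) : ∃ R e, RR φ x P A R e := by
  have := h.nZ
  have := h.nC
  have := hM.normal
  have : (M.map (QuotientGroup.mk' Z)).Normal := hM.normal.map _ (QuotientGroup.mk'_surjective Z)
  obtain ⟨e, he, e1⟩ := h.onto x h.xP (x1 h) (φ 1) ((h.mem _).2 ⟨1, rfl⟩)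
  have k : ∀ g m : B, ⁅g, m⁆ ∈ Z ↔ QuotientGroup.mk' Z m * QuotientGroup.mk' Z g =
      QuotientGroup.mk' Z g * QuotientGroup.mk' Z m := fun g m => by
    rw [← QuotientGroup.eq_one_iff, ← QuotientGroup.mk'_apply, map_commutatorElement,
      commutatorElement_eq_one_iff_mul_comm, eq_comm]
  refine ⟨C ⊓ (centralizer (M.map (QuotientGroup.mk' Z) : Set (B ⧸ Z))).comap (QuotientGroup.mk' Z), e,
    inferInstance, fun g => ⟨fun hg => (h.cm y hy h1 g).1 ⟨hg.1, (k _ _).2 (hg.2 _ ⟨y, hm, rfl⟩)⟩, fun hg =>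
      ⟨((h.cm y hy h1 g).2 hg).1, ?_⟩⟩, he, om_eq h e1⟩
  rintro _ ⟨m, hm', rfl⟩
  exact (k _ _).1 (cPA h hg ((h.cm y hy h1 m).1 ⟨hM.MC hm', hM.comm m hm' y hm⟩))

variable (q : RR φ x P A R e)
include q

theorem PR (hy : y ∈ P) : y ∈ R := (q.mem y).2 ⟨y, hy, 1, one_mem _, (mul_one y).symm⟩

theorem AR (ha : a ∈ A) : a ∈ R := (q.mem a).2 ⟨1, one_mem _, a, ha, (one_mul a).symm⟩

theorem RC (hg : g ∈ R) : g ∈ C := by
  obtain ⟨y, hy, a, ha, rfl⟩ := (q.mem g).1 hg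
  exact mul_mem (h.KC (h.PK hy)) (h.AC ha)

theorem cR (hg : g ∈ R) (hu : u ∈ R) : ⁅g, u⁆ ∈ Z := cPA h ((q.mem g).1 hg) ((q.mem u).1 hu)

theorem mul_l (hg : g ∈ R) (hg' : g' ∈ R) (hu : u ∈ R) : om φ (g * g') u = om φ g u + om φ g' u := by
  refine om_eq h ?_
  rw [add_comm, h.add, φ_om h (cR h q hg hu), φ_om h (cR h q hg' hu),
    show ⁅g * g', u⁆ = g * ⁅g', u⁆ * g⁻¹ * ⁅g, u⁆ by group, (h.cen g (RC h q hg) _ (cR h q hg' hu)).eq,
    mul_inv_cancel_right]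

theorem anti (hg : g ∈ R) (hu : u ∈ R) : om φ g u = -om φ u g := by
  refine om_eq h ?_
  rw [← neg_one_mul, ← Int.cast_one, ← Int.cast_neg, φz h, φ_om h (cR h q hu hg), zpow_neg_one,
    commutatorElement_inv]

theorem mul_r (hg : g ∈ R) (hg' : g' ∈ R) (hu : u ∈ R) : om φ u (g * g') = om φ u g + om φ u g' := by
  rw [anti h q hu (mul_mem hg hg'), mul_l h q hg hg' hu, anti h q hu hg, anti h q hu hg', neg_add]

theorem cnj {σ : F} (hb : ∀ s, b * φ s * b⁻¹ = φ (σ * s)) (hg : g ∈ R) (hu : u ∈ R) :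
    om φ (b * g * b⁻¹) (b * u * b⁻¹) = σ * om φ g u :=
  om_eq h (by rw [← hb, φ_om h (cR h q hg hu), conjugate_commutatorElement])

theorem cnjC (hc : c ∈ C) (hg : g ∈ R) (hu : u ∈ R) : om φ (c * g * c⁻¹) (c * u * c⁻¹) = om φ g u := by
  rw [cnj h q (σ := 1) (fun s => by
    rw [one_mul, (h.cen c hc _ ((h.mem _).2 ⟨s, rfl⟩)).eq, mul_inv_cancel_right]) hg hu, one_mul]

theorem kerA (ha : a ∈ A) (e0 : om φ a x = 0) : a ∈ Z :=
  h.ker x h.xP (x1 h) a ha (commutatorElement_eq_one_iff_commute.1 (by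
    rw [← φ_om h (cR h q (AR h q ha) (PR h q h.xP)), e0, φ0 h]))

theorem lin (hy : y ∈ P) (ha : a ∈ A) : om φ a y = om φ e y * om φ a x := by
  have h1 : ∀ a ∈ A, ∀ a' ∈ A, om φ a x = om φ a' x → om φ a y = om φ a' y := fun a ha a' ha' e => by
    have k := mul_mem ha (inv_mem ha')
    have k1 := mul_l h q (AR h q k) (AR h q ha') (PR h q h.xP)
    have k2 := mul_l h q (AR h q k) (AR h q ha') (PR h q hy)
    rw [inv_mul_cancel_right] at k1 k2
    rw [k2, om0 h (h.cen y (h.KC (h.PK hy)) _ (kerA h q k (by linear_combination e - k1))).symm, zero_add]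
  have h2 : ∀ s : F, ∃ a ∈ A, ∀ y ∈ P, om φ a y = s ^ 2 * om φ e y := fun s => by
    by_cases h0 : s = 0
    · exact ⟨1, one_mem _, fun y _ => by rw [om0 h (Commute.one_left y), h0]; simp⟩
    refine ⟨_, h.Aτ (Units.mk0 s h0) e q.eA, fun y hy => ?_⟩
    have := cnj h q (h.τZ (Units.mk0 s h0)) (AR h q q.eA) (PR h q hy)
    rwa [(h.τK _ y (h.PK hy)).eq, mul_inv_cancel_right] at this
  have h3 : (2 : F) ≠ 0 := fun e => by
    have := h.char
    have := Nat.le_of_dvd two_pos ((CharP.cast_eq_zero_iff F p 2).1 e)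
    have := h.five
    omega
  obtain ⟨a1, m1, e1⟩ := h2 ((om φ a x + 1) / 2)
  obtain ⟨a2, m2, e2⟩ := h2 ((om φ a x - 1) / 2)
  have h4 := h1 _ (mul_mem ha m2) a1 m1 (by
    rw [mul_l h q (AR h q ha) (AR h q m2) (PR h q h.xP), e1 x h.xP, e2 x h.xP, q.ex]
    field_simp
    ring)
  rw [mul_l h q (AR h q ha) (AR h q m2) (PR h q hy), e1 y hy, e2 y hy] at h4
  field_simp at h4
  have h5 : (2 : F) ^ 2 * (om φ a y - om φ e y * om φ a x) = 0 := by linear_combination h4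
  exact sub_eq_zero.1 ((mul_eq_zero.1 h5).resolve_left (pow_ne_zero _ h3))

theorem v1 (hy : y ∈ P) (ha : a ∈ A) : om φ e (y * a) = om φ e y := by
  rw [mul_r h q (PR h q hy) (AR h q ha) (AR h q q.eA), om0 h (h.Ac e q.eA a ha), add_zero]

theorem v2 (hy : y ∈ P) (ha : a ∈ A) : om φ (y * a) x = om φ a x := by
  rw [mul_l h q (PR h q hy) (AR h q ha) (PR h q h.xP), om0 h (h.Pc y hy x h.xP), zero_add]

theorem form (hg : g ∈ R) (hu : u ∈ R) : om φ g u = om φ g x * om φ e u - om φ e g * om φ u x := by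
  obtain ⟨y, hy, a, ha, rfl⟩ := (q.mem g).1 hg
  obtain ⟨y', hy', a', ha', rfl⟩ := (q.mem u).1 hu
  rw [v1 h q hy ha, v1 h q hy' ha', v2 h q hy ha, v2 h q hy' ha', mul_l h q (PR h q hy) (AR h q ha) hu,
    mul_r h q (PR h q hy') (AR h q ha') (PR h q hy), mul_r h q (PR h q hy') (AR h q ha') (AR h q ha),
    om0 h (h.Pc y hy y' hy'), om0 h (h.Ac a ha a' ha'), anti h q (PR h q hy) (AR h q ha'), lin h q hy ha',
    lin h q hy' ha]
  ring

theorem kerR (hg : g ∈ R) (e1 : om φ e g = 0) (e2 : om φ g x = 0) : g ∈ Z := by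
  obtain ⟨y, hy, a, ha, rfl⟩ := (q.mem g).1 hg
  rw [v1 h q hy ha] at e1
  rw [v2 h q hy ha] at e2
  by_cases h1 : y = 1
  · rw [h1, one_mul]; exact kerA h q ha e2
  obtain ⟨a', ha', e3⟩ := h.onto y hy h1 (φ 1) ((h.mem _).2 ⟨1, rfl⟩)
  have := lin h q hy ha'
  rw [om_eq h e3, e1, zero_mul] at this
  exact (one_ne_zero this).elim

theorem det1 (hc : c ∈ C) : om φ e (c * x * c⁻¹) * om φ (c * e * c⁻¹) x -
    om φ e (c * e * c⁻¹) * om φ (c * x * c⁻¹) x = 1 := by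
  have := form h q (q.normal.conj_mem _ (AR h q q.eA) c) (q.normal.conj_mem _ (PR h q h.xP) c)
  rw [cnjC h q hc (AR h q q.eA) (PR h q h.xP), q.ex] at this
  linear_combination -this

theorem act (hc : c ∈ C) (hg : g ∈ R) :
    om φ e (c * g * c⁻¹) = om φ e (c * x * c⁻¹) * om φ e g + om φ e (c * e * c⁻¹) * om φ g x ∧
    om φ (c * g * c⁻¹) x = om φ (c * x * c⁻¹) x * om φ e g + om φ (c * e * c⁻¹) x * om φ g x := by
  have h1 := form h q (q.normal.conj_mem _ (AR h q q.eA) c) (q.normal.conj_mem _ hg c)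
  have h2 := form h q (q.normal.conj_mem _ hg c) (q.normal.conj_mem _ (PR h q h.xP) c)
  have h3 := det1 h q hc
  rw [cnjC h q hc (AR h q q.eA) hg] at h1
  rw [cnjC h q hc hg (PR h q h.xP)] at h2
  exact ⟨by linear_combination (-om φ e (c * x * c⁻¹)) * h1 - om φ e (c * e * c⁻¹) * h2 - om φ e (c * g * c⁻¹) * h3,
    by linear_combination (-om φ (c * x * c⁻¹) x) * h1 - om φ (c * e * c⁻¹) x * h2 - om φ (c * g * c⁻¹) x * h3⟩

/-- The representation on the plane. -/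
noncomputable def rep : C →* SL(2, F) := MonoidHom.mk'
  (fun c => ⟨!![om φ e (c * x * (c : B)⁻¹), om φ e (c * e * (c : B)⁻¹);
      om φ (c * x * (c : B)⁻¹) x, om φ (c * e * (c : B)⁻¹) x], by
    rw [Matrix.det_fin_two_of]; exact det1 h q c.2⟩) fun c d => Subtype.ext (by
    have k : ∀ g : B, (c * d : C) * g * ((c * d : C) : B)⁻¹ = c * (d * g * (d : B)⁻¹) * (c : B)⁻¹ := fun g => by
      rw [coe_mul]; group
    have h1 := act h q c.2 (q.normal.conj_mem _ (PR h q h.xP) d)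
    have h2 := act h q c.2 (q.normal.conj_mem _ (AR h q q.eA) d)
    change !![_, _; _, _] = (!![_, _; _, _] * !![_, _; _, _] : Matrix (Fin 2) (Fin 2) F)
    rw [Matrix.mul_fin_two, k, k, h1.1, h1.2, h2.1, h2.2])

theorem r00 (c : C) : (rep h q c).1 0 0 = om φ e (c * x * (c : B)⁻¹) := rfl
theorem r01 (c : C) : (rep h q c).1 0 1 = om φ e (c * e * (c : B)⁻¹) := rfl
theorem r10 (c : C) : (rep h q c).1 1 0 = om φ (c * x * (c : B)⁻¹) x := rfl
theorem r11 (c : C) : (rep h q c).1 1 1 = om φ (c * e * (c : B)⁻¹) x := rfl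

theorem ker_pow (c : C) (hc : rep h q c = 1) : c ^ p ^ 2 = 1 := by
  have hx := PR h q h.xP
  have hcx := q.normal.conj_mem _ hx c
  have e1 := r00 h q c
  have e2 := r10 h q c
  rw [hc] at e1 e2
  have k : (c : B) * x * (c : B)⁻¹ = ⁅(c : B), x⁆ * x := by group
  have hk : ⁅(c : B), x⁆ ∈ R := mul_mem hcx (inv_mem hx)
  rw [k, mul_r h q hk hx (AR h q q.eA), q.ex] at e1
  rw [k, mul_l h q hk hx hx, om0 h (Commute.refl x)] at e2
  obtain ⟨y, hy, a, ha, e3⟩ := (h.cm x h.xP (x1 h) c).1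
    ⟨c.2, kerR h q hk (by simpa using e1.symm) (by simpa using e2.symm)⟩
  have := h.nZ
  have h1 : (c : B) ^ p ∈ Z := by
    rw [← QuotientGroup.eq_one_iff, ← QuotientGroup.mk'_apply, map_pow, e3, map_mul, Commute.mul_pow, ← map_pow,
      ← map_pow, h.Pel y hy, map_one, one_mul, QuotientGroup.mk'_apply, QuotientGroup.eq_one_iff]
    · exact h.Ap a ha
    rw [← commutatorElement_eq_one_iff_commute, ← map_commutatorElement]
    exact (QuotientGroup.eq_one_iff _).2 (cR h q (PR h q hy) (AR h q ha))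
  exact Subtype.ext (by rw [coe_pow, pow_two, pow_mul, zp h h1, coe_one])

theorem diag {σ : F} (h1 : ∀ y ∈ P, Commute b y) (h2 : ∀ a ∈ A, b * a * b⁻¹ ∈ A)
    (h3 : ∀ s, b * φ s * b⁻¹ = φ (σ * s)) (hg : g ∈ R) :
    om φ e (b * g * b⁻¹) = om φ e g ∧ om φ (b * g * b⁻¹) x = σ * om φ g x := by
  constructor
  · obtain ⟨y, hy, a, ha, rfl⟩ := (q.mem g).1 hg
    rw [show b * (y * a) * b⁻¹ = b * y * b⁻¹ * (b * a * b⁻¹) by group, (h1 y hy).eq, mul_inv_cancel_right,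
      v1 h q hy ha, v1 h q hy (h2 a ha)]
  · rw [← cnj h q h3 hg (PR h q h.xP), (h1 x h.xP).eq, mul_inv_cancel_right]

theorem rep_conj {σ : F} (h1 : ∀ y ∈ P, Commute b y) (h2 : ∀ a ∈ A, b * a * b⁻¹ ∈ A)
    (h3 : ∀ s, b * φ s * b⁻¹ = φ (σ * s)) (c d : C) (hd : (d : B) = b * c * b⁻¹) :
    (rep h q d).1 0 0 = (rep h q c).1 0 0 ∧ (rep h q d).1 1 1 * σ = σ * (rep h q c).1 1 1 ∧
      (rep h q d).1 0 1 * σ = (rep h q c).1 0 1 ∧ (rep h q d).1 1 0 = σ * (rep h q c).1 1 0 := by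
  have k1 : (d : B) * x * (d : B)⁻¹ = b * (c * x * (c : B)⁻¹) * b⁻¹ := by
    calc _ = b * (c * (b⁻¹ * (x * b)) * (c : B)⁻¹) * b⁻¹ := by rw [hd]; group
      _ = _ := by rw [← (h1 x h.xP).eq, inv_mul_cancel_left]
  have k2 : (d : B) * (b * e * b⁻¹) * (d : B)⁻¹ = b * (c * e * (c : B)⁻¹) * b⁻¹ := by rw [hd]; group
  have a1 := diag h q h1 h2 h3 (q.normal.conj_mem _ (PR h q h.xP) c)
  have a2 := diag h q h1 h2 h3 (q.normal.conj_mem _ (AR h q q.eA) c)
  have a3 := diag h q h1 h2 h3 (AR h q q.eA)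
  have a4 := act h q d.2 (q.normal.conj_mem _ (AR h q q.eA) b)
  rw [k2, a2.1, a2.2, a3.1, a3.2, om0 h (Commute.refl e), q.ex, mul_zero, mul_zero, zero_add, zero_add,
    mul_one] at a4
  simp only [r00, r01, r10, r11, k1]
  exact ⟨a1.1, a4.2.symm, a4.1.symm, a1.2⟩

omit h q in
theorem unip [CharP F p] {N : SL(2, F)} (h1 : N.1 0 0 = 1) (h2 : N.1 0 1 * N.1 1 0 = 0) : N ^ p = 1 := by
  have h3 := N.2
  rw [Matrix.det_fin_two, h1, h2, one_mul, sub_zero] at h3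
  have h4 : ∀ n : ℕ, (N ^ n).1 = !![1, n * N.1 0 1; n * N.1 1 0, 1] := fun n => by
    induction n with
    | zero => simp [Matrix.one_fin_two]
    | succ n ih =>
      rw [pow_succ, Matrix.SpecialLinearGroup.coe_mul, ih, Matrix.eta_fin_two N.1, Matrix.mul_fin_two]
      simp only [h1, h3, Matrix.of_apply, Matrix.cons_val', Matrix.cons_val_zero, Matrix.cons_val_one,
        Matrix.cons_val_fin_one, Nat.cast_succ]
      rw [show 1 * 1 + n * N.1 0 1 * N.1 1 0 = 1 by linear_combination n * h2,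
        show 1 * N.1 0 1 + n * N.1 0 1 * 1 = (n + 1) * N.1 0 1 by ring,
        show n * N.1 1 0 * 1 + 1 * N.1 1 0 = (n + 1) * N.1 1 0 by ring,
        show n * N.1 1 0 * N.1 0 1 + 1 * 1 = 1 by linear_combination n * h2]
  exact Subtype.ext (by rw [h4, CharP.cast_eq_zero]; simp [Matrix.one_fin_two])

omit q in
theorem fin (U : Subgroup C) [hU : U.Normal] (pg : IsPGroup p U) (hc : ∀ c : C, ∃ u ∈ U, ((u⁻¹ * c : C) : B) ∈ K) :
    TWc C K := by
  have : Fact p.Prime := ⟨h.prime⟩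
  refine ⟨U.map C.subtype, map_subtype_le U, ?_, (pg.map _).isNilpotent, fun c hc' => ?_⟩
  · rintro c hc _ ⟨u, hu, rfl⟩
    exact ⟨_, hU.conj_mem u hu ⟨c, hc⟩, rfl⟩
  · obtain ⟨u, hu, e⟩ := hc ⟨c, hc'⟩
    exact ⟨u, ⟨u, hu, rfl⟩, e⟩

theorem tri (h0 : ∀ c d : C, (rep h q c).1 0 1 * (rep h q d).1 1 0 = 0) : TWc C K := by
  have := h.char
  have := h.nC
  let χ : C →* F :=
    { toFun := fun c => (rep h q c).1 0 0
      map_one' := by simp
      map_mul' := fun c d => by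
        rw [map_mul, Matrix.SpecialLinearGroup.coe_mul, Matrix.mul_apply, Fin.sum_univ_two, h0, add_zero] }
  have h1 : ∀ n : ℕ, ∀ c d : C, (d : B) = t ^ n * c * (t ^ n)⁻¹ → χ d = χ c := fun n => by
    induction n with
    | zero => exact fun c d e => by rw [show d = c from Subtype.ext (by simpa using e)]
    | succ n ih =>
      intro c d e
      refine (rep_conj h q (σ := k) (b := t) (fun y hy => h.tK y (h.PK hy)) (fun a ha => ?_) (fun s => ?_)
        ⟨_, h.nC.conj_mem c c.2 (t ^ n)⟩ d (by rw [e, pow_succ']; group)).1.trans (ih c _ rfl)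
      · simpa using mul_mem (h.ZA (h.At a ha)) (zpow_mem ha k)
      · rw [h.tZ _ ((h.mem _).2 ⟨s, rfl⟩), φz h]
  refine fin h χ.toHomUnits.ker (fun u => ⟨3, Subtype.ext ?_⟩) fun c => ?_
  · have h2 : χ u = 1 := congrArg Units.val u.2
    rw [coe_pow, pow_succ', pow_mul, coe_one]
    exact ker_pow h q _ (by rw [map_pow, unip h2 (h0 _ _)])
  · obtain ⟨g, hg, e⟩ := h.gl c c.2
    have h2 : ⁅C, zpowers t⁆ ≤ χ.toHomUnits.ker.map C.subtype := commutator_le.2 fun c hc s hs => by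
      obtain ⟨n, rfl⟩ := (Submonoid.mem_powers_iff _ _).1 (mem_powers_iff_mem_zpowers.2 hs)
      refine ⟨⟨c, hc⟩ * ⟨_, h.nC.conj_mem _ (inv_mem hc) (t ^ n)⟩, Units.ext ?_, by simp [commutatorElement_def, mul_assoc]⟩
      change χ _ = 1
      rw [map_mul, h1 n (⟨c, hc⟩ : C)⁻¹ ⟨_, h.nC.conj_mem _ (inv_mem hc) (t ^ n)⟩ rfl, ← map_mul, mul_inv_cancel,
        map_one]
    obtain ⟨u, hu, rfl⟩ := h2 hg
    exact ⟨u, hu, e⟩

theorem five (h5 : Nat.card F ≤ 5) {a : ℕ} (ha : K.relIndex C = p ^ a) : TWc C K := by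
  have : Fact p.Prime := ⟨h.prime⟩
  have := h.char
  have := h.fin
  have h1 : p ≤ Nat.card F := by
    have := Fintype.ofFinite F
    obtain ⟨n, -, e⟩ := FiniteField.card F p
    rw [Nat.card_eq_fintype_card, e]
    exact Nat.le_self_pow n.ne_zero p
  have h2 := h.five
  obtain rfl : p = 5 := by omega
  have h3 : Nat.card F = 5 := by omega
  obtain ⟨S⟩ : Nonempty (Sylow 5 C) := inferInstance
  have h4 : (S : Subgroup C).index ∣ 120 := by
    have k := IsPGroup.le_sylow_of_normal (N := (rep h q).ker)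
      (fun u => ⟨2, Subtype.ext (ker_pow h q _ u.2)⟩) S
    have k2 := card_subgroup_dvd_card (rep h q).range
    rw [Cl.card_sl_two, h3, ← index_ker] at k2
    exact (index_dvd_of_le k).trans k2
  have h6 : ∀ n ∈ Nat.divisors 120, Odd n → ¬ 5 ∣ n → ∀ m ∈ n.divisors, m ≡ 1 [MOD 5] → m = 1 := by decide
  have h7 := h6 _ (Nat.mem_divisors.2 ⟨h4, by decide⟩) (h.odd.of_dvd_nat (index_dvd_card _)) S.not_dvd_index _
    (Nat.mem_divisors.2 ⟨S.card_dvd_index, index_ne_zero_of_finite⟩) (card_sylow_modEq_one 5 C)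
  have := (Nat.card_eq_one_iff_unique.1 h7).1
  have := S.normal_of_subsingleton
  have h8 : (S : Subgroup C) ⊔ K.subgroupOf C = ⊤ := index_eq_one.1 (Nat.eq_one_of_dvd_coprimes
    (Nat.Coprime.pow_right a ((Nat.Prime.coprime_iff_not_dvd h.prime).2 S.not_dvd_index).symm)
    (index_dvd_of_le le_sup_left) (ha ▸ index_dvd_of_le le_sup_right))
  refine fin h (S : Subgroup C) S.isPGroup' fun c => ?_
  obtain ⟨u, hu, v, hv, rfl⟩ := mem_sup_of_normal_left.1 (h8 ▸ mem_top c)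
  exact ⟨u, hu, by rwa [inv_mul_cancel_left]⟩

end TWcA

open TWcA in
theorem TR.tw_c (h : TR p C Z K φ τ t k r x P A) (hM : TM p C Z M) {y : B} (hy : y ∈ P)
    (h1 : y ≠ 1) (hm : y ∈ M) : TWc C K := by
  obtain ⟨R, e, q⟩ := exists_R h hM hy h1 hm
  by_cases h5 : 5 < Nat.card F
  swap
  · obtain ⟨a, ha⟩ := h.big.resolve_left h5
    exact five h q (not_lt.1 h5) ha
  have := h.fin
  have := h.char
  have h2 : (2 : F) ≠ 0 := fun e => by
    have := Nat.le_of_dvd two_pos ((CharP.cast_eq_zero_iff F p 2).1 e)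
    have := h.five
    omega
  have h3 := sl2x h5 (rep h q).range (h.odd.of_dvd_nat (card_range_dvd _)) h2 (by
    rintro s hs _ ⟨c, rfl⟩
    have k := rep_conj h q (fun y hy => h.τK (Units.mk0 s hs) y (h.PK hy)) (h.Aτ _) (h.τZ _) c
      ⟨_, h.nC.conj_mem c c.2 _⟩ rfl
    exact ⟨_, ⟨_, rfl⟩, k.1, mul_right_cancel₀ (pow_ne_zero 2 hs) (k.2.1.trans (mul_comm _ _)), k.2.2⟩)
  refine tri h q fun c d => ?_
  rcases h3 with h3 | h3
  · rw [h3 _ ⟨d, rfl⟩, mul_zero]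
  · rw [h3 _ ⟨c, rfl⟩, zero_mul]

end Cfsg.Agent.PT
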