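import Mathlib
import Cfsg.Agent.PT.Defs
import Cfsg.Agent.PT.TWdA

set_option autoImplicit false
set_option linter.style.haveILetI false
set_option linter.unusedSectionVars false

namespace Cfsg.Agent.PT

open Subgroup MulAction Cfsg.Agent.GT Cfsg.Agent.TT Cfsg.Agent.Perm.TT Cfsg.Agent.Perm.TwoCount
open Cfsg.Agent.KS (St NT)
open scoped MatrixGroups commutatorElement

universe u v

namespace TWd

section Gen

variable {D : Type*} [Group D]

theorem eq_one_of_zpow {p : ℕ} (hp : p.Prime) {d : D} (hd : d ^ p = 1) {n : ℤ} (hn : d ^ n = 1)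
    (hpn : ¬ (p : ℤ) ∣ n) : d = 1 := by
  by_contra hne
  haveI := Fact.mk hp
  exact hpn ((orderOf_eq_prime hd hne) ▸ orderOf_dvd_iff_zpow_eq_one.mpr hn)

theorem zpow_congr {p : ℕ} {d : D} (hd : d ^ p = 1) {a b : ℤ} (h : a ≡ b [ZMOD p]) :
    d ^ a = d ^ b := by
  obtain ⟨c, hc⟩ := h.dvd
  have : b = a + p * c := by rw [← hc]; ring
  rw [this, zpow_add, zpow_mul, zpow_natCast, hd, one_zpow, mul_one]

theorem conj_pow_eq {t d : D} {κ : ℤ} (h : t * d * t⁻¹ = d ^ κ) (n : ℕ) :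
    t ^ n * d * (t ^ n)⁻¹ = d ^ κ ^ n := by
  induction n with
  | zero => simp
  | succ n ih =>
    calc t ^ (n + 1) * d * (t ^ (n + 1))⁻¹ = t * (t ^ n * d * (t ^ n)⁻¹) * t⁻¹ := by
          rw [pow_succ']; group
      _ = (t * d * t⁻¹) ^ κ ^ n := by rw [ih, conj_zpow]
      _ = d ^ κ ^ (n + 1) := by rw [h, ← zpow_mul, pow_succ']

/-- an element of order prime to `p` has no Jordan block of size two -/
theorem unip {p : ℕ} (hp : p.Prime) {t m d : D} {κ : ℤ} {N : ℕ} (hc : Commute m d)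
    (hm : t * m * t⁻¹ = m ^ κ * d) (hd : t * d * t⁻¹ = d ^ κ) (hdp : d ^ p = 1) (htN : t ^ N = 1)
    (hN : ¬ p ∣ N) (hκ : ¬ (p : ℤ) ∣ κ) (hmN : m ^ κ ^ N = m) : d = 1 := by
  have key : ∀ n : ℕ, t ^ (n + 1) * m * (t ^ (n + 1))⁻¹ =
      m ^ κ ^ (n + 1) * d ^ (((n : ℤ) + 1) * κ ^ n) := by
    intro n
    induction n with
    | zero => simpa using hm
    | succ n ih =>
      calc t ^ (n + 1 + 1) * m * (t ^ (n + 1 + 1))⁻¹
          = t * (t ^ (n + 1) * m * (t ^ (n + 1))⁻¹) * t⁻¹ := by rw [pow_succ' t (n + 1)]; group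
        _ = (t * m * t⁻¹) ^ κ ^ (n + 1) * (t * d * t⁻¹) ^ (((n : ℤ) + 1) * κ ^ n) := by
          rw [ih, conj_zpow, conj_zpow]; group
        _ = _ := by
          rw [hm, hd, ((hc.zpow_left κ).mul_zpow _), ← zpow_mul, ← zpow_mul, mul_assoc,
            ← zpow_add, ← pow_succ']
          congr 2
          push_cast
          ring
  obtain ⟨n, rfl⟩ : ∃ n, N = n + 1 := by
    cases N with
    | zero => exact absurd (dvd_zero p) hN
    | succ n => exact ⟨n, rfl⟩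
  have h1 := key n
  rw [htN, hmN, one_mul, inv_one, mul_one, eq_comm, mul_eq_left] at h1
  refine eq_one_of_zpow hp hdp h1 ?_
  have hp' : Prime (p : ℤ) := Nat.prime_iff_prime_int.mp hp
  intro h
  rcases hp'.dvd_or_dvd h with h | h
  · exact hN (by exact_mod_cast h)
  · exact hκ (hp'.dvd_of_dvd_pow h)

/-- `t` acts as a scalar on `V` if it does so on the fixed points of `x` -/
theorem scal [Finite D] {p : ℕ} (hp : p.Prime) {V : Subgroup D} [hV : V.Normal]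
    (hc : ∀ a ∈ V, ∀ b ∈ V, Commute a b) (hVp : ∀ a ∈ V, a ^ p = 1) {t x : D} {k : ℤ} {N : ℕ}
    (hxt : Commute x t) (hx : x ^ p = 1) (htN : t ^ N = 1) (hN : ¬ p ∣ N) (hk : ¬ (p : ℤ) ∣ k)
    (hkN : k ^ N ≡ 1 [ZMOD p]) (hfix : ∀ a ∈ V, Commute a x → t * a * t⁻¹ = a ^ k) :
    ∀ a ∈ V, t * a * t⁻¹ = a ^ k := by
  have hm : ∀ a ∈ V, t * a * t⁻¹ * (a ^ k)⁻¹ ∈ V := fun a ha =>
    mul_mem (hV.conj_mem a ha t) (inv_mem (zpow_mem ha k))
  let I : Subgroup D :=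
    { carrier := {v | ∃ a ∈ V, v = t * a * t⁻¹ * (a ^ k)⁻¹}
      one_mem' := ⟨1, one_mem _, by simp⟩
      mul_mem' := by
        rintro _ _ ⟨a, ha, rfl⟩ ⟨b, hb, rfl⟩
        refine ⟨a * b, mul_mem ha hb, ?_⟩
        have h1 := (hc _ (inv_mem (zpow_mem ha k)) _ (hm b hb)).eq
        rw [(hc a ha b hb).mul_zpow, mul_assoc (t * a * t⁻¹), h1]
        group
      inv_mem' := by
        rintro _ ⟨a, ha, rfl⟩
        refine ⟨a⁻¹, inv_mem ha, ?_⟩
        have h1 := (hc _ (zpow_mem ha k) _ (inv_mem (hV.conj_mem a ha t))).eq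
        rw [mul_inv_rev, inv_inv, h1]
        group }
  have hIV : I ≤ V := by
    rintro _ ⟨a, ha, rfl⟩
    exact hm a ha
  by_cases hI : I = ⊥
  · intro a ha
    have : t * a * t⁻¹ * (a ^ k)⁻¹ ∈ I := ⟨a, ha, rfl⟩
    rw [hI, mem_bot] at this
    exact mul_inv_eq_one.mp this
  exfalso
  have hIp : IsPGroup p I := fun v => ⟨1, Subtype.ext (by simpa using hVp v (hIV v.2))⟩
  obtain ⟨v, ⟨a, ha, rfl⟩, hv1, hvx⟩ := fixp hp hIp hx (norm_of_conj (by
    rintro _ ⟨a, ha, rfl⟩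
    refine ⟨x * a * x⁻¹, hV.conj_mem a ha x, ?_⟩
    rw [conj_zpow]
    calc x * (t * a * t⁻¹ * (a ^ k)⁻¹) * x⁻¹
        = (x * t) * a * (x * t)⁻¹ * (x * a ^ k * x⁻¹)⁻¹ := by group
      _ = _ := by rw [hxt.eq]; group)) hI
  refine hv1 (unip hp (m := a) (κ := k) (hc a ha _ (hm a ha)) ?_ (hfix _ (hm a ha) hvx)
    (hVp _ (hm a ha)) htN hN hk ?_)
  · rw [(hc _ (zpow_mem ha k) _ (hm a ha)).eq]
    group
  · rw [zpow_congr (hVp a ha) hkN, zpow_one]

end Gen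

variable {B : Type u} [Group B] [Finite B] {p r : ℕ} {C Z K P A M : Subgroup B} {F : Type}
  [Field F] {φ : F → B} {τ : Fˣ → B} {t x : B} {k : ℤ}

theorem phi_zero (h : TW p C Z K φ τ t k r) : φ 0 = 1 := by
  have := h.add 0 0
  rw [add_zero] at this
  exact left_eq_mul.mp this

theorem Zp (h : TW p C Z K φ τ t k r) : ∀ z ∈ Z, z ^ p = 1 := by
  intro z hz
  obtain ⟨s, rfl⟩ := (h.mem z).mp hz
  have key : ∀ n : ℕ, φ s ^ n = φ (n * s) := by
    intro n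
    induction n with
    | zero => simp [phi_zero h]
    | succ n ih => rw [pow_succ, ih, ← h.add]; congr 1; push_cast; ring
  haveI := h.char
  rw [key, CharP.cast_eq_zero, zero_mul, phi_zero h]

theorem Zne (h : TW p C Z K φ τ t k r) : ∃ z ∈ Z, z ≠ 1 :=
  ⟨φ 1, (h.mem _).mpr ⟨1, rfl⟩, fun e => one_ne_zero (h.inj (e.trans (phi_zero h).symm))⟩

theorem modEq_of_fix (h : TW p C Z K φ τ t k r) {n : ℕ} {z : B} (hz : z ∈ Z) (h1 : z ≠ 1)
    (hc : Commute (t ^ n) z) : k ^ n ≡ 1 [ZMOD p] := by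
  have h2 := conj_pow_eq (h.tZ z hz) n
  rw [hc.eq, mul_inv_cancel_right] at h2
  by_contra hne
  refine h1 (eq_one_of_zpow h.prime (Zp h z hz) (n := 1 - k ^ n) ?_ fun e => hne ?_)
  · rw [zpow_sub, ← h2]; simp
  · exact (Int.modEq_iff_dvd).mpr e

theorem not_dvd_k (h : TW p C Z K φ τ t k r) : ¬ (p : ℤ) ∣ k := by
  intro e
  obtain ⟨z, hz, h1⟩ := Zne h
  have h2 := h.tZ z hz
  rw [zpow_congr (Zp h z hz) ((Int.modEq_zero_iff_dvd).mpr e), zpow_zero] at h2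
  exact h1 (by simpa using h2)

theorem exists_N (h : TW p C Z K φ τ t k r) :
    ∃ N : ℕ, t ^ N = 1 ∧ ¬ p ∣ N ∧ k ^ N ≡ 1 [ZMOD p] := by
  obtain ⟨j, hj⟩ := h.pw
  obtain ⟨z, hz, h1⟩ := Zne h
  refine ⟨r ^ j, hj, fun e => h.rne ?_, modEq_of_fix h hz h1 (hj ▸ Commute.one_left z)⟩
  exact ((Nat.prime_dvd_prime_iff_eq h.prime h.rp).mp (h.prime.dvd_of_dvd_pow e)).symm

theorem t_ne (h : TW p C Z K φ τ t k r) : t ≠ 1 := by
  intro e
  obtain ⟨z, hz, h1⟩ := Zne h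
  have := modEq_of_fix h (n := 1) hz h1 (by rw [e]; simp)
  exact h.k1 (by simpa using this)

theorem semireg (h : TW p C Z K φ τ t k r) :
    ∀ s ∈ zpowers t, s ≠ 1 → ∀ z ∈ Z, Commute z s → z = 1 := by
  intro s hs hs1 z hz hc
  obtain ⟨n, rfl⟩ := (mem_powers_iff_mem_zpowers.mpr hs)
  by_contra h1
  have hk := modEq_of_fix h hz h1 hc.symm
  refine hs1 (h.tf n fun w hw => ?_)
  have h2 := conj_pow_eq (h.tZ w hw) n
  rw [zpow_congr (Zp h w hw) hk, zpow_one] at h2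
  exact mul_inv_eq_iff_eq_mul.mp h2

theorem dec (h : TW p C Z K φ τ t k r) {c : B} (hc : c ∈ K ⊔ Z) :
    ∃ y ∈ K, ∃ z ∈ Z, c = y * z := by
  haveI := h.nZ
  have : c ∈ ((K ⊔ Z : Subgroup B) : Set B) := hc
  rw [mul_normal] at this
  obtain ⟨y, hy, z, hz, e⟩ := this
  exact ⟨y, hy, z, hz, e.symm⟩

theorem step1 (h : TR p C Z K φ τ t k r x P A) (hM : TM p C Z M)
    (hm : ∀ y ∈ P, y ∈ M → y = 1) {m : B} (hmM : m ∈ M) (hx : ⁅m, x⁆ ∈ Z) :
    t * m * t⁻¹ * (m ^ k)⁻¹ ∈ Z := by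
  haveI := h.nZ
  haveI := hM.normal
  have hx1 : x ≠ 1 := by
    intro e
    have := h.xp
    rw [e, orderOf_one] at this
    exact h.prime.one_lt.ne this
  obtain ⟨y, hy, a, ha, rfl⟩ := (h.cm x h.xP hx1 m).mp ⟨hM.MC hmM, hx⟩
  by_cases hy1 : y = 1
  · rw [hy1, one_mul]; exact h.At a ha
  exfalso
  have h1 : ⁅a, y⁆ ∈ Z := ((h.cm y hy hy1 a).mpr ⟨1, one_mem _, a, ha, (one_mul a).symm⟩).2
  set π := QuotientGroup.mk' Z with hπ
  have hker : ∀ g, π g = 1 ↔ g ∈ Z := fun g => QuotientGroup.eq_one_iff g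
  have h2 : Commute (π y) (π a) := by
    have := (hker _).mpr h1
    rw [map_commutatorElement] at this
    exact (commutatorElement_eq_one_iff_commute.mp this).symm
  have h3 : π t * π a * (π t)⁻¹ = π a ^ k := by
    have := (hker _).mpr (h.At a ha)
    simpa [mul_inv_eq_one] using this
  have h4 : Commute (π t) (π y) := (h.tK y (h.PK hy)).map π
  have h5 : π ((y ^ (1 - k))⁻¹ * (t * (y * a) * t⁻¹ * ((y * a) ^ k)⁻¹)) = 1 := by
    simp only [map_mul, map_inv, map_zpow]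
    rw [h2.mul_zpow, ← h3, ← mul_assoc (π t), h4.eq]
    group
  have h6 : y ^ (1 - k) ∈ M := by
    have h7 := hM.ZM ((hker _).mp h5)
    have h8 : t * (y * a) * t⁻¹ * ((y * a) ^ k)⁻¹ ∈ M :=
      mul_mem (hM.normal.conj_mem _ hmM t) (inv_mem (zpow_mem hmM k))
    exact inv_mem_iff.mp ((mul_mem_cancel_right h8).mp h7)
  refine hy1 (eq_one_of_zpow h.prime (h.Pel y hy) (hm _ (zpow_mem hy _) h6) fun e => h.k1 ?_)
  exact (Int.modEq_iff_dvd).mpr e

theorem step2 (h : TR p C Z K φ τ t k r x P A) (hM : TM p C Z M)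
    (hm : ∀ y ∈ P, y ∈ M → y = 1) : ∀ m ∈ M, t * m * t⁻¹ * (m ^ k)⁻¹ ∈ Z := by
  haveI := h.nZ
  haveI := hM.normal
  set π := QuotientGroup.mk' Z with hπ
  have hker : ∀ g, π g = 1 ↔ g ∈ Z := fun g => QuotientGroup.eq_one_iff g
  haveI : (M.map π).Normal := hM.normal.map π (QuotientGroup.mk'_surjective Z)
  obtain ⟨N, hN1, hN2, hN3⟩ := exists_N h.toTW
  have key := scal h.prime (V := M.map π) (t := π t) (x := π x) (k := k) (N := N) ?_ ?_
    ((h.tK x (h.PK h.xP)).symm.map π) (by rw [← map_pow, h.Pel x h.xP, map_one])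
    (by rw [← map_pow, hN1, map_one]) hN2 (not_dvd_k h.toTW) hN3 ?_
  · intro m hmM
    rw [← hker]
    simp only [map_mul, map_inv, map_zpow]
    rw [key _ ⟨m, hmM, rfl⟩, mul_inv_cancel]
  · rintro _ ⟨a, ha, rfl⟩ _ ⟨b, hb, rfl⟩
    have := (hker _).mpr (hM.comm a ha b hb)
    rw [map_commutatorElement] at this
    exact commutatorElement_eq_one_iff_commute.mp this
  · rintro _ ⟨a, ha, rfl⟩
    rw [← map_pow]
    exact (hker _).mpr (hM.pow a ha)
  · rintro _ ⟨a, ha, rfl⟩ hc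
    have h1 : ⁅a, x⁆ ∈ Z := by
      rw [← hker, map_commutatorElement]
      exact commutatorElement_eq_one_iff_commute.mpr hc
    have := (hker _).mpr (step1 h hM hm ha h1)
    simpa [mul_inv_eq_one] using this

theorem comm_zpow {D : Type*} [Group D] {a b : D} (ha : Commute a ⁅a, b⁆) (n : ℤ) :
    ⁅a ^ n, b⁆ = ⁅a, b⁆ ^ n := by
  have h1 : b * a⁻¹ * b⁻¹ = a⁻¹ * ⁅a, b⁆ := by rw [commutatorElement_def]; group
  calc ⁅a ^ n, b⁆ = a ^ n * (b * a⁻¹ * b⁻¹) ^ n := by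
        rw [conj_zpow, commutatorElement_def]; group
    _ = ⁅a, b⁆ ^ n := by rw [h1, ha.inv_left.mul_zpow]; group

theorem step3 (h : TR p C Z K φ τ t k r x P A) (hM : TM p C Z M)
    (hm : ∀ y ∈ P, y ∈ M → y = 1) : ∀ a ∈ M, ∀ b ∈ M, Commute a b := by
  intro a ha b hb
  have hw := hM.comm a ha b hb
  have ha' := step2 h hM hm a ha
  have hb' := step2 h hM hm b hb
  set z := t * a * t⁻¹ * (a ^ k)⁻¹ with hz
  set z' := t * b * t⁻¹ * (b ^ k)⁻¹ with hz'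
  have e1 : t * a * t⁻¹ = z * a ^ k := by rw [hz]; group
  have e2 : t * b * t⁻¹ = z' * b ^ k := by rw [hz']; group
  have hC : ∀ m ∈ M, ∀ w ∈ Z, Commute m w := fun m hm w hw => h.cen m (hM.MC hm) w hw
  have e3 : t * ⁅a, b⁆ * t⁻¹ = ⁅a ^ k, b ^ k⁆ := by
    rw [conjugate_commutatorElement, e1, e2, commutatorElement_def, commutatorElement_def]
    have c1 := hC _ (zpow_mem ha k) z ha'
    have c2 := hC _ (zpow_mem hb k) z ha'
    have c3 := hC _ (zpow_mem ha k) z' hb'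
    have c4 := hC _ (zpow_mem hb k) z' hb'
    have c5 := hC _ (hM.ZM hb') z ha'
    calc z * a ^ k * (z' * b ^ k) * (z * a ^ k)⁻¹ * (z' * b ^ k)⁻¹
        = (z * (a ^ k * z' * b ^ k * (a ^ k)⁻¹) * z⁻¹) * (b ^ k)⁻¹ * z'⁻¹ := by group
      _ = (a ^ k * z' * b ^ k * (a ^ k)⁻¹) * (b ^ k)⁻¹ * z'⁻¹ := by
        rw [(((c1.mul_left c5).mul_left c2).mul_left c1.inv_left).symm.eq, mul_inv_cancel_right]
      _ = z' * (a ^ k * b ^ k * (a ^ k)⁻¹ * (b ^ k)⁻¹) * z'⁻¹ := by rw [c3.eq]; group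
      _ = _ := by
        rw [(((c3.mul_left c4).mul_left c3.inv_left).mul_left c4.inv_left).symm.eq,
          mul_inv_cancel_right]
  have e4 : ⁅a ^ k, b ^ k⁆ = ⁅a, b⁆ ^ (k * k) := by
    rw [comm_zpow (hC a ha _ (hM.comm a ha _ (zpow_mem hb k))), ← commutatorElement_inv (b ^ k) a,
      comm_zpow (hC b hb _ (hM.comm b hb a ha)), ← commutatorElement_inv a b, inv_zpow,
      ← zpow_mul, inv_zpow, inv_inv]
  rw [h.tZ _ hw, e4] at e3
  refine commutatorElement_eq_one_iff_commute.mp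
    (eq_one_of_zpow h.prime (Zp h.toTW _ hw) (n := k * (1 - k)) ?_ fun e => ?_)
  · rw [mul_sub, mul_one, zpow_sub, ← e3, mul_inv_cancel]
  · rcases (Nat.prime_iff_prime_int.mp h.prime).dvd_or_dvd e with e | e
    · exact not_dvd_k h.toTW e
    · exact h.k1 ((Int.modEq_iff_dvd).mpr e)

theorem step4 (h : TR p C Z K φ τ t k r x P A) (hM : TM p C Z M)
    (hm : ∀ y ∈ P, y ∈ M → y = 1) : ∀ m ∈ M, t * m * t⁻¹ = m ^ k ^ p := by
  intro m hmM
  haveI := Fact.mk h.prime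
  obtain ⟨N, hN1, hN2, hN3⟩ := exists_N h.toTW
  have hf : k ^ p ≡ k [ZMOD p] := Int.ModEq.pow_prime_eq_self h.prime k
  obtain ⟨c, hc⟩ := hf.dvd
  have hd : (m ^ k ^ p)⁻¹ * (t * m * t⁻¹) ∈ Z := by
    have h1 := h.nZ.conj_mem _ (step2 h hM hm m hmM) (m ^ k)⁻¹
    have h2 : (m ^ p) ^ c ∈ Z := zpow_mem (hM.pow m hmM) c
    have h3 : (m ^ k ^ p)⁻¹ * (t * m * t⁻¹) =
        (m ^ p) ^ c * ((m ^ k)⁻¹ * (t * m * t⁻¹ * (m ^ k)⁻¹) * (m ^ k)⁻¹⁻¹) := by
      rw [← zpow_natCast m p, ← zpow_mul, ← hc]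
      group
    rw [h3]
    exact mul_mem h2 h1
  have key := unip h.prime (t := t) (m := m) (κ := k ^ p) (N := N) (h.cen m (hM.MC hmM) _ hd)
    (by group) (by rw [h.tZ _ hd, zpow_congr (Zp h.toTW _ hd) hf]) (Zp h.toTW _ hd) hN1 hN2
    (fun e => not_dvd_k h.toTW ((Nat.prime_iff_prime_int.mp h.prime).dvd_of_dvd_pow e)) ?_
  · exact (inv_mul_eq_one.mp key).symm
  · have h1 : m ^ (p * p) = 1 := by rw [pow_mul, Zp h.toTW _ (hM.pow m hmM)]
    have h2 : (k ^ p) ^ N ≡ 1 [ZMOD (p * p : ℕ)] := by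
      rw [← pow_mul, mul_comm p N, pow_mul]
      have h3 := dvd_sub_pow_of_dvd_sub (p := p) hN3.symm.dvd 1
      refine ((Int.modEq_iff_dvd).mpr ?_).symm
      simpa [pow_two] using h3
    rw [zpow_congr h1 h2, zpow_one]

end TWd

open TWd

variable {B : Type u} [Group B] [Finite B] {p r : ℕ} {C Z K P A M : Subgroup B} {F : Type}
  [Field F] {φ : F → B} {τ : Fˣ → B} {t x : B} {k : ℤ}

theorem TR.tw_d (h : TR p C Z K φ τ t k r x P A) (hM : TM p C Z M)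
    (hm : ∀ y ∈ P, y ∈ M → y = 1) : TWc C K := by
  haveI := h.nC
  haveI := h.nZ
  haveI := hM.normal
  set U : Subgroup B := C ⊓ centralizer (M : Set B) with hU
  haveI hUn : U.Normal := inferInstance
  have hxK : x ∈ K := h.PK h.xP
  have hxp : x ^ p = 1 := h.Pel x h.xP
  have hx1 : x ≠ 1 := by
    intro e
    have := h.xp
    rw [e, orderOf_one] at this
    exact h.prime.one_lt.ne this
  have hZU : Z ≤ U := fun z hz => ⟨h.ZC hz, fun m hmM => (h.cen m (hM.MC hmM) z hz).eq⟩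
  -- the commutator group centralizes `M`
  have hcom : ⁅C, zpowers t⁆ ≤ U := by
    refine le_inf (commutator_le_left _ _) (commutator_le.mpr fun c _ s hs => ?_)
    set π := QuotientGroup.mk' (centralizer (M : Set B)) with hπ
    have hker : ∀ g, π g = 1 ↔ g ∈ centralizer (M : Set B) := fun g => QuotientGroup.eq_one_iff g
    have h1 : Commute (π c) (π t) := by
      have h2 : ⁅c⁻¹, t⁻¹⁆ ∈ centralizer (M : Set B) := by
        intro m hmM
        have h3 := step4 h hM hm _ (hM.normal.conj_mem m hmM c)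
        rw [conj_zpow, ← step4 h hM hm m hmM] at h3
        calc m * ⁅c⁻¹, t⁻¹⁆ = c⁻¹ * t⁻¹ * (t * (c * m * c⁻¹) * t⁻¹) * c * t := by
              rw [commutatorElement_def]; group
          _ = _ := by rw [h3, commutatorElement_def]; group
      have h4 := (hker _).mpr h2
      rw [map_commutatorElement, commutatorElement_eq_one_iff_commute, map_inv, map_inv] at h4
      exact Commute.inv_inv_iff.mp h4
    obtain ⟨i, rfl⟩ := mem_zpowers_iff.mp hs
    rw [← hker, map_commutatorElement, commutatorElement_eq_one_iff_commute, map_zpow]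
    exact h1.zpow_right i
  have hUK : ∀ y ∈ U, y ∈ K → y = 1 := by
    intro y hy hyK
    by_contra hy1
    have hne : M ⊓ K ≠ ⊥ := by
      intro e
      refine hM.ne fun m hmM => ?_
      have h1 : m * y * m⁻¹ = y := by rw [hy.2 m hmM, mul_inv_cancel_right]
      obtain ⟨y', hy', z, hz, rfl⟩ := dec h.toTW (h.ti m (hM.MC hmM) y hyK hy1 (h1.symm ▸ hyK))
      have h2 : y' ∈ M ⊓ K := ⟨(mul_mem_cancel_right (hM.ZM hz)).mp hmM, hy'⟩
      rw [e, mem_bot] at h2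
      rwa [h2, one_mul]
    have hp' : IsPGroup p (M ⊓ K : Subgroup B) := fun v =>
      ⟨1, Subtype.ext (by simpa using h.disj _ (hM.pow v v.2.1) (pow_mem v.2.2 p))⟩
    obtain ⟨q, hq, hq1, hqx⟩ := fixp h.prime hp' hxp (norm_of_conj fun q hq =>
      ⟨hM.normal.conj_mem q hq.1 x, K.mul_mem (K.mul_mem hxK hq.2) (K.inv_mem hxK)⟩) hne
    exact hq1 (hm q (h.cK x h.xP hx1 q hq.2 hqx) hq.1)
  have htU : ∀ c ∈ U, Commute c t → c = 1 := by
    intro c hc hct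
    refine hUK c hc (h.tfix c hc.1 ?_)
    rw [← hct.eq, mul_inv_cancel_right, inv_mul_cancel]
    exact one_mem _
  have hxU : ∀ c ∈ U, Commute c x → c ∈ Z := by
    intro c hc hcx
    have h1 : c * x * c⁻¹ = x := by rw [hcx.eq, mul_inv_cancel_right]
    obtain ⟨y, hy, z, hz, rfl⟩ := dec h.toTW (h.ti c hc.1 x hxK hx1 (h1.symm ▸ hxK))
    rwa [hUK y ((mul_mem_cancel_right (hZU hz)).mp hc) hy, one_mul]
  refine ⟨U, inf_le_left, fun c _ u hu => hUn.conj_mem u hu c, ?_, fun c hc => ?_⟩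
  · by_cases hr : r = 2
    · obtain ⟨j, hj⟩ := h.pw
      rw [hr] at hj
      exact nil h.prime (Z := Z) (Odd.of_dvd_nat h.odd (card_dvd_of_le inf_le_left)) hj
        (t_ne h.toTW) htU (h.tK x hxK).symm hxp hxU (fun z hz c hc => h.cen c hc.1 z hz)
        (Zp h.toTW) (semireg h.toTW)
    · refine Frob.isNilpotent_of_inf_centralizer_eq_bot (a := t) ?_ h.rp (h.rodd hr)
        (inf_cent_eq_bot htU)
      rw [normalizer_eq_top]; trivial
  · obtain ⟨g, hg, hgc⟩ := h.gl c hc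
    exact ⟨g, hcom hg, hgc⟩

end Cfsg.Agent.PT
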