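import Mathlib
import Cfsg.Agent.PT.Defs
import Cfsg.Agent.GT.FixedPointFreeThompson

set_option autoImplicit false

namespace Cfsg.Agent.PT

open Subgroup MulAction Cfsg.Agent.GT Cfsg.Agent.TT Cfsg.Agent.Perm.TT Cfsg.Agent.Perm.TwoCount
open Cfsg.Agent.KS (St NT)
open scoped MatrixGroups commutatorElement

universe u v

variable {B : Type u} [Group B] [Finite B] {p r : ℕ} {C Z K P A M : Subgroup B} {F : Type}
  [Field F] {φ : F → B} {τ : Fˣ → B} {t x : B} {k : ℤ}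

omit [Finite B] in
theorem TW.twe_pow (h : TW p C Z K φ τ t k r) {z : B} (hz : z ∈ Z) : z ^ p = 1 := by
  have := h.char
  obtain ⟨s, rfl⟩ := (h.mem z).1 hz
  have h0 : φ 0 = 1 := by simpa using h.add 0 0
  have h1 : ∀ n : ℕ, φ s ^ n = φ (n * s) := fun n => by
    induction n with
    | zero => simp [h0]
    | succ n ih => rw [pow_succ, ih, ← h.add, Nat.cast_succ, add_mul, one_mul]
  rw [h1, CharP.cast_eq_zero, zero_mul, h0]

omit [Finite B] in
theorem TW.twe_ti (h : TW p C Z K φ τ t k r)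
    (hf : ∀ x ∈ K, orderOf x = p → ∀ c ∈ C, c⁻¹ * x * c ∈ K ⊔ Z → c ∈ K ⊔ Z)
    {c x : B} (hc : c ∈ C) (hx : x ∈ K) (x1 : x ≠ 1) (h1 : c * x * c⁻¹ ∈ K ⊔ Z) : c ∈ K ⊔ Z := by
  have := h.nZ
  have : Fact p.Prime := ⟨h.prime⟩
  by_cases hp : x ^ p = 1
  · exact inv_mem_iff.1 (hf x hx (orderOf_eq_prime hp x1) c⁻¹ (inv_mem hc) (by rwa [inv_inv]))
  · obtain ⟨y, hy, z, hz, e⟩ := mem_sup_of_normal_right.1 h1
    refine h.ti c hc _ (pow_mem hx p) hp ?_
    rw [← conj_pow, ← e, (h.cen y (h.KC hy) z hz).mul_pow, h.twe_pow hz, mul_one]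
    exact pow_mem hy p

theorem TW.frob (h : TW p C Z K φ τ t k r)
    (hf : ∀ x ∈ K, orderOf x = p → ∀ c ∈ C, c⁻¹ * x * c ∈ K ⊔ Z → c ∈ K ⊔ Z) : TWc C K := by
  have := h.nZ
  by_cases hC : C ≤ K ⊔ Z
  · let _ : CommGroup Z := { (inferInstance : Group Z) with
      mul_comm := fun a b => Subtype.ext (h.cen a (h.ZC a.2) b b.2) }
    refine ⟨Z, h.ZC, fun c _ u hu => h.nZ.conj_mem u hu c, CommGroup.isNilpotent, fun c hc => ?_⟩
    obtain ⟨y, hy, z, hz, rfl⟩ := mem_sup_of_normal_right.1 (hC hc)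
    exact ⟨z, hz, by rwa [(h.cen y (h.KC hy) z hz).eq, inv_mul_cancel_left]⟩
  let f := QuotientGroup.mk' (Z.subgroupOf C)
  have hk : ∀ c : C, f c = 1 ↔ (c : B) ∈ Z := fun c => QuotientGroup.eq_one_iff c
  have hm : ∀ c : C, f c ∈ (K.subgroupOf C).map f ↔ (c : B) ∈ K ⊔ Z := fun c => by
    constructor
    · rintro ⟨y, hy, e⟩
      have h1 : ((y⁻¹ * c : C) : B) ∈ Z := (hk _).1 (by rw [map_mul, map_inv, e, inv_mul_cancel])
      simpa using mul_mem_sup (show (y : B) ∈ K from hy) h1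
    · intro hc
      obtain ⟨y, hy, z, hz, e⟩ := mem_sup_of_normal_right.1 hc
      refine ⟨⟨y, h.KC hy⟩, hy, ?_⟩
      rw [show c = ⟨y, h.KC hy⟩ * ⟨z, h.ZC hz⟩ from Subtype.ext e.symm, map_mul, (hk ⟨z, h.ZC hz⟩).2 hz, mul_one]
  have hH : IsFrobeniusComplement ((K.subgroupOf C).map f) := by
    refine Frob.isFrobeniusComplement_iff.2 ⟨fun e => h.Kne (eq_bot_iff.2 fun y hy => ?_), fun e => hC fun c hc => ?_, ?_⟩
    · have h1 := (hm ⟨y, h.KC hy⟩).2 (mem_sup_left hy)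
      rw [e] at h1
      exact h.disj y ((hk _).1 h1) hy
    · exact (hm ⟨c, hc⟩).1 (e ▸ mem_top _)
    · rintro g _ ⟨y, hy, rfl⟩ y1 h1
      obtain ⟨c, rfl⟩ := QuotientGroup.mk'_surjective _ g
      rw [← map_inv, ← map_mul, ← map_mul] at h1
      exact (hm c).2 (h.twe_ti hf c.2 hy (fun e => y1 (by rw [show y = 1 from Subtype.ext e, map_one])) ((hm _).1 h1))
  have hN := hH.kernel_normal
  refine ⟨(hH.kernel.comap f).map C.subtype, map_subtype_le _, ?_, ?_, fun c hc => ?_⟩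
  · rintro c hc _ ⟨u, hu, rfl⟩
    exact ⟨_, (hN.comap f).conj_mem u hu ⟨c, hc⟩, rfl⟩
  · have h1 : Group.IsNilpotent (hH.kernel.comap f) := by
      have := hH.kernel_isNilpotent
      refine Subgroup.isNilpotent_of_ker_le_center (f.subgroupComap hH.kernel) fun u hu => ?_
      have h2 : ((u : C) : B) ∈ Z := (hk _).1 (congrArg Subtype.val hu)
      exact mem_center_iff.2 fun v => Subtype.ext (Subtype.ext (h.cen _ (v : C).2 _ h2))
    exact Group.nilpotent_of_mulEquiv (equivMapOfInjective _ _ C.subtype_injective)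
  · obtain ⟨⟨n, _, y, hy, rfl⟩, e, -⟩ := hH.isComplement'_kernel.existsUnique (f ⟨c, hc⟩)
    refine ⟨_, ⟨⟨c, hc⟩ * y⁻¹, ?_, rfl⟩, by simpa using mem_subgroupOf.1 hy⟩
    show f _ ∈ hH.kernel
    rw [map_mul, map_inv, ← e, mul_inv_cancel_right]
    exact n.2

end Cfsg.Agent.PT
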