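import Mathlib
import Cfsg.Agent.PT.TyA
import Cfsg.Agent.Perm.PGOnan

/-! Pairs with several partners in the inductive situation. -/

set_option autoImplicit false

namespace Cfsg.Agent.PT

open Subgroup MulAction Cfsg.Agent.GT Cfsg.Agent.TT Cfsg.Agent.Perm.TT Cfsg.Agent.Perm.TwoCount
open Cfsg.Agent.KS (St NT)
open scoped MatrixGroups commutatorElement

universe u v

namespace PU1

/-- An invariant set of odd size contains an orbit of odd size. -/
theorem odd_orbit {H : Type u} {Ω : Type v} [Group H] [MulAction H Ω] [Finite Ω] :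
    ∀ (n : ℕ) (S : Set Ω), S.ncard = n → (∀ (g : H), ∀ s ∈ S, g • s ∈ S) → Odd S.ncard →
      ∃ d ∈ S, Odd (orbit H d).ncard := by
  intro n
  induction n using Nat.strong_induction_on with
  | _ n ih =>
    intro S hn hS ho
    have hne : S.Nonempty := by
      rw [← Set.ncard_pos (Set.toFinite _)]
      exact ho.pos
    obtain ⟨d, hd⟩ := hne
    by_cases h1 : Odd (orbit H d).ncard
    · exact ⟨d, hd, h1⟩
    have hsub : orbit H d ⊆ S := by
      rintro _ ⟨g, rfl⟩
      exact hS g d hd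
    have hc : (S \ orbit H d).ncard + (orbit H d).ncard = S.ncard :=
      Set.ncard_sdiff_add_ncard_of_subset hsub
    have hpos : 0 < (orbit H d).ncard :=
      (Set.ncard_pos (Set.toFinite _)).2 ⟨d, mem_orbit_self d⟩
    obtain ⟨e, he, h2⟩ := ih (S \ orbit H d).ncard (by omega) (S \ orbit H d) rfl
      (fun g s hs => ⟨hS g s hs.1, fun hh => hs.2 (by
        have := mem_orbit_of_mem_orbit g⁻¹ hh
        simpa using this)⟩)
      (by
        rw [Nat.odd_iff] at ho h1 ⊢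
        omega)
    exact ⟨e, he.1, h2⟩

/-- An involution preserving a set of odd size fixes a point of it. -/
theorem exists_fix {G : Type u} {Ω : Type v} [Group G] [MulAction G Ω] [Finite Ω] {S : Set Ω}
    {z : G} (hz : z * z = 1) (hS : ∀ s ∈ S, z • s ∈ S) (ho : Odd S.ncard) :
    ∃ d ∈ S, z • d = d := by
  have h1 := Cfsg.Agent.Perm.TwoCount.parity hS (fun s _ => by rw [← mul_smul, hz, one_smul])
  have h2 : (S ∩ fixedBy Ω z).Nonempty := by
    rw [← Set.ncard_pos (Set.toFinite _)]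
    rw [Nat.odd_iff] at ho
    omega
  obtain ⟨d, hd, hd'⟩ := h2
  exact ⟨d, hd, hd'⟩

end PU1

variable {G : Type u} {Ω : Type v} [Group G] [MulAction G Ω] [Finite G] [Finite Ω]
  {E : Ω → Set G} {p : ℕ} {x y x' y' c : Ω} {a b a' b' d g : G}

variable (h : MC E p)
include h

theorem MC.pu1 (hi : Imp E x y) : Even (Nat.card Ω) ∧ Odd {c | Imp E x c}.ncard ∧
    (∀ c, SLp E x c → ∃ g : G, g • x = x ∧ g • y = c) ∧ ∀ c, SLp E x c → Imp E x c := by
  have hT := h.toTG
  have hne : ∀ {c : Ω}, ¬ R E x c → x ≠ c := fun hr e => hr (e ▸ hT.R_refl x)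
  have hev : Even (Nat.card Ω) := by
    obtain ⟨hr, a, ha, b, hb, hz⟩ := hT.imp_slp h.r1 hi
    obtain ⟨h2, h3, h4, -⟩ := hT.zz_sq ha hr hb
    exact h.even_of_inv (orderOf_eq_prime (by rw [pow_two, h2]) hz) ha h3 (hne hr)
      (hT.fix_of_commute hb.1 h4)
  have hodd : Odd ({x}ᶜ : Set Ω).ncard := by
    have h1 := Set.ncard_add_ncard_compl ({x} : Set Ω)
    rw [Set.ncard_singleton] at h1
    rw [Nat.even_iff] at hev
    rw [Nat.odd_iff]
    omega
  obtain ⟨d, hd, ho⟩ := PU1.odd_orbit (H := stabilizer G x) _ ({x}ᶜ : Set Ω) rfl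
    (fun g s hs e => hs (by
      have e' : (g : G) • s = (g : G) • x := by
        rw [show (g : G) • x = x from g.2]
        exact e
      exact MulAction.injective _ e')) hodd
  have hdx : d ≠ x := hd
  have hO : ∀ c, SLp E x c → c ∈ orbit (stabilizer G x) d := by
    rintro c ⟨hr, a, ha, b, hb, hz⟩
    obtain ⟨h2, h3, -, -⟩ := hT.zz_sq ha hr hb
    have hzx : zz a b • x = x := hT.fix_of_commute ha h3
    obtain ⟨e, he, hf⟩ := PU1.exists_fix (S := orbit (stabilizer G x) d) h2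
      (fun s hs => mem_orbit_of_mem_orbit (⟨zz a b, hzx⟩ : stabilizer G x) hs) ho
    rcases (h.fix_zz (hne hr) ha hb hz).2 hf with e1 | ⟨u, hu, e1⟩
    · obtain ⟨g, hg⟩ := he
      have e' : (g : G) • d = (g : G) • x := by
        rw [show (g : G) • x = x from g.2]
        exact hg.trans e1
      exact absurd (MulAction.injective _ e') hdx
    · have hux : u⁻¹ • x = x := hT.Z_fix (hT.R_refl x) (inv_mem hu)
      have := mem_orbit_of_mem_orbit (⟨u⁻¹, hux⟩ : stabilizer G x) he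
      rw [← e1] at this
      change u⁻¹ • u • c ∈ _ at this
      rwa [inv_smul_smul] at this
  have hy := hO y (hT.imp_slp h.r1 hi)
  have htr : ∀ c ∈ orbit (stabilizer G x) d, ∃ g : G, g • x = x ∧ g • y = c := by
    intro c hc
    rw [← orbit_eq_iff.2 hy] at hc
    obtain ⟨g, hg⟩ := hc
    exact ⟨g, g.2, hg⟩
  have himp : ∀ c ∈ orbit (stabilizer G x) d, Imp E x c := by
    intro c hc
    obtain ⟨g, h1, h2⟩ := htr c hc
    have := (hT.imp_smul h.r1 g).2 hi
    rwa [h1, h2] at this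
  refine ⟨hev, ?_, fun c hc => htr c (hO c hc), fun c hc => himp c (hO c hc)⟩
  have e : {c | Imp E x c} = orbit (stabilizer G x) d :=
    Set.Subset.antisymm (fun c hc => hO c (hT.imp_slp h.r1 hc)) himp
  rw [e]
  exact ho

theorem MC.pu2 (hi : ∀ x y : Ω, x ≠ y → Imp E x y) : False := by
  have hT := h.toTG
  have : Fact p.Prime := ⟨hT.prime⟩
  have hC : Perm.PG.Cen (Z E) :=
    { two := fun x y x' y' hxy hxy' => by
        obtain ⟨g, hg⟩ := hT.tr x x'
        have h1 : x' ≠ g • y := by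
          rw [← hg]
          exact fun e => hxy (MulAction.injective g e)
        obtain ⟨k, k1, k2⟩ := (h.pu1 (hi _ _ h1)).2.2.1 y' (hT.imp_slp h.r1 (hi _ _ hxy'))
        exact ⟨k * g, by rw [mul_smul, hg, k1], by rw [mul_smul, k2]⟩
      faith := h.faith
      eqv := fun g x a ha => (hT.Z_conj g).2 ha
      fix := fun x a ha => hT.Z_fix (hT.R_refl x) ha
      comm := fun x a ha b hb => (hT.Z_commute (hT.R_refl x) ha hb).eq
      nsr := fun x y hxy => by
        obtain ⟨⟨a, ha⟩, h1⟩ := (Subgroup.ne_bot_iff_exists_ne_one).1 (hT.imp_vv h.r1 (hi x y hxy))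
        exact ⟨a, ha.1, fun e => h1 (Subtype.ext e), ha.2⟩ }
  obtain ⟨x, y, hr⟩ := hT.nc
  have hxy : x ≠ y := fun e => hr (e ▸ hT.R_refl x)
  obtain ⟨s, hs⟩ := hC.exists_not_mem_ln hxy
  obtain ⟨a, ha⟩ := hT.ne s
  obtain ⟨w, hw, e⟩ := (hC.elGeom hT.Z_isPGroup).hyp x y s hxy a (hT.mem_Z ha)
  exact hs (((hT.fix_iff h.r1 ha).1 e) ▸ hw)

theorem MC.pu3 (h4 : p % 4 = 1) (hi : Imp E x y) (hc : x ≠ c) : Imp E x c := by
  have hT := h.toTG
  have : Fact p.Prime := ⟨hT.prime⟩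
  by_contra hp
  obtain ⟨hev, hodd, -, hsl⟩ := h.pu1 hi
  have hr : ¬ R E x c := hT.opp h.r1 hc
  obtain ⟨a, ha⟩ := hT.ne x
  obtain ⟨b, hb⟩ := hT.exists_pa ha hr
  obtain ⟨F, _, ρ, hch, -, -, -⟩ := hT.exists_ch_pa ha hr hb
  have h1 : ρ (-1) = 1 := by
    rw [← hT.zz_eq h.r1 hc hp hch ha hb]
    by_contra hz
    exact hp (hsl c ⟨hr, a, ha, b, hb, hz⟩)
  have := hch.char
  obtain ⟨i, hi2⟩ : IsSquare (-1 : ZMod p) := ZMod.exists_sq_eq_neg_one_iff.2 (by omega)
  obtain ⟨k, rfl⟩ := ZMod.intCast_surjective i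
  have hk : k * k ≡ -1 [ZMOD p] := by
    rw [← ZMod.intCast_eq_intCast_iff]
    push_cast
    exact hi2.symm
  have hkF : (k : F) * (k : F) = -1 := by
    have := (CharP.intCast_eq_intCast F p).2 hk
    push_cast at this
    exact this
  have hk0 : (k : F) ≠ 0 := by
    intro e
    rw [e] at hkF
    simp at hkF
  set l : Fˣ := Units.mk0 (k : F) hk0 with hl
  have hl2 : (l : F) ^ 2 = -1 := by rw [pow_two]; exact hkF
  have hll : l * l = -1 := Units.ext (by simpa [hl] using hkF)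
  have hli : l⁻¹ = -l := by
    rw [inv_eq_iff_mul_eq_one, mul_neg, hll, neg_neg]
  set u := ρ (dg l) with hu
  have hsc : Sc E x u (-1) := hT.Sc_congr (hT.sc_dg h.r1 hc hp hch (k := k) rfl) hk
  have hu2 : u * u = 1 := by
    rw [hu, ← map_mul, ← dg_mul, hll, dg_neg, dg_one, h1]
  have hn2 : ρ (wy 1) * ρ (wy 1) = 1 := by
    rw [← map_mul, wy_sq one_ne_zero, h1]
  have hnu : ρ (wy 1) * u * (ρ (wy 1))⁻¹ = u := by
    rw [hu, ← map_inv, ← map_mul, ← map_mul, wy_dg l one_ne_zero, hli, dg_neg, ← neg_one_mul,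
      map_mul, h1, one_mul]
  have hpar1 := parity_fixedBy (Ω := Ω) hu2
  have hpar2 := Cfsg.Agent.Perm.TwoCount.parity (Δ := {c | Imp E x c}) (x := u)
    (fun s hs => by
      have := (hT.imp_smul h.r1 u).2 hs
      rwa [hsc.1] at this)
    (fun s _ => by rw [← mul_smul, hu2, one_smul])
  have hsplit : fixedBy Ω u = {δ | Sc E δ u (-1)} ∪ ({c | Imp E x c} ∩ fixedBy Ω u) := by
    ext δ
    constructor
    · intro hδ
      by_cases e : x = δ
      · exact Or.inl (e ▸ hsc)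
      by_cases e' : Imp E x δ
      · exact Or.inr ⟨e', hδ⟩
      · exact Or.inl (hT.sl1 h.r1 e e' hsc hδ (by norm_num))
    · rintro (hδ | hδ)
      · exact hδ.1
      · exact hδ.2
  have hdis : Disjoint {δ | Sc E δ u (-1)} ({c | Imp E x c} ∩ fixedBy Ω u) :=
    Set.disjoint_left.2 fun δ h1 h2 => hT.imp_not_inv h.r1 h2.1 hu2 hsc h1
  have hcard := Set.ncard_union_eq hdis
  rw [← hsplit] at hcard
  have hFs : Odd {δ | Sc E δ u (-1)}.ncard := by
    rw [Nat.even_iff] at hev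
    rw [Nat.odd_iff] at hodd ⊢
    omega
  obtain ⟨δ, hδ, hf⟩ := PU1.exists_fix hn2 (fun s hs => by
    have := hT.Sc_conj hs (ρ (wy 1))
    rwa [hnu] at this) hFs
  exact hT.nu h.r1 hch h1 hl2 hsc one_ne_zero hf hδ

theorem MC.pu4 (hi : Imp E x y) (hc : x ≠ c) (hp : ¬ Imp E x c) : YY E x c = ⊤ := by
  have hT := h.toTG
  have : Fact p.Prime := ⟨hT.prime⟩
  by_contra hY
  obtain ⟨F, _, ρ, hg⟩ := h.gc hc hp hY
  have := hg.fin
  have := hg.char
  have := Fintype.ofFinite F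
  have h1 : p ∣ Nat.card F := by
    rw [Nat.card_eq_fintype_card]
    exact (CharP.cast_eq_zero_iff F p _).1 (FiniteField.cast_card_eq_zero F)
  have h2 := hT.imp_dvd h.r1 hi
  have h3 : p ∣ 1 := by
    rcases hg.card_E hT with e | e
    · rw [← e] at h1
      exact (Nat.dvd_add_right h2).1 h1
    · rw [← e] at h1
      exact (Nat.dvd_add_right (h2.mul_left 2)).1 h1
  exact hT.prime.one_lt.ne' (Nat.dvd_one.1 h3)

end Cfsg.Agent.PT
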