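import Mathlib
import Cfsg.Agent.PT.PU1
import Cfsg.Agent.Perm.Witt
import Cfsg.Agent.GT.FixedPointFreeThompson
import Cfsg.Agent.GT.Fitting
import Cfsg.Agent.GT.Cores

set_option autoImplicit false
set_option linter.unusedSectionVars false

namespace Cfsg.Agent.PT

open Subgroup MulAction Cfsg.Agent.GT Cfsg.Agent.TT Cfsg.Agent.Perm.TT Cfsg.Agent.Perm.TwoCount
open Cfsg.Agent.KS (St NT)
open scoped MatrixGroups commutatorElement

universe u v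

variable {G : Type u} {Ω : Type v} [Group G] [MulAction G Ω] [Finite G] [Finite Ω]
  {E : Ω → Set G} {p : ℕ} {x y x' y' c : Ω} {a b a' b' d g : G}

namespace PU5

theorem exk (hp : p.Prime) (h5 : 5 ≤ p) (h4 : p % 4 = 3) : ∃ (r : ℕ) (k : ℤ), r.Prime ∧ r ≠ p ∧
    k ^ r ≡ 1 [ZMOD p] ∧ ¬ k * k * (k * k) ≡ 1 [ZMOD p] := by
  have := Fact.mk hp
  obtain ⟨r, hr, hd⟩ := Nat.exists_prime_and_dvd (n := (p - 1) / 2) (by omega)
  have := Fact.mk hr
  have hle : r ≤ (p - 1) / 2 := Nat.le_of_dvd (by omega) hd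
  have h2 : r ≠ 2 := by rintro rfl; omega
  obtain ⟨u, hu⟩ := exists_prime_orderOf_dvd_card' (G := (ZMod p)ˣ) r (by
    rw [Nat.card_eq_fintype_card, ZMod.card_units]
    exact hd.trans (Nat.div_dvd_of_dvd (by omega)))
  have e : (((u : ZMod p).val : ℤ) : ZMod p) = u := by simp
  refine ⟨r, (u : ZMod p).val, hr, by omega, ?_, fun k => ?_⟩
  · rw [← ZMod.intCast_eq_intCast_iff, Int.cast_pow, e, Int.cast_one, ← Units.val_pow_eq_pow_val, ← hu,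
      pow_orderOf_eq_one, Units.val_one]
  · rw [← ZMod.intCast_eq_intCast_iff, Int.cast_mul, Int.cast_mul, e, Int.cast_one] at k
    have h1 : u ^ 2 ^ 2 = 1 := Units.ext (by rw [Units.val_pow_eq_pow_val, Units.val_one, ← k]; ring)
    have := orderOf_dvd_of_pow_eq_one h1
    rw [hu] at this
    exact h2 ((Nat.prime_dvd_prime_iff_eq hr Nat.prime_two).1 (hr.dvd_of_dvd_pow this))

theorem dg_pow {K : Type*} [Field K] (l : Kˣ) (n : ℕ) : dg l ^ n = dg (l ^ n) := by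
  induction n with
  | zero => rw [pow_zero, pow_zero, dg_one]
  | succ n ih => rw [pow_succ, pow_succ, dg_mul, ih]

theorem sq_ne {K : Type*} [Field K] (h2 : (2 : K) ≠ 0) (μ : K) :
    slUp 1 * slLo μ * (slUp 1 * slLo μ) ≠ 1 := fun e => by
  have e' : (!![1, 1; 0, 1] * !![1, 0; μ, 1] * (!![1, 1; 0, 1] * !![1, 0; μ, 1]) : Matrix (Fin 2) (Fin 2) K) = 1 :=
    congrArg Subtype.val e
  have h1 := congrFun (congrFun e' 0) 1
  have h3 := congrFun (congrFun e' 1) 1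
  simp at h1 h3
  exact h2 (by linear_combination h1 - h3)

/-- The block of a point. -/
def B (E : Ω → Set G) (w : Ω) : Set Ω := {v | v = w ∨ Imp E w v}

theorem self_mem (w : Ω) : w ∈ B E w := Or.inl rfl

theorem not_mem {w v : Ω} : v ∉ B E w ↔ w ≠ v ∧ ¬ Imp E w v := by
  simp only [B, Set.mem_ofPred_eq, not_or, ne_eq, eq_comm]

/-- The situation to be refuted. -/
structure Bad (E : Ω → Set G) (p : ℕ) : Prop extends MC E p where
  h4 : p % 4 = 3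
  imp : ∀ w, ∃ y, Imp E w y
  lam : ∀ w, ∃ c, c ∉ B E w

variable {w v γ : Ω} {j : G}

theorem B_smul (h : MC E p) (g : G) : g • v ∈ B E (g • w) ↔ v ∈ B E w := by
  simp only [B, Set.mem_ofPred_eq, smul_left_cancel_iff, h.toTG.imp_smul h.r1]

namespace Bad

variable (h : Bad E p)
include h

theorem B_fix (hg : g • w = w) : g • v ∈ B E w ↔ v ∈ B E w := by
  rw [← B_smul h.toMC g (v := v), hg]

theorem tor {r : ℕ} {k : ℤ} (hr : r.Prime) (hrp : r ≠ p) (hk : k ^ r ≡ 1 [ZMOD p])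
    (hk4 : ¬ k * k * (k * k) ≡ 1 [ZMOD p]) (hγ : γ ∉ B E w) :
    ∃ t : G, t ^ r = 1 ∧ Sc E w t (k * k) ∧ t • γ = γ ∧ ∀ c, t • c = c → c = w ∨ c = γ := by
  obtain ⟨hne, hp⟩ := not_mem.1 hγ
  obtain ⟨a, ha⟩ := h.ne w
  obtain ⟨d, hd⟩ := h.ne γ
  obtain ⟨F, _, ρ, μ, hc, -⟩ := h.toTG.exists_ch ha hd (h.toTG.opp h.r1 hne)
  have := hc.char
  have e : (k : F) ^ r = 1 := by
    rw [← Int.cast_pow, ← Int.cast_one]; exact (CharP.intCast_eq_intCast F p).2 hk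
  have k0 : (k : F) ≠ 0 := fun e0 => by
    rw [e0, zero_pow hr.ne_zero] at e; exact zero_ne_one e
  have t1 : ρ (dg (Units.mk0 (k : F) k0)) ^ r = 1 := by
    rw [← map_pow, dg_pow, show Units.mk0 (k : F) k0 ^ r = 1 from Units.ext (by simpa using e), dg_one, map_one]
  have hs := h.toTG.sc_dg h.r1 hne hp hc (l := Units.mk0 (k : F) k0) (k := k) rfl
  have hy := (hc.dg_fix h.toTG (Units.mk0 (k : F) k0)).2
  have hk' : k * k * (k ^ (r - 1) * k ^ (r - 1)) ≡ 1 [ZMOD p] := by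
    have e1 : k * k * (k ^ (r - 1) * k ^ (r - 1)) = k ^ r * k ^ r := by
      conv_rhs => rw [← Nat.sub_add_cancel hr.one_le, pow_succ]
      ring
    rw [e1]
    simpa using hk.mul hk
  exact ⟨_, t1, hs, hy, fun c hc' => h.toTG.two_fix h.r1 (i := 1) hne hr hrp (by rwa [pow_one]) hs
    (h.toTG.sl1 h.r1 hne hp hs hy hk') hk' hk4 hc'⟩

theorem free (hγ : γ ∉ B E w) (hg : g ∈ CZ E w) (hf : g • γ = γ) : g = 1 := by
  obtain ⟨hne, hp⟩ := not_mem.1 hγ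
  obtain ⟨y, hy⟩ := h.imp w
  have := h.toMC.KK_bot hne hp (h.toMC.pu4 hy hne hp)
  exact mem_bot.1 (this ▸ (⟨hg, hf⟩ : g ∈ KK E w γ))

theorem cj (hg : g • w = w) {u : G} (hu : u ∈ CZ E w) : g * u * g⁻¹ ∈ CZ E w := by
  have := (h.toTG.CZ_conj g).2 hu
  rwa [hg] at this

theorem nrm (hg : g • w = w) : g ∈ normalizer (CZ E w : Set G) :=
  mem_normalizer_iff.2 fun u => by
    have := h.toTG.CZ_conj (x := w) g (k := u)
    rw [hg] at this
    exact this.symm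

theorem trans (hγ : γ ∉ B E w) (hv : v ∉ B E w) : ∃ u ∈ CZ E w, u • γ = v := by
  obtain ⟨r, k, hr, hrp, hk, hk4⟩ := exk h.prime h.five h.h4
  obtain ⟨t0, -, s0, f0, -⟩ := h.tor hr hrp hk hk4 hγ
  let H : Subgroup G :=
    { carrier := {g | g • w = w ∧ ∃ u ∈ CZ E w, u • γ = g • γ}
      one_mem' := ⟨one_smul _ _, 1, one_mem _, rfl⟩
      mul_mem' := fun {g g'} ⟨h1, u, hu, e⟩ ⟨h2, u', hu', e'⟩ => ⟨by rw [mul_smul, h2, h1],
        g * u' * g⁻¹ * u, mul_mem (h.cj h1 hu') hu, by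
          rw [mul_smul, e, mul_smul, inv_smul_smul, mul_smul, e', mul_smul]⟩
      inv_mem' := fun {g} ⟨h1, u, hu, e⟩ => by
        have h2 : g⁻¹ • w = w := inv_smul_eq_iff.2 h1.symm
        refine ⟨h2, g⁻¹ * u⁻¹ * g⁻¹⁻¹, h.cj h2 (inv_mem hu), ?_⟩
        rw [inv_inv, mul_smul, ← e, mul_smul, inv_smul_smul] }
  obtain ⟨g, ⟨-, u, hu, e⟩, e'⟩ := Perm.gleason_trans hr H (B E w)ᶜ
    (fun g hg x hx k => hx ((h.B_fix hg.1).1 k))
    (fun δ hδ => by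
      obtain ⟨t, t1, s1, f1, u1⟩ := h.tor hr hrp hk hk4 hδ
      refine ⟨zpowers t, zpowers_le.2 ⟨s1.1, t * t0⁻¹, h.toTG.Sc_div s1 s0, ?_⟩,
        Perm.isPGroup_zpowers_of_pow (k := 1) (by rwa [pow_one]),
        fun g hg => (zpowers_le.2 f1 : zpowers t ≤ stabilizer G δ) hg, fun y hy hf => ?_⟩
      · rw [mul_smul, inv_smul_eq_iff.2 f0.symm]
      · exact (u1 y (hf t (mem_zpowers t))).resolve_left fun e => hy (e ▸ self_mem _))
    γ hγ v hv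
  exact ⟨u, hu, e.trans e'⟩

theorem nilp (w : Ω) : Group.IsNilpotent (CZ E w) := by
  obtain ⟨γ, hγ⟩ := h.lam w
  obtain ⟨r, k, hr, hrp, hk, hk4⟩ := exk h.prime h.five h.h4
  obtain ⟨t, t1, s1, f1, u1⟩ := h.tor hr hrp hk hk4 hγ
  refine Frob.isNilpotent_of_inf_centralizer_eq_bot (h.nrm s1.1) hr t1 (eq_bot_iff.2 fun g hg => ?_)
  have e : g * t = t * g := mem_centralizer_singleton_iff.1 hg.2
  have h1 := u1 (g • γ) (by rw [← mul_smul, ← e, mul_smul, f1])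
  refine mem_bot.2 (h.free hγ hg.1 (h1.resolve_left fun e => hγ ?_))
  rw [← h.B_fix (h.toTG.CZ_fix hg.1), e]
  exact self_mem _

theorem fixJ (hj : j ∈ CZ E w) (h2 : j * j = 1) (h1 : j ≠ 1) : j • v = v ↔ v ∈ B E w := by
  refine ⟨fun e => by_contra fun k => h1 (h.free k hj e), ?_⟩
  rintro (rfl | hv)
  · exact h.toTG.CZ_fix hj
  have := h.nilp w
  have hP : j ∈ pCoreOf 2 (CZ E w) := le_pCoreOf_of_isNilpotent (zpowers_le.2 hj)
    (Perm.isPGroup_zpowers_of_pow (p := 2) (k := 1) (by rw [pow_one, sq, h2])) (mem_zpowers j)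
  obtain ⟨v0, hv0, hf⟩ := Perm.exists_fixed_of_not_dvd (isPGroup_pCoreOf 2 (CZ E w)) {c | Imp E w c}
    (Set.toFinite _) (fun g hg x hx => by
      have := (h.toTG.imp_smul h.r1 g).2 hx
      rwa [h.toTG.CZ_fix (pCoreOf_le _ hg)] at this)
    (h.toMC.pu1 hv).2.1.not_two_dvd_nat
  obtain ⟨g, g1, rfl⟩ := (h.toMC.pu1 hv0).2.2.1 v (h.toTG.imp_slp h.r1 hv)
  have := hf _ ((mem_normalizer_iff''.1 (normalizer_le_normalizer_pCoreOf _ (h.nrm g1)) j).1 hP)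
  rw [mul_smul, mul_smul, inv_smul_eq_iff] at this
  exact this

theorem even_B (w : Ω) : Even (B E w).ncard ∧ Even (B E w)ᶜ.ncard := by
  obtain ⟨y, hy⟩ := h.imp w
  obtain ⟨h1, h2, -⟩ := h.toMC.pu1 hy
  have e : (B E w).ncard = {c | Imp E w c}.ncard + 1 :=
    Set.ncard_insert_of_notMem (s := {c | Imp E w c}) (a := w) (fun k => k.1 (h.toTG.R_refl w)) (Set.toFinite _)
  have h3 : Even (B E w).ncard := e ▸ h2.add_one
  rw [← Set.ncard_add_ncard_compl (B E w), Nat.even_add] at h1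
  exact ⟨h3, h1.1 h3⟩

theorem inv_of (hγ : γ ∉ B E w) {S : Subgroup G} (hS : S ≤ CZ E w) {T : Set Ω} (hT : T ⊆ (B E w)ᶜ)
    (hm : ∀ g ∈ CZ E w, g ∈ S ↔ g • γ ∈ T) (he : Even T.ncard) : ∃ j ∈ S, j * j = 1 ∧ j ≠ 1 := by
  have e : Nat.card S = Nat.card T := Nat.card_eq_of_bijective
    (fun g : S => (⟨(g : G) • γ, (hm g (hS g.2)).1 g.2⟩ : T))
    ⟨fun g g' e => Subtype.ext (inv_mul_eq_one.1 (h.free hγ (mul_mem (inv_mem (hS g'.2)) (hS g.2)) (by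
        rw [mul_smul, inv_smul_eq_iff]; exact congrArg Subtype.val e))).symm,
      fun ⟨v, hv⟩ => by
        obtain ⟨u, hu, e⟩ := h.trans hγ (hT hv)
        exact ⟨⟨u, (hm u hu).2 (e ▸ hv)⟩, Subtype.ext e⟩⟩
  obtain ⟨j, hj⟩ := exists_prime_orderOf_dvd_card' (G := S) 2 (by rw [e]; exact he.two_dvd)
  refine ⟨j, j.2, ?_, fun k => ?_⟩
  · have := pow_orderOf_eq_one j
    rw [hj, sq] at this
    exact congrArg Subtype.val this
  · rw [show j = 1 from Subtype.ext k, orderOf_one] at hj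
    omega

theorem toC (hj : j ∈ CZ E w) (h2 : j * j = 1) (h1 : j ≠ 1) (hv : v ∈ B E w) : j ∈ CZ E v := by
  by_cases e : w = v
  · exact e ▸ hj
  · exact h.toTG.imp_cent h.r1 e h2 hj ((h.fixJ hj h2 h1).2 hv)

theorem B_eq (hv : v ∈ B E w) : B E v = B E w := by
  obtain ⟨γ, hγ⟩ := h.lam w
  obtain ⟨j, hj, h2, h1⟩ := h.inv_of hγ le_rfl subset_rfl
    (fun g hg => iff_of_true hg fun k => hγ ((h.B_fix (h.toTG.CZ_fix hg)).1 k)) (h.even_B w).2
  ext z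
  rw [← h.fixJ hj h2 h1, ← h.fixJ (h.toC hj h2 h1 hv) h2 h1]

theorem B_symm (hv : v ∈ B E w) : w ∈ B E v := by rw [h.B_eq hv]; exact self_mem w

theorem false (x : Ω) : False := by
  obtain ⟨c, hc⟩ := h.lam x
  obtain ⟨j, ⟨hj, hjc⟩, h2, h1⟩ := h.inv_of hc (S := CZ E x ⊓ St G (B E c)) inf_le_left (T := B E c)
    (fun v hv k => hc (by rw [← h.B_eq k, h.B_eq hv]; exact self_mem c))
    (fun g hg => ⟨fun k => (k.2 c).2 (self_mem c), fun k => ⟨hg, fun v => by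
      rw [← B_smul h.toMC g (v := v), h.B_eq k]⟩⟩) (h.even_B c).1
  have jc : j • c ∈ B E c := (hjc c).2 (self_mem c)
  have ji : Imp E c (j • c) := jc.resolve_left fun e => h1 (h.free hc hj e)
  obtain ⟨a, ha⟩ := h.ne x
  have hr := h.toTG.opp h.r1 (not_mem.1 hc).1
  obtain ⟨d, hd⟩ := h.toTG.exists_pa ha hr
  obtain ⟨n1, n2, -⟩ := h.toTG.nn_swap ha hr hd
  have cj2 : ∀ (g : G) {i : G}, i * i = 1 → g * i * g⁻¹ * (g * i * g⁻¹) = 1 := fun g i hi => by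
    rw [conj_mul, hi]; simp
  have cj1 : ∀ (g : G) {i : G}, i ≠ 1 → g * i * g⁻¹ ≠ 1 := fun g i hi k => hi (conj_eq_one_iff.1 k)
  obtain ⟨j', hj'⟩ : ∃ j', j' = nn a d * j * (nn a d)⁻¹ := ⟨_, rfl⟩
  have c1 : j' ∈ CZ E c := by rw [hj', ← n1]; exact (h.toTG.CZ_conj _).2 hj
  have c2 : j' * j' = 1 := hj' ▸ cj2 _ h2
  have c3 : j' ≠ 1 := hj' ▸ cj1 _ h1
  have c4 : j' • x ∈ B E x := by
    have := (B_smul h.toMC (nn a d)).2 jc
    rwa [n2, ← inv_smul_eq_iff.2 n2.symm, ← mul_smul, ← mul_smul, ← hj'] at this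
  have i1 := h.toC ((h.toTG.CZ_conj j').2 hj) (cj2 _ h2) (cj1 _ h1) (h.B_symm c4)
  have i2 := h.toC ((h.toTG.CZ_conj j).2 c1) (cj2 _ c2) (cj1 _ c3) (h.B_symm jc)
  have e1 : j' * j * j'⁻¹ * j⁻¹ = 1 := h.free hc (mul_mem i1 (inv_mem hj)) (by
    rw [show j' * j * j'⁻¹ * j⁻¹ = j' * (j * j' * j⁻¹)⁻¹ by group]
    exact h.toTG.CZ_fix (mul_mem c1 (inv_mem i2)))
  have ja : j * a = a * j := h.toTG.mem_CZ.1 hj a ha
  have e2 : j' = a * (d * j * d⁻¹) * a⁻¹ := by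
    rw [hj', nn]
    calc a * d * a * j * (a * d * a)⁻¹ = a * d * (a * j) * a⁻¹ * d⁻¹ * a⁻¹ := by group
      _ = _ := by rw [← ja]; group
  have e3 : d * j * d⁻¹ * j = j * (d * j * d⁻¹) := by
    have e4 : j' * j = j * j' := by rwa [mul_inv_eq_one, mul_inv_eq_iff_eq_mul] at e1
    calc d * j * d⁻¹ * j = a⁻¹ * (j' * (a * j)) := by rw [e2]; group
      _ = a⁻¹ * (j * j' * a) := by rw [← ja, ← mul_assoc j', e4]
      _ = a⁻¹ * (j * a) * (d * j * d⁻¹) := by rw [e2]; group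
      _ = _ := by rw [ja]; group
  have ji' : j⁻¹ = j := inv_eq_of_mul_eq_one_right h2
  have e5 : d * (j * d * j⁻¹)⁻¹ * (d * (j * d * j⁻¹)⁻¹) = 1 := by
    calc d * (j * d * j⁻¹)⁻¹ * (d * (j * d * j⁻¹)⁻¹)
        = d * j * d⁻¹ * j⁻¹ * (d * j * d⁻¹) * j⁻¹ := by group
      _ = j * (d * j * d⁻¹ * (d * j * d⁻¹)) * j := by rw [ji', e3]; group
      _ = 1 := by rw [cj2 d h2, mul_one, h2]
  obtain ⟨F, _, ρ, μ, hch, -, r1, r2, -⟩ := h.toTG.exists_ch hd.1 (h.conj j c d hd.1) ji.1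
  have := hch.char
  have two : (2 : F) ≠ 0 := fun e => by
    have := (CharP.cast_eq_zero_iff F p 2).1 (by exact_mod_cast e)
    have := Nat.le_of_dvd (by omega) this
    have := h.five
    omega
  have e6 : ρ (slUp 1 * slLo (-μ) * (slUp 1 * slLo (-μ))) = 1 := by
    rw [map_mul, map_mul, slLo_neg, map_inv, r1, r2, e5]
  have e7 := (hch.ker h.toTG e6).resolve_left (sq_ne two _)
  rw [e7] at e6
  exact h.toTG.slp_all h.r1 (h.toTG.imp_slp h.r1 ji) (hch.up_one h.toTG)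
    (hch.lo_mem h.toTG one_ne_zero (hch.up_one h.toTG)) ((hch.zz_eq h.toTG one_ne_zero).trans e6)

end Bad

end PU5

variable (h : MC E p)
include h

theorem MC.pu5 (h4 : p % 4 = 3) (hi : Imp E x y) (hc : x ≠ c) : Imp E x c := by
  by_contra hp
  refine PU5.Bad.false (E := E) (p := p) ⟨h, h4, fun w => ?_, fun w => ?_⟩ x
  · obtain ⟨g, rfl⟩ := h.tr x w
    exact ⟨g • y, (h.toTG.imp_smul h.r1 g).2 hi⟩
  · obtain ⟨g, rfl⟩ := h.tr x w
    exact ⟨g • c, fun k => PU5.not_mem.2 ⟨hc, hp⟩ ((PU5.B_smul h g).1 k)⟩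

end Cfsg.Agent.PT
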