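import Mathlib
import Cfsg.Agent.PT.TyA
import Cfsg.Agent.Perm.Witt

set_option autoImplicit false

namespace Cfsg.Agent.PT

open Subgroup MulAction Cfsg.Agent.GT Cfsg.Agent.TT Cfsg.Agent.Perm.TT Cfsg.Agent.Perm.TwoCount
open Cfsg.Agent.KS (St NT)
open scoped MatrixGroups commutatorElement

universe u v

variable {G : Type u} {Ω : Type v} [Group G] [MulAction G Ω] [Finite G] [Finite Ω]
  {E : Ω → Set G} {p : ℕ} {x y x' y' c : Ω} {a b a' b' d g : G}

variable {F : Type} [Field F] {ρ : SL(2, F) →* G} {l : Fˣ}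

namespace SC

theorem five_zero {K : Type*} [Field K] [CharP K 5] : (5 : K) = 0 := by
  simpa using CharP.cast_eq_zero K 5

theorem two_ne {K : Type*} [Field K] [CharP K 5] : (2 : K) ≠ 0 := by
  intro e
  have h5 : (5 : K) = 0 := five_zero
  have : (1 : K) = 0 := by linear_combination h5 - 2 * e
  exact one_ne_zero this

theorem unit_of_sq {K : Type*} [Field K] [CharP K 5] (hs : IsSquare (2 : K)) :
    ∃ l : Kˣ, (l : K) ^ 2 = 2 := by
  obtain ⟨r, hr⟩ := hs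
  have h0 : r ≠ 0 := by
    rintro rfl
    exact two_ne (by simpa using hr)
  exact ⟨Units.mk0 r h0, by simp [sq, ← hr]⟩

theorem sq_two {K : Type*} [Field K] [Finite K] [CharP K 5] (σ : K ≃+* K)
    (h2 : ∀ t, σ (σ t) = t) (h1 : ∃ t, σ t ≠ t) : IsSquare (2 : K) := by
  classical
  obtain ⟨t, ht⟩ := h1
  set d : K := t - σ t with hd
  have hd0 : d ≠ 0 := sub_ne_zero.2 ht.symm
  have hσ : σ d = -d := by rw [hd, map_sub, h2]; ring
  let S : Subfield K := RingHom.eqLocusField (σ : K →+* K) (RingHom.id K)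
  have hm : ∀ z : K, z ∈ S ↔ σ z = z := fun z => Iff.rfl
  haveI : Fintype S := Fintype.ofFinite S
  have hdd : d * d ∈ S := (hm _).2 (by rw [map_mul, hσ]; ring)
  have h2S : (2 : K) ∈ S := (hm _).2 (map_ofNat σ 2)
  by_contra hn
  have n1 : ¬ IsSquare (⟨2, h2S⟩ : S) := by
    rintro ⟨r, hr⟩
    exact hn ⟨(r : K), congrArg Subtype.val hr⟩
  have n2 : ¬ IsSquare (⟨d * d, hdd⟩ : S) := by
    rintro ⟨r, hr⟩
    have e : d * d = (r : K) * r := congrArg Subtype.val hr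
    have hr' : σ (r : K) = r := (hm _).1 r.2
    have h3 : σ d = d := by
      rcases mul_self_eq_mul_self_iff.1 e with e | e
      · rw [e, hr']
      · rw [e, map_neg, hr']
    have : 2 * d = 0 := by linear_combination hσ - h3
    exact hd0 ((mul_eq_zero.1 this).resolve_left two_ne)
  have q1 := (quadraticChar_neg_one_iff_not_isSquare (F := S)).2 n1
  have q2 := (quadraticChar_neg_one_iff_not_isSquare (F := S)).2 n2
  have q3 : quadraticChar S (⟨2, h2S⟩ * ⟨d * d, hdd⟩) = 1 := by rw [map_mul, q1, q2]; norm_num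
  have n0 : (⟨2, h2S⟩ * ⟨d * d, hdd⟩ : S) ≠ 0 := by
    intro e
    have e' : (2 : K) * (d * d) = 0 := congrArg Subtype.val e
    exact mul_ne_zero two_ne (mul_ne_zero hd0 hd0) e'
  obtain ⟨r, hr⟩ := (quadraticChar_one_iff_isSquare n0).1 q3
  have e : (2 : K) * (d * d) = (r : K) * r := congrArg Subtype.val hr
  refine hn ⟨(r : K) / d, ?_⟩
  field_simp
  linear_combination e

theorem dg_wy {K : Type*} [Field K] (l : Kˣ) (s : K) :
    dg l * wy s * (dg l)⁻¹ = wy ((l : K) ^ 2 * s) := by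
  have e : dg l * wy s * (dg l)⁻¹ = (dg l * slUp s * (dg l)⁻¹) *
      (dg l * slLo (-s⁻¹) * (dg l)⁻¹) * (dg l * slUp s * (dg l)⁻¹) := by
    unfold wy; group
  rw [e, dg_up, dg_lo]
  unfold wy
  congr 3
  rw [Units.val_inv_eq_inv_val, mul_inv, inv_pow]; ring

theorem dg_inv {K : Type*} [Field K] (l : Kˣ) : dg l⁻¹ = (dg l)⁻¹ := by
  rw [eq_inv_iff_mul_eq_one, ← dg_mul, inv_mul_cancel, dg_one]

theorem dg_pow {K : Type*} [Field K] (l : Kˣ) (n : ℕ) : dg (l ^ n) = dg l ^ n := by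
  induction n with
  | zero => rw [pow_zero, pow_zero, dg_one]
  | succ n ih => rw [pow_succ, pow_succ, dg_mul, ih]

theorem isP {t : G} {i : ℕ} (ht : t ^ 2 ^ i = 1) : IsPGroup 2 (zpowers t) := by
  rintro ⟨g, k, rfl⟩
  refine ⟨i, Subtype.ext ?_⟩
  show (t ^ k) ^ 2 ^ i = 1
  rw [← zpow_natCast, ← zpow_mul, mul_comm, zpow_mul, zpow_natCast, ht, one_zpow]

theorem not_full (h : TG E p) (hf : ¬ Full E) (x : Ω) : ∃ u ∈ Z E x, u ≠ 1 ∧ u ∉ E x := by
  unfold Full at hf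
  push Not at hf
  obtain ⟨x₀, u, hu, h1, h2⟩ := hf
  obtain ⟨g, rfl⟩ := h.tr x₀ x
  refine ⟨g * u * g⁻¹, (h.Z_conj g).2 hu, ?_, fun e => h2 (h.conj_iff.1 e)⟩
  intro e
  exact h1 (by simpa using conj_eq_one_iff.1 e)

theorem pair (h : TG E p) (hf : ¬ Full E) (x : Ω) :
    ∃ a ∈ E x, ∃ a' ∈ E x, a * a' ≠ 1 ∧ a * a' ∉ E x := by
  obtain ⟨u, hu, h1, h2⟩ := not_full h hf x
  by_contra hn
  push Not at hn
  have key : ∀ v ∈ Z E x, v = 1 ∨ v ∈ E x := by
    intro v hv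
    induction hv using closure_induction with
    | mem a ha => exact Or.inr ha
    | one => exact Or.inl rfl
    | mul a a' _ _ ha ha' =>
      rcases ha with rfl | ha
      · rwa [one_mul]
      rcases ha' with rfl | ha'
      · rw [mul_one]; exact Or.inr ha
      by_cases e : a * a' = 1
      · exact Or.inl e
      · exact Or.inr (hn a ha a' ha' e)
    | inv a _ ha =>
      rcases ha with rfl | ha
      · exact Or.inl inv_one
      · exact Or.inr (h.inv_mem ha)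
  exact (key u hu).elim h1 h2

theorem up_zpow (hc : Ch E 5 ρ x y) (s : F) (k : ℕ) :
    ρ (slUp s) ^ (k : ℤ) = ρ (slUp ((k : F) * s)) := by
  rw [zpow_natCast, ← map_pow, slUp_pow]

theorem two_mem (h : TG E 5) (hc : Ch E 5 ρ x y) : ρ (slUp 2) ∈ E x := by
  have h1 := h.zpow_mem (hc.up_one h) (k := ((2 : ℕ) : ℤ)) (by decide)
  rw [up_zpow hc] at h1
  simpa using h1

/-- the square of `dg l` is a scalar `-1` -/
theorem sc_neg (h : MP E 5) (hxy : x ≠ y) (hc : Ch E 5 ρ x y) (hl : (l : F) ^ 2 = 2) :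
    Sc E x (ρ (dg l) * ρ (dg l)) (-1) := by
  have h1 := h.toTG.sc_dg h.r1 hxy (h.pure x y) hc (l := l * l) (k := 2)
    (by rw [Units.val_mul, ← sq, hl]; simp)
  rw [dg_mul, map_mul] at h1
  exact h.toTG.Sc_congr h1 (by decide)

theorem eq_of_sc (h : TG E p) (hK : KK E x y = ⊥) {k : ℤ} {g' : G} (h1 : Sc E x g k)
    (h2 : Sc E x g' k) (e1 : g • y = y) (e2 : g' • y = y) : g = g' := by
  have : g * g'⁻¹ ∈ KK E x y := by
    refine mem_inf.2 ⟨h.Sc_div h1 h2, ?_⟩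
    exact mul_mem (mem_stabilizer_iff.2 e1) (inv_mem (mem_stabilizer_iff.2 e2))
  rw [hK, mem_bot] at this
  exact mul_inv_eq_one.1 this

theorem ne_of_ch (h : TG E p) (hc : Ch E p ρ x y) : x ≠ y := by
  rintro rfl
  exact hc.opp (h.R_refl x)

/-- a chart on which `ρ (dg l)` induces a field automorphism -/
theorem chart (h : MP E 5) (hc : Ch E 5 ρ x y) (hl : (l : F) ^ 2 = 2)
    (hn : ¬ Sc E x (ρ (dg l)) 2) :
    ∃ (F' : Type) (_ : Field F') (ρ' : SL(2, F') →* G), Ch E 5 ρ' x y ∧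
      (∀ M, ρ (dg l) * ρ' M * (ρ (dg l))⁻¹ ∈ ρ'.range) ∧
      ∀ m : F', m * m = -1 →
        ¬ ∀ s, ρ (dg l) * ρ' (slUp s) * (ρ (dg l))⁻¹ = ρ' (slUp (m * s)) := by
  have hxy := ne_of_ch h.toTG hc
  obtain ⟨fx, fy⟩ := hc.dg_fix h.toTG l
  have hu := sc_neg h hxy hc hl
  set t := ρ (dg l) with ht
  have hn' : ∃ a ∈ E x, t * a * t⁻¹ ≠ a ^ (2 : ℤ) := by
    by_contra hh
    push Not at hh
    exact hn (h.toTG.Sc_iff.2 ⟨fx, hh⟩)
  obtain ⟨a, ha, hne⟩ := hn'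
  by_cases h3 : t * a * t⁻¹ = a ^ (3 : ℤ)
  · have e1 : t * ρ (slUp 1) * t⁻¹ = ρ (slUp 1) ^ ((2 : ℕ) : ℤ) := by
      rw [up_zpow hc, ht, ← map_inv, ← map_mul, ← map_mul, dg_up, hl]; simp
    obtain ⟨F', _, ρ', s, hc', u1, us, hN⟩ := h.toTG.norm_ch h.r1 hxy (h.pure x y) fx fy
      (hc.up_one h.toTG) ha (Or.inl ⟨_, e1.symm⟩) (Or.inr ⟨_, h3.symm⟩)
    refine ⟨F', _, ρ', hc', hN, fun m _ hm => hne ?_⟩
    have e2 := hm 1
    rw [u1, e1, ← u1, up_zpow hc'] at e2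
    have e3 := hc'.up_inj h.toTG e2
    have e4 : (2 : ℤ) = ((2 : ℕ) : ℤ) := rfl
    rw [← us, hm, e4, up_zpow hc']
    congr 2
    linear_combination (-s) * e3
  · have ha' : t * a * t⁻¹ ∈ E x := by
      have := h.toTG.conj t x a ha
      rwa [fx] at this
    have e1 : t * (t * a * t⁻¹) * t⁻¹ = a ^ (-1 : ℤ) := by
      rw [← hu.2 a (h.toTG.mem_Z ha)]; group
    obtain ⟨F', _, ρ', s, hc', u1, us, hN⟩ := h.toTG.norm_ch h.r1 hxy (h.pure x y) fx fy
      ha ha' (Or.inr (mem_zpowers _)) (Or.inl ⟨_, e1.symm⟩)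
    refine ⟨F', _, ρ', hc', hN, fun m hm2 hm => ?_⟩
    haveI := hc'.char
    have h5 : (5 : F') = 0 := five_zero
    have e2 := hm 1
    rw [u1] at e2
    have e3 : (m - 2) * (m - 3) = 0 := by linear_combination hm2 + (1 - m) * h5
    have e4 : (2 : ℤ) = ((2 : ℕ) : ℤ) := rfl
    have e5 : (3 : ℤ) = ((3 : ℕ) : ℤ) := rfl
    rcases mul_eq_zero.1 e3 with e | e
    · refine hne ?_
      rw [e2, ← u1, e4, up_zpow hc', sub_eq_zero.1 e]; simp
    · refine h3 ?_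
      rw [e2, ← u1, e5, up_zpow hc', sub_eq_zero.1 e]; simp

/-- a scalar `2` gives a `2`-group fixing only two points -/
theorem grp_of_sc (h : MP E 5) (hc : Ch E 5 ρ x y) (hl : (l : F) ^ 2 = 2)
    (hs : Sc E x (ρ (dg l)) 2) :
    ∃ P : Subgroup G, IsPGroup 2 P ∧ (∀ g ∈ P, g • x = x) ∧ (∀ g ∈ P, g • y = y) ∧
      ∀ c : Ω, (∀ g ∈ P, g • c = c) → c = x ∨ c = y := by
  have hxy := ne_of_ch h.toTG hc
  obtain ⟨fx, fy⟩ := hc.dg_fix h.toTG l
  haveI := hc.char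
  have h5 : (5 : F) = 0 := five_zero
  have h8 : ρ (dg l) ^ 2 ^ 3 = 1 := by
    have : l ^ 2 ^ 3 = 1 := by
      ext
      rw [Units.val_pow_eq_pow_val, show 2 ^ 3 = 2 * 4 from rfl, pow_mul, hl, Units.val_one]
      linear_combination 3 * h5
    rw [← map_pow, ← dg_pow, this, dg_one, map_one]
  have hy := h.toTG.sl1 h.r1 hxy (h.pure x y) hs fy (k' := 3) (by decide)
  refine ⟨zpowers (ρ (dg l)), isP h8, ?_, ?_, fun c hcf => ?_⟩
  · exact fun g hg => mem_stabilizer_iff.1 ((zpowers_le.2 (mem_stabilizer_iff.2 fx)) hg)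
  · exact fun g hg => mem_stabilizer_iff.1 ((zpowers_le.2 (mem_stabilizer_iff.2 fy)) hg)
  · exact h.toTG.two_fix h.r1 hxy Nat.prime_two (by decide) h8 hs hy (by decide) (by decide)
      (hcf _ (mem_zpowers _))

end SC

open SC

theorem MP.ev (h : MP E 5) (hf : ¬ Full E) (hxy : x ≠ y) :
    ∃ (F : Type) (_ : Field F) (ρ : SL(2, F) →* G) (l : Fˣ), Ch E 5 ρ x y ∧ (l : F) ^ 2 = 2 := by
  obtain ⟨a, ha, a', ha', h1, h2⟩ := pair h.toTG hf x
  obtain ⟨b, hb⟩ := h.toTG.exists_pa ha (h.toTG.opp h.r1 hxy)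
  obtain ⟨F, _, ρ, s, hc, u1, -, us, -, -⟩ :=
    h.toTG.common h.r1 hxy (h.pure x y) ha ha' hb
  haveI := hc.char
  have hs : IsSquare (2 : F) := by
    by_contra hn
    have e : a * a' = ρ (slUp (s + 1)) := by rw [slUp_add, map_mul, us, u1]
    by_cases h0 : s + 1 = 0
    · exact h1 (by rw [e, h0, slUp_zero, map_one])
    · exact h2 (e ▸ Ch.all_mem h.toTG hc hn (two_mem h.toTG hc) h0)
  obtain ⟨l, hl⟩ := unit_of_sq hs
  exact ⟨F, _, ρ, l, hc, hl⟩

theorem MP.sc (h : MP E 5) (hK : KK E x y = ⊥) (hc : Ch E 5 ρ x y) (hl : (l : F) ^ 2 = 2)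
    (hn : ¬ Sc E x (ρ (dg l)) 2) :
    ∃ (F' : Type) (_ : Field F') (ρ' : SL(2, F') →* G) (l' : F'ˣ) (s : F') (j : G),
      Ch E 5 ρ' x y ∧ (l' : F') ^ 2 = 2 ∧ s ≠ 0 ∧ j * j = 1 ∧ j • x = x ∧ j • y = y ∧
        ¬ Sc E x j 1 ∧ ¬ Sc E x j (-1) ∧ Commute j (ρ' (wy s)) ∧
          Commute j (ρ' (wy ((l' : F') * s))) := by
  have hxy := ne_of_ch h.toTG hc
  obtain ⟨fx, fy⟩ := hc.dg_fix h.toTG l
  have hu := sc_neg h hxy hc hl
  obtain ⟨F', _, ρ', hc', hN, hm⟩ := chart h hc hl hn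
  set t := ρ (dg l) with ht
  obtain ⟨m, σ, m0, su, -, sw, sd⟩ := Ch.semi h.toTG hc' fx fy hN
  haveI := hc'.char
  haveI := hc'.fin
  have h5 : (5 : F') = 0 := five_zero
  have t2 : (2 : F') ≠ 0 := two_ne
  have hsq : ∀ s, m * σ (m * σ s) = -s := by
    intro s
    apply hc'.up_inj h.toTG
    rw [← su, ← su, slUp_neg, map_inv, ← zpow_neg_one (ρ' (slUp s)),
      ← hu.2 _ (hc'.upZ h.toTG s)]
    group
  have hmm : m * σ m = -1 := by simpa using hsq 1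
  have hσ2 : ∀ s, σ (σ s) = s := by
    intro s
    have := hsq s
    rw [map_mul, ← mul_assoc, hmm] at this
    linear_combination -this
  have hσ1 : ∃ s, σ s ≠ s := by
    by_contra hh
    push Not at hh
    refine hm m (by rw [← hmm, hh]) fun s => ?_
    rw [su, hh]
  obtain ⟨l', hl'⟩ := unit_of_sq (sq_two σ hσ2 hσ1)
  have hneg : ρ' (-1) = 1 := by
    have := h.toTG.neg_mem h.r1 hxy (h.pure x y) hc'
    rwa [hK, mem_bot] at this
  have hneg' : ∀ M, ρ' (-M) = ρ' M := by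
    intro M
    rw [← neg_one_mul, map_mul, hneg, one_mul]
  have hσl : σ l' = l' ∨ σ l' = -l' := by
    apply sq_eq_sq_iff_eq_or_eq_neg.1
    rw [← map_pow, hl', map_ofNat]
  have hct : t * ρ' (dg l') * t⁻¹ = ρ' (dg l') := by
    rcases hσl with e | e
    · exact sd l' l' e.symm
    · rw [sd l' (-l') (by rw [e, Units.val_neg]), dg_neg, hneg']
  have hcm : Commute t (ρ' (dg l')) := by
    rw [Commute, SemiconjBy, ← mul_inv_eq_iff_eq_mul, hct]
  obtain ⟨fx', fy'⟩ := hc'.dg_fix h.toTG l'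
  have hu' := sc_neg h hxy hc' hl'
  have huu : t * t = ρ' (dg l') * ρ' (dg l') :=
    eq_of_sc h.toTG hK hu hu' (by rw [mul_smul, fy, fy]) (by rw [mul_smul, fy', fy'])
  have hli : ((l'⁻¹ : F'ˣ) : F') ^ 2 = 3 := by
    have e : ((l'⁻¹ : F'ˣ) : F') ^ 2 * (l' : F') ^ 2 = 1 := by
      rw [← mul_pow, Units.inv_mul, one_pow]
    rw [hl'] at e
    linear_combination 3 * e - ((l'⁻¹ : F'ˣ) : F') ^ 2 * h5
  set j := t * (ρ' (dg l'))⁻¹ with hj
  have ju : ∀ s, j * ρ' (slUp s) * j⁻¹ = ρ' (slUp (3 * m * σ s)) := by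
    intro s
    have e : j * ρ' (slUp s) * j⁻¹ = t * ρ' (dg l'⁻¹ * slUp s * (dg l'⁻¹)⁻¹) * t⁻¹ := by
      rw [hj, dg_inv, map_mul, map_mul, map_inv, map_inv, map_inv]; group
    rw [e, dg_up, su, hli, map_mul, map_ofNat]
    congr 2
    ring
  have jw : ∀ s, j * ρ' (wy s) * j⁻¹ = ρ' (wy (3 * m * σ s)) := by
    intro s
    have e : j * ρ' (wy s) * j⁻¹ = t * ρ' (dg l'⁻¹ * wy s * (dg l'⁻¹)⁻¹) * t⁻¹ := by
      rw [hj, dg_inv, map_mul, map_mul, map_inv, map_inv, map_inv]; group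
    rw [e, dg_wy, sw, hli, map_mul, map_ofNat]
    congr 2
    ring
  have nid : ∀ ε : F', ε ≠ 0 → ¬ ∀ s, 3 * m * σ s = ε * s := by
    intro ε h0 hh
    obtain ⟨s, hs⟩ := hσ1
    have e1 := hh 1
    have e2 := hh s
    rw [map_one, mul_one, mul_one] at e1
    rw [e1] at e2
    exact hs (mul_left_cancel₀ h0 e2)
  have hs0 : ∃ s, s + 3 * m * σ s ≠ 0 := by
    by_contra hh
    push Not at hh
    exact nid (-1) (by simp) fun s => by linear_combination hh s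
  obtain ⟨s, hs⟩ := hs0
  have hfix : 3 * m * σ (s + 3 * m * σ s) = s + 3 * m * σ s := by
    rw [map_add, map_mul, map_mul, map_ofNat, hσ2]
    linear_combination (9 * s) * hmm - 2 * s * h5
  refine ⟨F', _, ρ', l', s + 3 * m * σ s, j, hc', hl', hs, ?_, ?_, ?_, ?_, ?_, ?_, ?_⟩
  · have e : j * j = t * t * (ρ' (dg l') * ρ' (dg l'))⁻¹ := by
      rw [hj, mul_inv_rev, mul_assoc, mul_assoc, ← mul_assoc (ρ' (dg l'))⁻¹ t,
        ← hcm.inv_right.eq, mul_assoc]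
    rw [e, huu, mul_inv_cancel]
  · rw [hj, mul_smul, inv_smul_eq_iff.2 fx'.symm, fx]
  · rw [hj, mul_smul, inv_smul_eq_iff.2 fy'.symm, fy]
  · intro hs1
    refine nid 1 one_ne_zero fun s => hc'.up_inj h.toTG ?_
    rw [← ju, hs1.2 _ (hc'.upZ h.toTG s), zpow_one, one_mul]
  · intro hs1
    refine nid (-1) (by simp) fun s => hc'.up_inj h.toTG ?_
    rw [← ju, hs1.2 _ (hc'.upZ h.toTG s), zpow_neg_one, neg_one_mul, slUp_neg, map_inv]
  · rw [Commute, SemiconjBy, ← mul_inv_eq_iff_eq_mul, jw, hfix]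
  · rw [Commute, SemiconjBy, ← mul_inv_eq_iff_eq_mul, jw, map_mul, mul_left_comm, hfix]
    rcases hσl with e | e
    · rw [e]
    · rw [e, neg_mul, wy_neg (mul_ne_zero l'.ne_zero hs), hneg']

theorem SC.grp (h : MP E 5) (hf : ¬ Full E) (hxy : x ≠ y) :
    ∃ P : Subgroup G, IsPGroup 2 P ∧ (∀ g ∈ P, g • x = x) ∧ (∀ g ∈ P, g • y = y) ∧
      ∀ c : Ω, (∀ g ∈ P, g • c = c) → c = x ∨ c = y := by
  by_cases hY : YY E x y = ⊤
  · have hK := h.toMC.KK_bot hxy (h.pure x y) hY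
    obtain ⟨F, _, ρ, l, hc, hl⟩ := h.ev hf hxy
    by_cases hs : Sc E x (ρ (dg l)) 2
    · exact grp_of_sc h hc hl hs
    obtain ⟨-, -, -, -, -, j, -, -, -, jj, jx, jy, n1, n2, -, -⟩ := h.sc hK hc hl hs
    have hu := sc_neg h hxy hc hl
    obtain ⟨fx, fy⟩ := hc.dg_fix h.toTG l
    set u := ρ (dg l) * ρ (dg l) with hu'
    have uy : u • y = y := by rw [hu', mul_smul, fy, fy]
    have uu : u * u = 1 := by
      refine eq_of_sc h.toTG hK (k := 1) ?_ (h.toTG.Sc_one.2 (one_mem _)) ?_ (one_smul _ _)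
      · simpa using h.toTG.Sc_mul hu hu
      · rw [mul_smul, uy, uy]
    have ju : j * u * j⁻¹ = u := by
      refine eq_of_sc h.toTG hK ?_ hu ?_ uy
      · have := h.toTG.Sc_conj hu j
        rwa [jx] at this
      · rw [mul_smul, mul_smul, inv_smul_eq_iff.2 jy.symm, uy, jy]
    have hcm : Commute j u := by rw [Commute, SemiconjBy, ← mul_inv_eq_iff_eq_mul, ju]
    refine ⟨zpowers j ⊔ zpowers u, ?_, ?_, ?_, fun c hcf => ?_⟩
    · refine IsPGroup.to_sup_of_normal_right' (isP (i := 1) (by simpa [sq] using jj))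
        (isP (i := 1) (by simpa [sq] using uu)) ?_
      refine zpowers_le.2 (centralizer_le_normalizer _ ?_)
      rintro _ ⟨k, rfl⟩
      exact (hcm.zpow_right k).eq.symm
    · exact fun g hg => mem_stabilizer_iff.1 ((sup_le (zpowers_le.2 (mem_stabilizer_iff.2 jx))
        (zpowers_le.2 (mem_stabilizer_iff.2 hu.1))) hg)
    · exact fun g hg => mem_stabilizer_iff.1 ((sup_le (zpowers_le.2 (mem_stabilizer_iff.2 jy))
        (zpowers_le.2 (mem_stabilizer_iff.2 uy))) hg)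
    · exact h.four_fix (by decide) hxy hK jj jx jy n1 n2 hu uy
        (hcf _ (mem_sup_left (mem_zpowers _))) (hcf _ (mem_sup_right (mem_zpowers _)))
  · obtain ⟨F, _, ρ, hc⟩ := h.toMC.gc hxy (h.pure x y) hY
    haveI := hc.char
    have hs : IsSquare (2 : F) := by
      by_contra hn
      obtain ⟨u, hu, h1, h2⟩ := not_full h.toTG hf x
      obtain ⟨s, rfl⟩ := hc.allup u hu
      refine h2 (Ch.all_mem h.toTG hc.toCh hn (two_mem h.toTG hc.toCh) ?_)
      rintro rfl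
      exact h1 (by rw [slUp_zero, map_one])
    obtain ⟨l, hl⟩ := unit_of_sq hs
    exact grp_of_sc h hc.toCh hl (GC.sc h.toTG hc (k := 2) (by rw [hl]; simp))

theorem MP.two5 (h : MP E 5) (hf : ¬ Full E) : Two G Ω := by
  have key : ∀ x c d : Ω, c ≠ x → d ≠ x → ∃ g : G, g • x = x ∧ g • c = d := by
    intro x c d hc hd
    obtain ⟨g, hg, e⟩ := Cfsg.Agent.Perm.gleason_trans Nat.prime_two (stabilizer G x)
      {c | c ≠ x} (fun g hg z hz e => hz ((smul_left_cancel_iff g).1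
        (e.trans (mem_stabilizer_iff.1 hg).symm))) (fun z hz => by
        obtain ⟨P, h1, h2, h3, h4⟩ := SC.grp h hf (Ne.symm hz)
        exact ⟨P, fun g hg => mem_stabilizer_iff.2 (h2 g hg), h1, h3,
          fun w hw hf' => (h4 w hf').resolve_left hw⟩) c hc d hd
    exact ⟨g, mem_stabilizer_iff.1 hg, e⟩
  refine ⟨h.faith, fun {a b c d} hab hcd => ?_⟩
  obtain ⟨g, rfl⟩ := h.toTG.tr a c
  obtain ⟨k, h1, h2⟩ := key (g • a) (g • b) d
    (fun e => hab ((smul_left_cancel_iff g).1 e).symm) hcd.symm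
  exact ⟨k * g, by rw [mul_smul, h1], by rw [mul_smul, h2]⟩

end Cfsg.Agent.PT
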