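import Mathlib
import Cfsg.Agent.PT.Defs
import Cfsg.Agent.PT.TRI5c1
import Cfsg.Agent.PT.TRI5c2
import Cfsg.Agent.PT.TRI5c3
import Cfsg.Agent.PT.TRI5c4

set_option autoImplicit false

namespace Cfsg.Agent.PT

open Subgroup MulAction Cfsg.Agent.GT Cfsg.Agent.TT Cfsg.Agent.Perm.TT Cfsg.Agent.Perm.TwoCount
open Cfsg.Agent.KS (St NT)
open scoped MatrixGroups commutatorElement

universe u v

namespace TRI5

open Cfsg.Agent.Spor

def hw (a A b B : List ℕ) : List ℕ := a ++ a ++ b ++ b ++ b ++ a ++ a ++ A ++ B ++ A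

def iw (a A b B : List ℕ) : List ℕ := a ++ b ++ a ++ A ++ A ++ B ++ B ++ B ++ A ++ A

def zw (a b : List ℕ) : List ℕ := a ++ b ++ a ++ a ++ b ++ a

def r5w (a A b B : List ℕ) : List (List ℕ) :=
  [a ++ a ++ a ++ a ++ a, b ++ b ++ b ++ b ++ b, a ++ b ++ a ++ B ++ A ++ B, zw a b ++ zw a b,
    hw a A b B ++ a ++ iw a A b B ++ A ++ A ++ A ++ A,
    hw a A b B ++ b ++ iw a A b B ++ B ++ B ++ B ++ B]

def rels (l : ℕ) : List (List ℕ) :=
  [[], [0, 1], [1, 0], [2, 3], [3, 2], [4, 5], [5, 4], zw [0] [4],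
    hw [0] [1] [4] [5] ++ [2] ++ hw [0] [1] [4] [5] ++ [2]] ++ r5w [0] [1] [2] [3] ++
    r5w [0] [1] [4] [5] ++ r5w (List.replicate l 4) (List.replicate l 5) [2] [3]

variable {G : Type u} [Group G] {g : ℕ → G} {a A b B : List ℕ} {x y : G}

theorem ev_hw (ha : evalW g a = x) (hA : evalW g A = x⁻¹) (hb : evalW g b = y)
    (hB : evalW g B = y⁻¹) : evalW g (hw a A b B) = hh x y := by
  simp only [hw, evalW_append, ha, hA, hb, hB, hh, nn, pow_succ, pow_zero, one_mul, mul_inv_rev,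
    mul_assoc]

theorem ev_iw (ha : evalW g a = x) (hA : evalW g A = x⁻¹) (hb : evalW g b = y)
    (hB : evalW g B = y⁻¹) : evalW g (iw a A b B) = (hh x y)⁻¹ := by
  simp only [iw, evalW_append, ha, hA, hb, hB, hh, nn, pow_succ, pow_zero, one_mul, mul_inv_rev,
    inv_inv, mul_assoc]

theorem ev_zw (ha : evalW g a = x) (hb : evalW g b = y) : evalW g (zw a b) = zz x y := by
  simp only [zw, evalW_append, ha, hb, zz, nn, mul_assoc]

theorem ev_r5w (ha : evalW g a = x) (hA : evalW g A = x⁻¹) (hb : evalW g b = y)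
    (hB : evalW g B = y⁻¹) (h : R5 x y) : ∀ w ∈ r5w a A b B, evalW g w = 1 := by
  have h3 : x * y * x = y * x * y := h.br
  simp only [r5w, List.mem_cons, List.not_mem_nil, or_false, forall_eq_or_imp, forall_eq,
    evalW_append, ev_hw ha hA hb hB, ev_iw ha hA hb hB, ev_zw ha hb, ha, hA, hb, hB, h.ha, h.hb,
    h.n4, h3]
  refine ⟨?_, ?_, ?_, trivial, ?_, ?_⟩
  · rw [← h.a5]; simp only [pow_succ, pow_zero, one_mul]
  · rw [← h.b5]; simp only [pow_succ, pow_zero, one_mul]
  · group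
  · group
  · group

theorem ev_rep (g : ℕ → G) (i l : ℕ) : evalW g (List.replicate l i) = g i ^ l := by
  induction l with
  | zero => simp
  | succ n ih => rw [List.replicate_succ, evalW_cons, ih, pow_succ']

/-- the letters -/
def gen (a b c : G) : ℕ → G
  | 0 => a
  | 1 => a⁻¹
  | 2 => b
  | 3 => b⁻¹
  | 4 => c
  | _ => c⁻¹

theorem ev_rels {a b c : G} {l : ℕ} (hab : R5 a b) (hac : R5 a c) (hcb : R5 (c ^ l) b)
    (hz : zz a c = 1) (hu : hh a c * b * hh a c * b = 1) :
    ∀ w ∈ rels l, evalW (gen a b c) w = 1 := by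
  have e0 : evalW (gen a b c) [0] = a := by simp [gen]
  have e1 : evalW (gen a b c) [1] = a⁻¹ := by simp [gen]
  have e2 : evalW (gen a b c) [2] = b := by simp [gen]
  have e3 : evalW (gen a b c) [3] = b⁻¹ := by simp [gen]
  have e4 : evalW (gen a b c) [4] = c := by simp [gen]
  have e5 : evalW (gen a b c) [5] = c⁻¹ := by simp [gen]
  intro w hw
  simp only [rels, List.mem_append] at hw
  rcases hw with ((hw | hw) | hw) | hw
  · revert w
    simp only [List.mem_cons, List.not_mem_nil, or_false, forall_eq_or_imp, forall_eq,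
      evalW_append, ev_hw e0 e1 e4 e5, ev_zw e0 e4, e2, hz, hu]
    simp [gen]
  · exact ev_r5w e0 e1 e2 e3 hab w hw
  · exact ev_r5w e0 e1 e4 e5 hac w hw
  · exact ev_r5w (ev_rep _ 4 l) ((ev_rep _ 5 l).trans (inv_pow c l)) e2 e3 hcb w hw

theorem all_rels {t : LT} {L : List (List ℕ)} (h : ∀ w ∈ L, evalW g w = 1)
    (ht : t.all (fun w => decide (w ∈ L)) = true) (i : ℕ) : evalW g (t.get i) = 1 :=
  h _ (of_decide_eq_true (LT.all_get ht i))

theorem hinv (a b c : G) :
    ∀ x < 6, gen a b c x * gen a b c (getP 8 255 0x40502030001 x) = 1 := by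
  intro x hx
  have : ∀ x < 6, getP 8 255 0x40502030001 x = [1, 0, 3, 2, 5, 4].getD x 0 := by decide +kernel
  rw [this x hx]
  interval_cases x <;> simp [gen]

theorem hH (a b c : G) : ∀ x < 2, gen a b c x ∈ zpowers a := by
  intro x hx
  interval_cases x
  · exact mem_zpowers a
  · exact inv_mem (mem_zpowers a)

end TRI5

open TRI5 Cfsg.Agent.Spor in
theorem tri5 {G : Type u} [Group G] {a b c : G} {l : ℕ} (h1 : 1 ≤ l) (h4 : l ≤ 4) (hab : R5 a b)
    (hac : R5 a c) (hcb : R5 (c ^ l) b) (hz : zz a c = 1)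
    (hu : hh a c * b * hh a c * b = 1) : a = 1 := by
  have hr := ev_rels hab hac hcb hz hu
  have hb : evalW (gen a b c) [2] ∈ zpowers a := by
    interval_cases l
    · exact t5l1_mem0 (hinv a b c) (all_rels hr (by decide +kernel)) (hH a b c) fun _ => one_mem _
    · exact t5l2_mem0 (hinv a b c) (all_rels hr (by decide +kernel)) (hH a b c) fun _ => one_mem _
    · exact t5l3_mem0 (hinv a b c) (all_rels hr (by decide +kernel)) (hH a b c) fun _ => one_mem _
    · exact t5l4_mem0 (hinv a b c) (all_rels hr (by decide +kernel)) (hH a b c) fun _ => one_mem _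
  have e2 : evalW (gen a b c) [2] = b := by simp [gen]
  rw [e2] at hb
  obtain ⟨k, hk⟩ := mem_zpowers_iff.1 hb
  have hc : a * b = b * a := by rw [← hk]; group
  have h3 : a * b * a = b * a * b := hab.br
  rw [hc] at h3
  have h5 : a = b := mul_left_cancel h3
  have h6 := hab.n4
  rw [← h5] at h6
  have h7 : a ^ 12 = 1 := by
    rw [← h6]; simp only [zz, nn, pow_succ, pow_zero, one_mul, mul_assoc]
  have h8 : a = (a ^ 5) ^ 5 * ((a ^ 12) ^ 2)⁻¹ := by group
  rw [h8, hab.a5, h7]; simp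

end Cfsg.Agent.PT
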