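import Mathlib
import Cfsg.Agent.PT.TyA
import Cfsg.Agent.HKS.Basic
import Cfsg.Agent.S3360
import Cfsg.Agent.S0205

set_option autoImplicit false
set_option linter.unusedSectionVars false

namespace Cfsg.Agent.PT

open Subgroup MulAction Cfsg.Agent.GT Cfsg.Agent.TT Cfsg.Agent.Perm.TT Cfsg.Agent.Perm.TwoCount
open Cfsg.Agent.KS (St NT)
open scoped MatrixGroups commutatorElement

universe u v

namespace TS

/-- An additive bijection turning multiplications into semilinear maps is a multiple of a field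
isomorphism. -/
theorem iso {K L : Type*} [Field K] [Field L] (ε : K ≃+ L)
    (h : ∀ l : K, l ≠ 0 → ∃ (a : L) (σ : L ≃+* L), ∀ s, ε (l * s) = a * σ (ε s)) :
    ∃ ψ : K ≃+* L, ∀ s, ε s = ψ s * ε 1 := by
  have h1 : ε 1 ≠ 0 := fun e => one_ne_zero (ε.injective (e.trans (map_zero ε).symm))
  have key : ∀ l : K, ∃ a : L, ∀ s, ε (l * s) = a * ε s := by
    intro l
    by_cases l0 : l = 0
    · exact ⟨0, fun s => by rw [l0, zero_mul, zero_mul, map_zero]⟩
    by_cases l1 : l + 1 = 0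
    · refine ⟨-1, fun s => ?_⟩
      rw [eq_neg_of_add_eq_zero_left l1, neg_one_mul, neg_one_mul, map_neg]
    obtain ⟨a, σ, ha⟩ := h l l0
    obtain ⟨b, τ, hb⟩ := h _ l1
    have e : ∀ v, a * σ v + v = b * τ v := fun v => by
      obtain ⟨s, rfl⟩ := ε.surjective v
      rw [← ha, ← hb, add_mul, one_mul, map_add]
    have a0 : a ≠ 0 := by
      rintro rfl
      have := ha 1
      rw [zero_mul, mul_one] at this
      exact l0 (ε.injective (this.trans (map_zero ε).symm))
    have hs : ∀ v, σ v = v := fun v => by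
      have e1 := e 1
      have e2 := e v
      have e3 := e (v * v)
      rw [map_one, map_one] at e1
      rw [map_mul, map_mul] at e3
      have : a * (σ v - v) ^ 2 = 0 := by
        linear_combination (a * σ v ^ 2 + v ^ 2) * e1 + b * e3 - (a * σ v + v + b * τ v) * e2
      exact sub_eq_zero.1 (pow_eq_zero_iff two_ne_zero |>.1 ((mul_eq_zero.1 this).resolve_left a0))
    exact ⟨a, fun s => by rw [ha, hs]⟩
  refine ⟨{ toFun := fun l => ε l / ε 1
            invFun := fun v => ε.symm (v * ε 1)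
            left_inv := fun l => by simp [div_mul_cancel₀ _ h1]
            right_inv := fun v => by simp [mul_div_cancel_right₀ _ h1]
            map_mul' := fun l l' => ?_
            map_add' := fun l l' => by rw [map_add, add_div] }, fun s => ?_⟩
  · obtain ⟨a, ha⟩ := key l
    have e1 := ha 1
    rw [mul_one] at e1
    rw [ha l', e1]
    field_simp
  · exact (div_mul_cancel₀ _ h1).symm

/-- If all `2`-elements map into the centre, the image together with the centre is solvable. -/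
theorem solv {H A : Type*} [Group H] [Finite H] [Group A] [Finite A] (θ : H →* A)
    (h2 : ∀ g : H, (∃ i : ℕ, g ^ 2 ^ i = 1) → θ g ∈ center A) :
    ∃ Γ : Subgroup A, Group.IsSolvable Γ ∧ (∀ g, θ g ∈ Γ) ∧ center A ≤ Γ := by
  let φ : H →* A ⧸ center A := (QuotientGroup.mk' (center A)).comp θ
  have hodd : Odd (Nat.card φ.range) := by
    rw [← Nat.not_even_iff_odd, even_iff_two_dvd]
    intro hd
    obtain ⟨z, ho⟩ := exists_prime_orderOf_dvd_card' (G := φ.range) 2 hd
    obtain ⟨g, hg⟩ := z.2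
    rw [← Subgroup.orderOf_coe, ← hg] at ho
    obtain ⟨i, n, hn, e⟩ := Nat.exists_eq_two_pow_mul_odd (orderOf_pos g).ne'
    have h3 : φ (g ^ n) = 1 := (QuotientGroup.eq_one_iff _).2 (h2 _ ⟨i, by
      rw [← pow_mul, mul_comm, ← e, pow_orderOf_eq_one]⟩)
    rw [map_pow, ← orderOf_dvd_iff_pow_eq_one, ho] at h3
    exact (Nat.not_even_iff_odd.2 hn) (even_iff_two_dvd.2 h3)
  have hle : center A ≤ φ.range.comap (QuotientGroup.mk' (center A)) := fun z hz =>
    ⟨1, by rw [map_one]; exact ((QuotientGroup.eq_one_iff _).2 hz).symm⟩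
  refine ⟨φ.range.comap (QuotientGroup.mk' (center A)), ?_, fun g => ⟨g, rfl⟩, hle⟩
  have := S0205.result hodd
  have : Group.IsSolvable (center A) := Group.isSolvable_of_comm fun a b =>
    Subtype.ext (mem_center_iff.1 b.2 a)
  refine Group.isSolvable_of_ker_le_range (inclusion hle)
    ((QuotientGroup.mk' (center A)).subgroupComap φ.range) fun z hz => ?_
  have hz' : (z : A) ∈ center A := (QuotientGroup.eq_one_iff _).1 (congrArg Subtype.val hz)
  exact ⟨⟨z, hz'⟩, rfl⟩

section Fld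

variable {F : Type*} [Field F] [Finite F] [CharP F 5]

theorem five : (5 : F) = 0 := by exact_mod_cast CharP.cast_eq_zero F 5

theorem two_ne : (2 : F) ≠ 0 := fun e => one_ne_zero (α := F) (by
  linear_combination five (F := F) - 2 * e)

theorem rc : ringChar F ≠ 2 := by rw [ringChar.eq F 5]; decide

theorem sq_or (h2 : ¬ IsSquare (2 : F)) (y : F) : ∃ w, y = w ^ 2 ∨ y = 2 * w ^ 2 := by
  have := Fintype.ofFinite F
  by_cases hy : IsSquare y
  · obtain ⟨w, e⟩ := hy
    exact ⟨w, Or.inl (by rw [e, pow_two])⟩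
  have y0 : y ≠ 0 := fun e => hy (e ▸ IsSquare.zero)
  rw [FiniteField.isSquare_iff rc y0] at hy
  rw [FiniteField.isSquare_iff rc two_ne] at h2
  obtain ⟨w, e⟩ : IsSquare (2 * y) := by
    rw [FiniteField.isSquare_iff rc (mul_ne_zero two_ne y0), mul_pow,
      (FiniteField.pow_dichotomy rc y0).resolve_left hy,
      (FiniteField.pow_dichotomy rc two_ne).resolve_left h2]
    ring
  exact ⟨2 * w, Or.inr (by linear_combination 3 * e - (y + w ^ 2) * five (F := F))⟩

theorem aut_eq (h2 : ¬ IsSquare (2 : F)) (σ : F ≃+* F) (hσ : ∀ s, σ (σ s) = s) (s : F) :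
    σ s = s := by
  have key : ∀ w, σ w ^ 2 = -w ^ 2 → w = 0 := by
    intro w hw
    have h3 : (σ w - 2 * w) * (σ w + 2 * w) = 0 := by
      linear_combination hw - w ^ 2 * five (F := F)
    have h4 := hσ w
    rcases mul_eq_zero.1 h3 with e | e
    · have e' : σ w = 2 * w := sub_eq_zero.1 e
      rw [e', map_mul, map_ofNat, e'] at h4
      linear_combination 2 * h4 - w * five (F := F)
    · have e' : σ w = -(2 * w) := eq_neg_of_add_eq_zero_left e
      rw [e', map_neg, map_mul, map_ofNat, e'] at h4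
      linear_combination 2 * h4 - w * five (F := F)
  have hy : σ (s - σ s) = -(s - σ s) := by rw [map_sub, hσ, neg_sub]
  obtain ⟨w, e | e⟩ := sq_or h2 (s - σ s)
  · rw [e, map_pow] at hy
    rw [key w hy] at e
    linear_combination -e
  · rw [e, map_mul, map_pow, map_ofNat] at hy
    rw [key w (mul_left_cancel₀ two_ne (by linear_combination hy))] at e
    linear_combination -e

theorem pow_four (h2 : ¬ IsSquare (2 : F)) {m : F} (h : (m * m) ^ 4 = 1) : m ^ 4 = 1 := by
  have h3 : (m ^ 4 - 1) * ((m ^ 2 - 2) * (m ^ 2 + 2)) = 0 := by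
    linear_combination h - (m ^ 4 - 1) * five (F := F)
  rcases mul_eq_zero.1 h3 with e | e
  · exact sub_eq_zero.1 e
  rcases mul_eq_zero.1 e with e | e
  · exact absurd ⟨m, by linear_combination -e⟩ h2
  · exact absurd ⟨2 * m, by linear_combination -4 * e + 2 * five (F := F)⟩ h2

theorem nat_of {m : F} (h : m ^ 4 = 1) : ∃ k : ℕ, m = k := by
  have h3 : (m - 1) * ((m - 2) * ((m - 3) * (m - 4))) = 0 := by
    linear_combination h + (-2 * m ^ 3 + 7 * m ^ 2 - 10 * m + 5) * five (F := F)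
  rcases mul_eq_zero.1 h3 with e | e
  · exact ⟨1, by push_cast; linear_combination e⟩
  rcases mul_eq_zero.1 e with e | e
  · exact ⟨2, by push_cast; linear_combination e⟩
  rcases mul_eq_zero.1 e with e | e
  · exact ⟨3, by push_cast; linear_combination e⟩
  · exact ⟨4, by push_cast; linear_combination e⟩

theorem card_ne (h2 : ¬ IsSquare (2 : F)) : Nat.card F ∉ ({9, 25, 49, 121, 529, 81} : Set ℕ) := by
  have := Fintype.ofFinite F
  have h0 := FiniteField.cast_card_eq_zero F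
  rw [CharP.cast_eq_zero_iff F 5] at h0
  rw [FiniteField.isSquare_iff rc two_ne] at h2
  rw [Nat.card_eq_fintype_card]
  intro hm
  simp only [Set.mem_insert_iff, Set.mem_singleton_iff] at hm
  have e : Fintype.card F = 25 := by omega
  rw [e] at h2
  exact h2 (by norm_num; linear_combination 819 * five (F := F))

end Fld

variable {G : Type u} {Ω : Type v} [Group G] [MulAction G Ω] [Finite G] [Finite Ω]
  {E : Ω → Set G} {p : ℕ} {x y : Ω} {F : Type} [Field F] {ρ : SL(2, F) →* G}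

/-- A `2`-element fixing both points of the chart acts as a scalar of the prime field. -/
theorem two_elt (h : TG E 5) (hc : GC E 5 ρ x y) (h2 : ¬ IsSquare (2 : F)) (i : ℕ) :
    ∀ g : G, g • x = x → g • y = y → g ^ 2 ^ i = 1 →
      ∃ m : F, m ^ 4 = 1 ∧ ∀ s, g * ρ (slUp s) * g⁻¹ = ρ (slUp (m * s)) := by
  have := hc.fin
  have := hc.char
  induction i with
  | zero =>
    intro g _ _ hg
    rw [pow_zero, pow_one] at hg
    exact ⟨1, one_pow _, fun s => by rw [hg, one_mul, one_mul, inv_one, mul_one]⟩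
  | succ i ih =>
    intro g hx hy hg
    obtain ⟨m', h4, hm'⟩ := ih (g * g) (by rw [mul_smul, hx, hx]) (by rw [mul_smul, hy, hy])
      (by rw [← pow_two, ← pow_mul, ← pow_succ', hg])
    obtain ⟨m, σ, -, hm, -⟩ := hc.semi h hx hy
    have e : ∀ s, m * σ (m * σ s) = m' * s := fun s => by
      apply hc.toCh.up_inj h
      rw [← hm, ← hm, ← hm']
      group
    have e1 := e 1
    rw [map_one, mul_one, mul_one] at e1
    have m0 : m' ≠ 0 := by
      rintro rfl
      norm_num at h4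
    have hσ : ∀ s, σ s = s := aut_eq h2 σ fun s => by
      apply mul_left_cancel₀ m0
      have e2 := e s
      rwa [map_mul, ← mul_assoc, e1] at e2
    rw [hσ] at e1
    exact ⟨m, pow_four h2 (e1 ▸ h4), fun s => by rw [hm, hσ]⟩

/-- A `2`-element fixing `x` raises the elements of `Z x` to a power. -/
theorem two_sc (h : MP E 5) (hY : ∀ x y : Ω, x ≠ y → YY E x y ≠ ⊤) (hc : GC E 5 ρ x y)
    (h2 : ¬ IsSquare (2 : F)) {g : G} (hx : g • x = x) {i : ℕ} (hg : g ^ 2 ^ i = 1) :
    ∃ k : ℕ, ∀ s, g * ρ (slUp s) * g⁻¹ = ρ (slUp (k * s)) := by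
  have hT := h.toTG
  have hP : IsPGroup 2 (zpowers g) := by
    obtain ⟨j, -, hj⟩ := (Nat.dvd_prime_pow Nat.prime_two).1 (orderOf_dvd_of_pow_eq_one hg)
    exact IsPGroup.of_card (by rw [Nat.card_zpowers, hj])
  obtain ⟨δ, -, hδ, hf⟩ := HKS.exists_snd_fix_pg (Δ := Set.univ) (x := x)
    (by rw [Set.ncard_univ]; exact h.even_one (by norm_num)) hP (fun _ _ _ => by simp)
    (Set.mem_univ _) (fun k hk => (zpowers_le.2 (mem_stabilizer_iff.2 hx) hk :))
  obtain ⟨K, _, ρ₁, hc₁⟩ := h.toMC.gc hδ.symm (h.pure _ _) (hY _ _ hδ.symm)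
  have := hc.fin
  have := hc₁.fin
  have := hc₁.char
  have := Fintype.ofFinite F
  have := Fintype.ofFinite K
  have e : K ≃+* F := FiniteField.ringEquivOfCardEq (by
    rw [← Nat.card_eq_fintype_card, ← Nat.card_eq_fintype_card, ← hc.card_Z hT, hc₁.card_Z hT])
  obtain ⟨m, h4, hm⟩ := two_elt hT hc₁ (fun ⟨w, hw⟩ => h2 ⟨e w, by
    rw [← map_mul, ← hw, map_ofNat]⟩) i g hx (hf g (mem_zpowers g)) hg
  obtain ⟨k, rfl⟩ := nat_of h4
  refine ⟨k, fun s => ?_⟩
  obtain ⟨t, ht⟩ := hc₁.allup _ (hc.toCh.upZ hT s)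
  rw [← slUp_pow, map_pow, ht, hm, ← slUp_pow, map_pow]

/-- two charts at the same point differ by an additive bijection -/
theorem exists_add (h : TG E p) {F' : Type} [Field F'] {ρ' : SL(2, F') →* G} {y' : Ω}
    (hc : GC E p ρ x y) (hc' : GC E p ρ' x y') :
    ∃ e : F ≃+ F', ∀ s, ρ (slUp s) = ρ' (slUp (e s)) := by
  choose f hf using fun s => hc'.allup _ (hc.toCh.upZ h s)
  choose f' hf' using fun s => hc.allup _ (hc'.toCh.upZ h s)
  refine ⟨{ toFun := f
            invFun := f'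
            left_inv := fun s => hc.toCh.up_inj h (by rw [← hf', ← hf])
            right_inv := fun s => hc'.toCh.up_inj h (by rw [← hf, ← hf'])
            map_add' := fun s t => hc'.toCh.up_inj h ?_ }, hf⟩
  rw [← hf, slUp_add, slUp_add, map_mul, map_mul, ← hf, ← hf]

/-- the action of the stabilizer on the chart -/
theorem exists_hom (h : TG E p) (hc : GC E p ρ x y) [Module (ZMod p) F] :
    ∃ θ : stabilizer G x →* (F ≃ₗ[ZMod p] F),
      ∀ g s, ρ (slUp (θ g s)) = g * ρ (slUp s) * (g : G)⁻¹ := by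
  have h1 : ∀ (g : stabilizer G x) s, ∃ t, g * ρ (slUp s) * (g : G)⁻¹ = ρ (slUp t) := fun g s => by
    apply hc.allup
    have := (h.Z_conj (g : G)).2 (hc.toCh.upZ h s)
    rwa [g.2] at this
  choose β hβ using h1
  have hmul : ∀ g g' s, β (g * g') s = β g (β g' s) := fun g g' s => hc.toCh.up_inj h (by
    rw [← hβ, ← hβ, ← hβ, Subgroup.coe_mul]; group)
  have hone : ∀ s, β 1 s = s := fun s => hc.toCh.up_inj h (by rw [← hβ]; simp)
  have hadd : ∀ g s t, β g (s + t) = β g s + β g t := fun g s t => hc.toCh.up_inj h (by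
    rw [← hβ, slUp_add, slUp_add, map_mul, map_mul, ← hβ, ← hβ]; group)
  refine ⟨MonoidHom.mk' (fun g =>
    { toFun := β g
      invFun := β g⁻¹
      left_inv := fun s => by rw [← hmul, inv_mul_cancel, hone]
      right_inv := fun s => by rw [← hmul, mul_inv_cancel, hone]
      map_add' := hadd g
      map_smul' := ZMod.map_smul (AddMonoidHom.mk' (β g) (hadd g)) }) fun g g' => ?_,
    fun g s => (hβ g s).symm⟩
  ext s
  exact hmul g g' s

end TS

open TS

variable {G : Type u} {Ω : Type v} [Group G] [MulAction G Ω] [Finite G] [Finite Ω]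
  {E : Ω → Set G} {p : ℕ} {x y x' y' c : Ω} {a b a' b' d g : G}

theorem MP.ts (h : MP E 5) (hY : ∀ x y : Ω, x ≠ y → YY E x y ≠ ⊤) {F F' : Type} [Field F]
    [Field F'] {ρ : SL(2, F) →* G} {ρ' : SL(2, F') →* G} (hc : GC E 5 ρ x y)
    (hc' : GC E 5 ρ' x y') (h2 : ¬ IsSquare (2 : F)) :
    ∃ (m : F') (ψ : F ≃+* F'), m ≠ 0 ∧ ∀ s, ρ (slUp s) = ρ' (slUp (m * ψ s)) := by
  have hT := h.toTG
  have := hc.fin
  have := hc.char
  have : Fact (Nat.Prime 5) := ⟨by norm_num⟩
  letI : Algebra (ZMod 5) F := ZMod.algebra F 5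
  have : Finite (F ≃ₗ[ZMod 5] F) := Finite.of_injective _ DFunLike.coe_injective
  obtain ⟨θ, hθ⟩ := exists_hom hT hc
  have hcen : ∀ (f : F ≃ₗ[ZMod 5] F) (k : ℕ), (∀ s, f s = k * s) → f ∈ center (F ≃ₗ[ZMod 5] F) :=
    fun f k hf => mem_center_iff.2 fun f' => by
      ext s
      rw [LinearEquiv.mul_apply, LinearEquiv.mul_apply, hf, hf, ← nsmul_eq_mul, ← nsmul_eq_mul,
        map_nsmul]
  obtain ⟨Γ, hsol, hΓ, hZ⟩ := solv θ fun g ⟨i, hi⟩ => by
    obtain ⟨k, hk⟩ := two_sc h hY hc h2 g.2 (i := i) (by exact_mod_cast congrArg Subtype.val hi)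
    exact hcen _ k fun s => hc.toCh.up_inj hT (by rw [hθ, hk])
  obtain ⟨c₂, hc₂⟩ : ∃ c₂ : F ≃ₗ[ZMod 5] F, ∀ s, c₂ s = s + s :=
    ⟨{ toFun := fun s => s + s
       invFun := fun s => 3 * s
       left_inv := fun s => by linear_combination s * five (F := F)
       right_inv := fun s => by linear_combination s * five (F := F)
       map_add' := fun s t => by ring
       map_smul' := fun k s => by rw [RingHom.id_apply, smul_add] }, fun _ => rfl⟩
  have hc₂Γ : c₂ ∈ Γ := hZ (hcen _ 2 fun s => by rw [hc₂]; push_cast; ring)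
  have mult : ∀ {K : Type} [Field K] {τ : SL(2, K) →* G} {z : Ω} (hk : GC E 5 τ x z) (e : F ≃+ K),
      (∀ s, ρ (slUp s) = τ (slUp (e s))) → ∀ l : K, l ≠ 0 → ∃ f ∈ Γ, ∀ s, e (f s) = l * e s := by
    intro K _ τ z hk e he l l0
    have := hk.fin
    have := hk.char
    have := Fintype.ofFinite F
    have := Fintype.ofFinite K
    have e' : K ≃+* F := FiniteField.ringEquivOfCardEq (by
      rw [← Nat.card_eq_fintype_card, ← Nat.card_eq_fintype_card, ← hc.card_Z hT, hk.card_Z hT])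
    have hsq : ∀ w : K, w ≠ 0 → ∃ f ∈ Γ, ∀ s, e (f s) = w ^ 2 * e s := fun w w0 => by
      refine ⟨θ ⟨τ (dg (Units.mk0 w w0)), (hk.toCh.dg_fix hT _).1⟩, hΓ _, fun s => ?_⟩
      apply hk.toCh.up_inj hT
      rw [← he, hθ, he, ← map_inv, ← map_mul, ← map_mul, dg_up, Units.val_mk0]
    obtain ⟨w, hw | hw⟩ := sq_or (F := K) (fun ⟨w, hw⟩ => h2 ⟨e' w, by
      rw [← map_mul, ← hw, map_ofNat]⟩) l
    · exact hw ▸ hsq w fun w0 => l0 (by rw [hw, w0]; ring)
    · obtain ⟨f, hf, hfs⟩ := hsq w fun w0 => l0 (by rw [hw, w0]; ring)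
      refine ⟨c₂ * f, Γ.mul_mem hc₂Γ hf, fun s => ?_⟩
      rw [LinearEquiv.mul_apply, hc₂, map_add, hfs, hw]
      ring
  have m1 := mult hc (AddEquiv.refl F) fun _ => rfl
  obtain ⟨e', he'⟩ := exists_add hT hc hc'
  have m2 := mult hc' e' he'
  obtain ⟨L, _, _, e, he⟩ := (S3360.result 5 hsol Γ.subtype Γ.subtype_injective fun v w v0 w0 => by
    obtain ⟨f, hf, hfs⟩ := m1 (w / v) (div_ne_zero w0 v0)
    exact ⟨⟨f, hf⟩, (hfs v).trans (div_mul_cancel₀ _ v0)⟩).resolve_right (card_ne h2)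
  obtain ⟨ψ₁, h₁⟩ := iso e fun l l0 => by
    obtain ⟨f, hf, hfs⟩ := m1 l l0
    obtain ⟨a, σ, ha⟩ := he ⟨f, hf⟩
    exact ⟨a, σ, fun s => by rw [← ha]; exact congrArg e (hfs s).symm⟩
  obtain ⟨ψ₂, h₂⟩ := iso (e'.symm.trans e) fun l l0 => by
    obtain ⟨f, hf, hfs⟩ := m2 l l0
    obtain ⟨a, σ, ha⟩ := he ⟨f, hf⟩
    refine ⟨a, σ, fun s => ?_⟩
    obtain ⟨s, rfl⟩ := e'.surjective s
    rw [← hfs, AddEquiv.trans_apply, AddEquiv.trans_apply, e'.symm_apply_apply,
      e'.symm_apply_apply, ← ha]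
    rfl
  have n1 : e 1 ≠ 0 := fun k => one_ne_zero (e.injective (k.trans (map_zero e).symm))
  have n2 : (e'.symm.trans e) 1 ≠ 0 := fun k =>
    one_ne_zero ((e'.symm.trans e).injective (k.trans (map_zero _).symm))
  refine ⟨ψ₂.symm (e 1 / (e'.symm.trans e) 1), ψ₁.trans ψ₂.symm,
    (map_ne_zero_iff _ ψ₂.symm.injective).2 (div_ne_zero n1 n2), fun s => ?_⟩
  rw [he', RingEquiv.trans_apply, ← map_mul]
  congr 2
  rw [RingEquiv.eq_symm_apply, div_mul_eq_mul_div, eq_div_iff n2, ← h₂, mul_comm, ← h₁,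
    AddEquiv.trans_apply, e'.symm_apply_apply]

end Cfsg.Agent.PT
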