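import Mathlib
import Cfsg.Agent.PT.TS
import Cfsg.Agent.PT.TRI5

set_option autoImplicit false

namespace Cfsg.Agent.PT

open Subgroup MulAction Cfsg.Agent.GT Cfsg.Agent.TT Cfsg.Agent.Perm.TT Cfsg.Agent.Perm.TwoCount
open Cfsg.Agent.KS (St NT)
open scoped MatrixGroups commutatorElement

universe u v

variable {G : Type u} {Ω : Type v} [Group G] [MulAction G Ω] [Finite G] [Finite Ω]
  {E : Ω → Set G} {p : ℕ} {x y x' y' c : Ω} {a b a' b' d g : G}

namespace TH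

section Fld

variable {F : Type} [Field F] [CharP F 5]

theorem five : (5 : F) = 0 := by exact_mod_cast CharP.cast_eq_zero F 5

theorem two_ne : (2 : F) ≠ 0 := fun h => one_ne_zero (α := F) (by linear_combination five (F := F) - 2 * h)

theorem four_roots {t : F} (h : t ^ 4 = 1) : t = 1 ∨ t = 2 ∨ t = 3 ∨ t = 4 := by
  have : (t - 1) * ((t - 2) * ((t - 3) * (t - 4))) = 0 := by
    linear_combination h + (-2 * t ^ 3 + 7 * t ^ 2 - 10 * t + 5) * five (F := F)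
  simpa only [mul_eq_zero, sub_eq_zero] using this

theorem sq_or [Finite F] (h2 : ¬ IsSquare (2 : F)) (t : F) : ∃ w, t = w ^ 2 ∨ t = 2 * w ^ 2 := by
  classical
  have := Fintype.ofFinite F
  by_cases h : IsSquare t
  · obtain ⟨w, hw⟩ := h
    exact ⟨w, .inl (by rw [hw, sq])⟩
  have t0 : t ≠ 0 := fun k => h (k ▸ IsSquare.zero)
  have k : IsSquare (2 * t) := by
    rw [← quadraticChar_one_iff_isSquare (mul_ne_zero two_ne t0), map_mul,
      quadraticChar_neg_one_iff_not_isSquare.2 h2, quadraticChar_neg_one_iff_not_isSquare.2 h]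
    norm_num
  obtain ⟨w, hw⟩ := k
  exact ⟨2 * w, .inr (by linear_combination 8 * hw - 3 * t * five (F := F))⟩

theorem not_sq (h2 : ¬ IsSquare (2 : F)) {t : F} (h : t ^ 2 = 2 ∨ t ^ 2 = 3) : False := by
  rcases h with h | h
  · exact h2 ⟨t, by rw [← h, sq]⟩
  · exact h2 ⟨2 * t, by linear_combination (-4) * h - 2 * five (F := F)⟩

/-- Taking a root of an eigenvector. -/
theorem root [Finite F] (h2 : ¬ IsSquare (2 : F)) (ψ : F ≃+* F) {d e : F} (d0 : d ≠ 0) (h : ψ d = e * d) :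
    ∃ w r : F, w ≠ 0 ∧ ψ w = r * w ∧ r ^ 2 = e := by
  obtain ⟨w, hw⟩ := sq_or h2 d
  have w0 : w ≠ 0 := by
    rintro rfl
    simp [d0] at hw
  refine ⟨w, ψ w / w, w0, by field_simp, ?_⟩
  rw [div_pow, div_eq_iff (pow_ne_zero 2 w0)]
  rcases hw with rfl | rfl
  · rwa [map_pow] at h
  · rw [map_mul, map_pow, map_ofNat] at h
    exact mul_left_cancel₀ two_ne (by linear_combination h)

theorem no_neg [Finite F] (h2 : ¬ IsSquare (2 : F)) (ψ : F ≃+* F) {d : F} (h : ψ d = -d) : d = 0 := by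
  by_contra d0
  obtain ⟨w, r, w0, hw, hr⟩ := root h2 ψ (e := -1) d0 (by rw [h]; ring)
  obtain ⟨v, r', -, -, hr'⟩ := root h2 ψ w0 hw
  have : (r - 2) * (r - 3) = 0 := by linear_combination hr + (1 - r) * five (F := F)
  rw [mul_eq_zero, sub_eq_zero, sub_eq_zero, ← hr'] at this
  exact not_sq h2 this

theorem tw_inj [Finite F] (h2 : ¬ IsSquare (2 : F)) (ψ : F ≃+* F) {s : F} (h : (s * ψ s) ^ 4 = 1) : s ^ 4 = 1 := by
  have hf : ψ (s * ψ s) = s * ψ s := by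
    rcases four_roots h with k | k | k | k <;> rw [k] <;> simp [map_ofNat]
  have s0 : ψ s ≠ 0 := fun k => by simp [k] at h
  have e : ψ (ψ s) = s := mul_left_cancel₀ s0 (by rw [← map_mul, hf, mul_comm])
  have e' : s = ψ s := sub_eq_zero.1 (no_neg h2 ψ (by rw [map_sub, e]; ring))
  rw [← e'] at h
  rcases four_roots h with k | k | k | k
  · linear_combination (s * s + 1) * k
  · exact (not_sq h2 (.inl (by rw [sq, k]))).elim
  · exact (not_sq h2 (.inr (by rw [sq, k]))).elim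
  · linear_combination (s * s + 4) * k + 3 * five (F := F)

end Fld

theorem dg_pow {K : Type*} [Field K] (l : Kˣ) (n : ℕ) : dg l ^ n = dg (l ^ n) := by
  induction n with
  | zero => rw [pow_zero, pow_zero, dg_one]
  | succ n ih => rw [pow_succ, pow_succ, dg_mul, ih]

theorem dg_sq {F : Type} [Field F] [CharP F 5] {l : Fˣ} (hl : (l : F) = 2) : dg l * dg l = -1 := by
  have : l * l = -1 := Units.ext (by
    simp only [Units.val_mul, hl, Units.val_neg, Units.val_one]; linear_combination five (F := F))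
  rw [← dg_mul, this, dg_neg, dg_one]

variable {F : Type} [Field F] {ρ : SL(2, F) →* G} {s : F}

theorem hh_eq (h : TG E 5) (hc : Ch E 5 ρ x y) (hs : s ≠ 0) {l : Fˣ} (hl : (l : F) = 2) :
    hh (ρ (slUp s)) (ρ (slLo (-s⁻¹))) = ρ (dg l) := by
  have := hc.char
  have e : ((3 : ℕ) : F) * -s⁻¹ = -((l : F) * s)⁻¹ := by
    have := two_ne (F := F)
    rw [hl]; field_simp; push_cast; linear_combination -five (F := F)
  rw [hh, hc.nn_eq h, ← wy_div l hs, ← map_pow, ← map_pow, slUp_pow, slLo_pow, e, Nat.cast_ofNat, ← hl]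
  simp only [wy, map_mul, map_inv]

theorem r5 (h : TG E 5) (hc : Ch E 5 ρ x y) (hs : s ≠ 0) : R5 (ρ (slUp s)) (ρ (slLo (-s⁻¹))) := by
  have := hc.char
  have h5 : ((5 : ℕ) : F) = 0 := CharP.cast_eq_zero F 5
  have e := hh_eq h hc hs (l := Units.mk0 2 two_ne) rfl
  refine ⟨?_, ?_, (hc.br_iff h hs).2 (by field_simp), ?_, ?_, ?_⟩
  · rw [← map_pow, slUp_pow, h5, zero_mul, slUp_zero, map_one]
  · rw [← map_pow, slLo_pow, h5, zero_mul, slLo_zero, map_one]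
  · rw [hc.zz_eq h hs, ← map_mul]; simp
  · rw [e, ← map_inv, ← map_mul, ← map_mul, dg_up, ← map_pow, slUp_pow]
    congr 3
    simp only [Units.val_mk0]; norm_num
  · rw [e, ← map_inv, ← map_mul, ← map_mul, dg_lo, ← map_pow, slLo_pow]
    congr 3
    have := two_ne (F := F)
    simp only [Units.val_inv_eq_inv_val, Units.val_mk0]; field_simp; push_cast
    linear_combination (-3) * five (F := F)

theorem nsq {F F' : Type} [Field F] [Field F'] (ψ : F ≃+* F') (h2 : ¬ IsSquare (2 : F)) :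
    ¬ IsSquare (2 : F') := fun ⟨w, hw⟩ => h2 ⟨ψ.symm w, by rw [← map_mul, ← hw, map_ofNat]⟩

theorem card_Z (h : TG E p) (x y : Ω) : Nat.card (Z E x) = Nat.card (Z E y) := by
  obtain ⟨g, rfl⟩ := h.tr x y
  refine Nat.card_congr ⟨fun u => ⟨g * u * g⁻¹, (h.Z_conj g).2 u.2⟩,
    fun u => ⟨g⁻¹ * u * g, (h.Z_conj g).1 (by simpa [mul_assoc] using u.2)⟩, fun u => ?_, fun u => ?_⟩ <;>
    exact Subtype.ext (by simp [mul_assoc])

theorem sq_iff (h : TG E p) (hc : GC E p ρ x y) :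
    IsSquare (2 : F) ↔ Nat.card (Z E x) % 8 ≠ 3 ∧ Nat.card (Z E x) % 8 ≠ 5 := by
  have := hc.fin
  have := Fintype.ofFinite F
  rw [hc.card_Z h, Nat.card_eq_fintype_card, FiniteField.isSquare_two_iff]

end TH

open TH

theorem exists_tw {F : Type} [Field F] [Finite F] [CharP F 5] (h2 : ¬ IsSquare (2 : F))
    (ψ : F ≃+* F) {κ : F} (hκ : κ ≠ 0) :
    ∃ (s : F) (l : ℕ), s ≠ 0 ∧ 1 ≤ l ∧ l ≤ 4 ∧ s * ψ s = l * κ := by
  let S := {t : F // ∃ s : F, s ≠ 0 ∧ t = s ^ 4}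
  let f : S → S := fun t => ⟨t.1 * ψ t.1, by
    obtain ⟨_, s, hs, rfl⟩ := t
    exact ⟨s * ψ s, mul_ne_zero hs (by simpa using hs), by rw [map_pow, mul_pow]⟩⟩
  have inj : Function.Injective f := by
    rintro ⟨_, s, hs, rfl⟩ ⟨_, s', hs', rfl⟩ e
    have e : s ^ 4 * ψ (s ^ 4) = s' ^ 4 * ψ (s' ^ 4) := congrArg Subtype.val e
    have k : ψ s' ≠ 0 := by simpa using hs'
    have := tw_inj h2 ψ (s := s / s') (by
      rw [map_div₀, map_pow, map_pow] at *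
      field_simp
      linear_combination e)
    rw [div_pow, div_eq_one_iff_eq (pow_ne_zero 4 hs')] at this
    exact Subtype.ext this
  obtain ⟨⟨_, s, hs, rfl⟩, e⟩ := Finite.surjective_of_injective inj ⟨κ ^ 4, κ, hκ, rfl⟩
  have e : s ^ 4 * ψ (s ^ 4) = κ ^ 4 := congrArg Subtype.val e
  have k : (s * ψ s / κ) ^ 4 = 1 := by
    rw [div_pow, div_eq_one_iff_eq (pow_ne_zero 4 hκ), mul_pow, ← map_pow, e]
  rcases four_roots k with k | k | k | k <;> rw [div_eq_iff hκ] at k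
  · exact ⟨s, 1, hs, by omega, by omega, by rw [k, Nat.cast_one]⟩
  · exact ⟨s, 2, hs, by omega, by omega, by rw [k, Nat.cast_ofNat]⟩
  · exact ⟨s, 3, hs, by omega, by omega, by rw [k, Nat.cast_ofNat]⟩
  · exact ⟨s, 4, hs, by omega, by omega, by rw [k, Nat.cast_ofNat]⟩

theorem MP.th (h : MP E 5) (hf : Full E) (hY : ∀ x y : Ω, x ≠ y → YY E x y ≠ ⊤) {F : Type}
    [Field F] {ρ : SL(2, F) →* G} (hc : GC E 5 ρ x y) (h2 : ¬ IsSquare (2 : F)) (h1 : ρ (-1) = 1)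
    {l : Fˣ} (hl : (l : F) = 2) (hu : ρ (dg l) • c = c) : c = x ∨ c = y := by
  by_contra hn
  obtain ⟨hx, hy⟩ := not_or.1 hn
  have ht := h.toTG
  have := hc.char
  obtain ⟨F₂, _, ρ₂, c₂⟩ := h.toMC.gc (Ne.symm hx) (h.pure _ _) (hY _ _ (Ne.symm hx))
  obtain ⟨F₃, _, ρ₃, c₃⟩ := h.toMC.gc (Ne.symm hy) (h.pure _ _) (hY _ _ (Ne.symm hy))
  obtain ⟨ρ', c', u', -⟩ := hc.flip ht
  obtain ⟨ρ₂', c₂', u₂, -⟩ := c₂.flip ht
  obtain ⟨ρ₃', c₃', u₃, -⟩ := c₃.flip ht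
  obtain ⟨m₁, ψ₁, n₁, e₁⟩ := h.ts hY hc c₂ h2
  obtain ⟨m₂, ψ₂, n₂, e₂⟩ := h.ts hY c' c₃ h2
  obtain ⟨m₃, ψ₃, n₃, e₃⟩ := h.ts hY c₂' c₃' (nsq ψ₁ h2)
  have := c₃.char
  have := c₃.fin
  have n₁' : ψ₃ m₁ ≠ 0 := by simpa using n₁
  obtain ⟨r, i, r0, i1, i4, e⟩ := exists_tw (nsq ψ₂ h2) (ψ₂.symm.trans (ψ₁.trans ψ₃))
    (κ := m₂ * m₃ / ψ₃ m₁) (div_ne_zero (mul_ne_zero n₂ n₃) n₁')
  obtain ⟨s, rfl⟩ := ψ₂.surjective r
  have hs : s ≠ 0 := by simpa using r0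
  have hs' : ψ₃ (ψ₁ s) ≠ 0 := by simpa using hs
  simp only [RingEquiv.trans_apply, RingEquiv.symm_apply_apply] at e
  have i0 : (i : F₃) ≠ 0 := fun k => by
    rw [k, zero_mul] at e
    exact mul_ne_zero r0 hs' e
  have s₂ : m₁ * ψ₁ s ≠ 0 := mul_ne_zero n₁ (by simpa using hs)
  have s₃ : (i : F₃) * (m₂ * ψ₂ s⁻¹) ≠ 0 := mul_ne_zero i0 (mul_ne_zero n₂ (by simpa using hs))
  have hab := r5 ht c₂.toCh s₂
  have hcb := r5 ht c₃.toCh s₃
  have eb : ρ₂ (slLo (-(m₁ * ψ₁ s)⁻¹)) = ρ₃ (slLo (-((i : F₃) * (m₂ * ψ₂ s⁻¹))⁻¹)) := by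
    rw [← u₂, e₃, u₃]
    congr 3
    rw [map_inv₀, map_inv₀, map_mul]
    field_simp
    field_simp at e
    linear_combination -e
  rw [← eb, ← slUp_pow, map_pow, ← e₂, u'] at hcb
  rw [← e₁] at hab
  have hs1 : Sc E x (ρ (dg l)) (-1) := hc.sc ht (by rw [hl]; push_cast; linear_combination five (F := F))
  have hs2 := (ht.sl1 h.r1 (Ne.symm hx) (h.pure _ _) hs1 hu (k' := -1) (by decide)).2 _
    (c₂.toCh.loZ ht (-(m₁ * ψ₁ s)⁻¹))
  have u2 : (ρ (dg l))⁻¹ = ρ (dg l) := inv_eq_of_mul_eq_one_right (by rw [← map_mul, dg_sq hl, h1])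
  have := tri5 i1 i4 hab (r5 ht hc.toCh hs) hcb (by rw [hc.toCh.zz_eq ht hs, h1])
    (by rw [hh_eq ht hc.toCh hs hl]; nth_rewrite 2 [← u2]; rw [hs2]; simp)
  exact hs (hc.toCh.up_inj ht (s' := 0) (by rw [this, slUp_zero, map_one]))

theorem MP.t5b (h : MP E 5) (hf : Full E) (hY : ∀ x y : Ω, x ≠ y → YY E x y ≠ ⊤) :
    ∃ k, TX E 5 2 k := by
  have ht := h.toTG
  have gc : ∀ x y : Ω, x ≠ y → ∃ (F : Type) (_ : Field F) (ρ : SL(2, F) →* G), GC E 5 ρ x y :=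
    fun x y hxy => h.toMC.gc hxy (h.pure _ _) (hY _ _ hxy)
  by_cases hq : ∀ x, Nat.card (Z E x) % 8 ≠ 3 ∧ Nat.card (Z E x) % 8 ≠ 5
  · have key : ∀ x y : Ω, x ≠ y → ∃ (F : Type) (_ : Field F) (ρ : SL(2, F) →* G) (l : Fˣ), Ch E 5 ρ x y ∧
        (l : F) ^ 4 = -1 ∧ TD E 5 2 2 x y (ρ (dg l)) := fun x y hxy => by
      obtain ⟨F, _, ρ, hc⟩ := gc x y hxy
      have := hc.char
      obtain ⟨w, hw⟩ := (sq_iff ht hc).2 (hq x)
      have w0 : w ≠ 0 := fun k => two_ne (by rw [hw, k, mul_zero])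
      have w4 : w ^ 4 = -1 := by linear_combination (-(w * w) - 2) * hw + five (F := F)
      have pw : ρ (dg (Units.mk0 w w0)) ^ 2 ^ 3 = 1 := by
        have : Units.mk0 w w0 ^ 2 ^ 3 = 1 := Units.ext (by
          simp only [Units.val_pow_eq_pow_val, Units.val_mk0, Units.val_one]
          linear_combination (w ^ 4 - 1) * w4)
        rw [← map_pow, dg_pow, this, dg_one, map_one]
      have sc : Sc E x (ρ (dg (Units.mk0 w w0))) 2 := hc.sc ht (by simp [sq, ← hw])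
      have fy := (hc.toCh.dg_fix ht (Units.mk0 w w0)).2
      exact ⟨F, _, ρ, Units.mk0 w w0, hc.toCh, w4, Nat.prime_two, by decide, ⟨3, pw⟩, fun k => (k rfl).elim,
        fun _ => rfl, sc, by decide, fy, fun c k => ht.two_fix h.r1 hxy Nat.prime_two (by decide) pw sc
          (ht.sl1 h.r1 hxy (h.pure _ _) sc fy (k' := 3) (by decide)) (by decide) (by decide) k⟩
    refine ⟨2, h, fun x y hxy => ?_, fun _ x y hxy _ _ => ?_⟩
    · obtain ⟨F, _, ρ, l, -, -, k⟩ := key x y hxy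
      exact ⟨_, k⟩
    · obtain ⟨F, _, ρ, l, hc, hl, k⟩ := key x y hxy
      exact .inr ⟨F, _, ρ, l, hc, hl, k.fix⟩
  · obtain ⟨x₀, hq⟩ := not_forall.1 hq
    have key : ∀ x y : Ω, x ≠ y → ∃ t, TD E 5 2 4 x y t ∧ t * t ∈ KK E x y := fun x y hxy => by
      obtain ⟨F, _, ρ, hc⟩ := gc x y hxy
      have := hc.char
      have h2 : ¬ IsSquare (2 : F) := by rw [sq_iff ht hc, card_Z ht x x₀]; exact hq
      obtain ⟨l, hl⟩ : ∃ l : Fˣ, (l : F) = 2 := ⟨Units.mk0 2 two_ne, rfl⟩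
      have t2 : ρ (dg l) * ρ (dg l) = ρ (-1) := by rw [← map_mul, dg_sq hl]
      have z2 : ρ (-1) * ρ (-1) = 1 := by rw [← map_mul]; simp
      refine ⟨ρ (dg l), ⟨Nat.prime_two, by decide, ⟨2, ?_⟩, fun k => (k rfl).elim, fun _ => rfl,
        hc.sc ht (by rw [hl]; norm_num), by decide, (hc.toCh.dg_fix ht l).2, fun c k => ?_⟩, ?_⟩
      · rw [show 2 ^ 2 = 2 * 2 from rfl, pow_mul, sq, sq, t2, z2]
      · by_cases h1 : ρ (-1) = 1
        · exact h.th hf hY hc h2 h1 hl k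
        have hz := hc.toCh.zz_eq ht (s := 1) one_ne_zero
        have ha := hc.toCh.up_one ht
        have hT := (h.toMC.fix_zz hxy ha (hc.toCh.lo_mem ht one_ne_zero ha) (by rwa [hz])).1
        rw [hz] at hT
        have cm : ∀ M, Commute (ρ (-1)) (ρ M) := fun M => Commute.map (by simp [Commute, SemiconjBy]) ρ
        refine hT.dg_fix ht h.r1 hc.toCh ?_ (fun e => ?_) ?_ k
        · rintro _ ⟨M, rfl⟩
          exact mem_centralizer_singleton_iff.2 (cm M).eq.symm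
        · rw [hl] at e
          exact two_ne (F := F) (by linear_combination five (F := F) - e)
        · rw [← ht.fix_inv h.r1 z2 ha (cm _), mem_fixedBy, ← t2, mul_smul, k, k]
      · rw [t2]
        exact ht.neg_mem h.r1 hxy (h.pure _ _) hc.toCh
    refine ⟨4, h, fun x y hxy => (key x y hxy).imp fun _ k => k.1, fun _ x y hxy hK _ => ?_⟩
    obtain ⟨t, k, t2⟩ := key x y hxy
    rw [hK, mem_bot] at t2
    refine .inl ⟨t, orderOf_eq_prime (by rw [sq, t2]) fun t1 => ?_, k.sc.1, k.fy, k.fix⟩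
    exact k.k1 (ht.Sc_uniq k.sc (ht.Sc_one.2 (t1 ▸ one_mem _)))

end Cfsg.Agent.PT
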