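import Mathlib
import Cfsg.Agent.PT.Defs
import Cfsg.Agent.S0244

set_option autoImplicit false

namespace Cfsg.Agent.PT

open Subgroup MulAction Cfsg.Agent.GT Cfsg.Agent.TT Cfsg.Agent.Perm.TT Cfsg.Agent.Perm.TwoCount
open Cfsg.Agent.KS (St NT)
open scoped MatrixGroups commutatorElement

universe u v

namespace SpOne

/-- the reindexing of two coordinates -/
def ee : Fin 2 ≃ Fin 1 ⊕ Fin 1 := (finSumFinEquiv (m := 1) (n := 1)).symm

/-- `SL₂` is `Sp₂` -/
def slsp (F : Type) [Field F] : SL(2, F) ≃* Matrix.symplecticGroup (Fin 1) F where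
  toFun A := ⟨Matrix.reindex ee ee A.1, by
    rw [Cfsg.Agent.S0244.result, Matrix.det_reindex_self]; exact A.2⟩
  invFun B := ⟨Matrix.reindex ee.symm ee.symm B.1, by
    rw [Matrix.det_reindex_self]; exact (Cfsg.Agent.S0244.result _).1 B.2⟩
  left_inv A := by
    apply Subtype.ext
    ext i j
    simp
  right_inv B := by
    apply Subtype.ext
    ext i j
    simp
  map_mul' A B := by
    apply Subtype.ext
    change Matrix.reindex ee ee (A.1 * B.1) = Matrix.reindex ee ee A.1 * Matrix.reindex ee ee B.1
    simp only [Matrix.reindex_apply]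
    rw [Matrix.submatrix_mul_equiv]

theorem map_center {A B : Type*} [Group A] [Group B] (e : A ≃* B) :
    (center A).map (e : A →* B) = center B := by
  ext b
  constructor
  · rintro ⟨a, ha, rfl⟩
    rw [Subgroup.mem_center_iff]
    intro g
    obtain ⟨g, rfl⟩ := e.surjective g
    have := (Subgroup.mem_center_iff.1 ha) g
    simpa using congrArg e this
  · intro hb
    refine ⟨e.symm b, ?_, by simp⟩
    have : e.symm b ∈ center A := by
      rw [Subgroup.mem_center_iff]
      intro g
      apply e.injective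
      simpa using (Subgroup.mem_center_iff.1 hb) (e g)
    exact this

end SpOne

theorem psl_psp (F : Type) [Field F] : Nonempty (PSL(2, F) ≃* Cfsg.PSp 1 F) :=
  ⟨QuotientGroup.congr _ _ (SpOne.slsp F) (SpOne.map_center _)⟩

end Cfsg.Agent.PT
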