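import Mathlib
import Cfsg.Agent.PT.B3

/-! The points attached to a class of subgroups of order `p`. -/

set_option autoImplicit false

namespace Cfsg.Agent.PT

open Subgroup MulAction Cfsg.Agent.GT Cfsg.Agent.TT Cfsg.Agent.Perm.TT Cfsg.Agent.Perm.TwoCount
open Cfsg.Agent.KS (St NT)
open scoped MatrixGroups commutatorElement

universe u v

namespace B0

section Mat

variable {K : Type} [Field K]

/-- conjugation by an invertible matrix -/
noncomputable def cjm (P : Matrix (Fin 2) (Fin 2) K) (hP : IsUnit P.det) : SL(2, K) →* SL(2, K) where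
  toFun X := ⟨P * X.1 * P⁻¹, by
    rw [Matrix.det_mul, Matrix.det_mul, X.2, mul_one, ← Matrix.det_mul, Matrix.mul_nonsing_inv _ hP,
      Matrix.det_one]⟩
  map_one' := by
    apply Subtype.ext
    simp [Matrix.mul_nonsing_inv _ hP]
  map_mul' X Y := by
    apply Subtype.ext
    change P * (X.1 * Y.1) * P⁻¹ = P * X.1 * P⁻¹ * (P * Y.1 * P⁻¹)
    simp only [Matrix.mul_assoc]
    rw [← Matrix.mul_assoc P⁻¹ P, Matrix.nonsing_inv_mul _ hP, Matrix.one_mul]

theorem cjm_surj (P : Matrix (Fin 2) (Fin 2) K) (hP : IsUnit P.det) :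
    Function.Surjective (cjm P hP) := by
  intro Y
  refine ⟨⟨P⁻¹ * Y.1 * P, ?_⟩, ?_⟩
  · rw [Matrix.det_mul, Matrix.det_mul, Y.2, mul_one, ← Matrix.det_mul,
      Matrix.nonsing_inv_mul _ hP, Matrix.det_one]
  · apply Subtype.ext
    change P * (P⁻¹ * Y.1 * P) * P⁻¹ = Y.1
    simp only [Matrix.mul_assoc]
    rw [Matrix.mul_nonsing_inv _ hP, Matrix.mul_one, ← Matrix.mul_assoc,
      Matrix.mul_nonsing_inv _ hP, Matrix.one_mul]

theorem cjm_eq {P : Matrix (Fin 2) (Fin 2) K} (hP : IsUnit P.det) {X Y : SL(2, K)}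
    (h : P * X.1 = Y.1 * P) : cjm P hP X = Y := by
  apply Subtype.ext
  change P * X.1 * P⁻¹ = Y.1
  rw [h, Matrix.mul_assoc, Matrix.mul_nonsing_inv _ hP, Matrix.mul_one]

theorem exists_psi (A B : SL(2, K)) (hA : A 0 0 + A 1 1 = 2) (hB : B 0 0 + B 1 1 = 2)
    (hn : ¬ Commute A B) :
    ∃ (μ : K) (ψ : SL(2, K) →* SL(2, K)), μ ≠ 0 ∧ Function.Surjective ψ ∧ ψ (slUp 1) = A ∧
      ψ (slLo μ) = B := by
  obtain ⟨a, ha⟩ : ∃ a, A 0 0 = 1 + a := ⟨A 0 0 - 1, by ring⟩
  obtain ⟨d, hd⟩ : ∃ d, B 0 0 = 1 + d := ⟨B 0 0 - 1, by ring⟩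
  have ha' : A 1 1 = 1 - a := by linear_combination hA - ha
  have hd' : B 1 1 = 1 - d := by linear_combination hB - hd
  obtain ⟨b, hb⟩ : ∃ b, A 0 1 = b := ⟨_, rfl⟩
  obtain ⟨c, hc⟩ : ∃ c, A 1 0 = c := ⟨_, rfl⟩
  obtain ⟨e, he⟩ : ∃ e, B 0 1 = e := ⟨_, rfl⟩
  obtain ⟨f, hf⟩ : ∃ f, B 1 0 = f := ⟨_, rfl⟩
  have hAm : A.1 = !![1 + a, b; c, 1 - a] := by
    ext i j; fin_cases i <;> fin_cases j <;> simp [← ha, ← ha', ← hb, ← hc]
  have hBm : B.1 = !![1 + d, e; f, 1 - d] := by
    ext i j; fin_cases i <;> fin_cases j <;> simp [← hd, ← hd', ← he, ← hf]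
  have h1 : a ^ 2 + b * c = 0 := by
    have := A.2
    rw [hAm, Matrix.det_fin_two_of] at this
    linear_combination -this
  have h2 : d ^ 2 + e * f = 0 := by
    have := B.2
    rw [hBm, Matrix.det_fin_two_of] at this
    linear_combination -this
  have hτ : 2 * a * d + b * f + c * e ≠ 0 := by
    intro hτ
    apply hn
    have e1 : b * f - c * e = 0 := by
      have : (b * f - c * e) ^ 2 = 0 := by
        linear_combination (b * f + c * e - 2 * a * d) * hτ + 4 * d ^ 2 * h1 - 4 * b * c * h2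
      exact pow_eq_zero_iff (two_ne_zero) |>.1 this
    have e2 : a * e - b * d = 0 := by
      have : (a * e - b * d) ^ 2 = 0 := by
        linear_combination (-b * e) * hτ + e ^ 2 * h1 + b ^ 2 * h2
      exact pow_eq_zero_iff (two_ne_zero) |>.1 this
    have e3 : c * d - a * f = 0 := by
      have : (c * d - a * f) ^ 2 = 0 := by
        linear_combination (-c * f) * hτ + f ^ 2 * h1 + c ^ 2 * h2
      exact pow_eq_zero_iff (two_ne_zero) |>.1 this
    apply Subtype.ext
    change A.1 * B.1 = B.1 * A.1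
    rw [hAm, hBm]
    ext i j
    fin_cases i <;> fin_cases j <;> simp [Matrix.mul_apply, Fin.sum_univ_two]
    · linear_combination e1
    · linear_combination 2 * e2
    · linear_combination 2 * e3
    · linear_combination -e1
  by_cases he0 : e = 0
  · have hf0 : f ≠ 0 := by
      intro hf0
      apply hτ
      have : d = 0 := pow_eq_zero_iff (two_ne_zero) |>.1 (by linear_combination h2 - f * he0)
      rw [this, he0, hf0]; ring
    have hP : IsUnit (!![a * d + b * f, d; c * d - a * f, f] : Matrix (Fin 2) (Fin 2) K).det := by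
      rw [Matrix.det_fin_two_of, isUnit_iff_ne_zero]
      have : (a * d + b * f) * f - d * (c * d - a * f) = f * (2 * a * d + b * f + c * e) := by
        linear_combination (-c) * h2
      rw [this]
      exact mul_ne_zero hf0 hτ
    refine ⟨_, cjm _ hP, hτ, cjm_surj _ hP, cjm_eq hP ?_, cjm_eq hP ?_⟩
    · rw [hAm]
      ext i j
      fin_cases i <;> fin_cases j <;> simp [Matrix.mul_apply, Fin.sum_univ_two]
      · linear_combination (-d) * h1
      · ring
      · linear_combination (-f) * h1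
      · ring
    · rw [hBm]
      ext i j
      fin_cases i <;> fin_cases j <;> simp [Matrix.mul_apply, Fin.sum_univ_two]
      · linear_combination a * h2
      · linear_combination -h2
      · linear_combination c * h2
      · ring
  · have hP : IsUnit (!![a * e - b * d, e; c * e + a * d, -d] : Matrix (Fin 2) (Fin 2) K).det := by
      rw [Matrix.det_fin_two_of, isUnit_iff_ne_zero]
      have : (a * e - b * d) * -d - e * (c * e + a * d) = -e * (2 * a * d + b * f + c * e) := by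
        linear_combination b * h2
      rw [this]
      exact mul_ne_zero (neg_ne_zero.2 he0) hτ
    refine ⟨_, cjm _ hP, hτ, cjm_surj _ hP, cjm_eq hP ?_, cjm_eq hP ?_⟩
    · rw [hAm]
      ext i j
      fin_cases i <;> fin_cases j <;> simp [Matrix.mul_apply, Fin.sum_univ_two]
      · linear_combination (-e) * h1
      · ring
      · linear_combination d * h1
      · ring
    · rw [hBm]
      ext i j
      fin_cases i <;> fin_cases j <;> simp [Matrix.mul_apply, Fin.sum_univ_two]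
      · linear_combination b * h2
      · ring
      · linear_combination (-a) * h2
      · linear_combination -h2

theorem loc_of {G : Type u} [Group G] {p : ℕ} (hp : p.Prime) (hodd : Odd p) [Finite K]
    [CharP K p] (σ : SL(2, K) →* G) (hker : ∀ z, σ z = 1 → z ^ 2 = 1) {a b : G}
    (hr : σ.range = closure {a, b}) (ha : a ^ p = 1) (hb : b ^ p = 1) (hn : ¬ Commute a b) :
    Loc p a b := by
  have := Fact.mk hp
  have lift : ∀ c ∈ σ.range, c ^ p = 1 → ∃ C : SL(2, K), σ C = c ∧ C 0 0 + C 1 1 = 2 := by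
    rintro _ ⟨C, rfl⟩ hc
    refine ⟨C ^ (p + 1), by rw [map_pow, pow_succ, hc, one_mul], ?_⟩
    apply trace_eq_two_of_pow_eq_one (p := p) (k := 1)
    obtain ⟨m, hm⟩ := hodd
    have h2 : (C ^ p) ^ 2 = 1 := hker _ (by rw [map_pow, hc])
    rw [pow_one, ← pow_mul, mul_comm, pow_mul, show p + 1 = 2 * (m + 1) by omega, pow_mul, h2,
      one_pow]
  obtain ⟨A, hA, hA2⟩ := lift a (hr ▸ subset_closure (by simp)) ha
  obtain ⟨B, hB, hB2⟩ := lift b (hr ▸ subset_closure (by simp)) hb
  obtain ⟨μ, ψ, hμ, hs, h1, h2⟩ := exists_psi A B hA2 hB2 (fun h => hn (hA ▸ hB ▸ h.map σ))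
  refine ⟨K, inferInstance, inferInstance, inferInstance, σ.comp ψ, μ, hμ, by simp [h1, hA],
    by simp [h2, hB], ?_⟩
  rw [MonoidHom.range_comp, MonoidHom.range_eq_top.2 hs, ← MonoidHom.range_eq_map, hr]

end Mat

variable {G : Type u} [Group G]

/-- the root elements -/
def DD (A₀ : Subgroup G) : Set G := {a | a ≠ 1 ∧ ∃ g : G, a ∈ A₀.map (MulAut.conj g).toMonoidHom}

/-- the class of a root element -/
def cls (A₀ : Subgroup G) (a : G) : Set G :=
  {b | b ∈ DD A₀ ∧ ∀ d ∈ DD A₀, Commute b d ↔ Commute a d}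

variable {A₀ : Subgroup G}

theorem DD_conj (g : G) {a : G} (ha : a ∈ DD A₀) : g * a * g⁻¹ ∈ DD A₀ := by
  obtain ⟨h1, h, x, hx, rfl⟩ := ha
  refine ⟨fun h0 => h1 (by simpa using conj_eq_one_iff.1 h0), g * h, x, hx, ?_⟩
  simp [mul_assoc]

theorem comm_conj (g a d : G) : Commute (g * a * g⁻¹) d ↔ Commute a (g⁻¹ * d * g⁻¹⁻¹) := by
  constructor
  · intro h
    have := h.conj g⁻¹
    simpa [mul_assoc] using this
  · intro h
    have := h.conj g
    simpa [mul_assoc] using this

theorem cls_conj (g : G) {a b : G} (hb : b ∈ cls A₀ a) : g * b * g⁻¹ ∈ cls A₀ (g * a * g⁻¹) := by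
  refine ⟨DD_conj g hb.1, fun d hd => ?_⟩
  rw [comm_conj, comm_conj]
  exact hb.2 _ (DD_conj g⁻¹ hd)

theorem cls_self {a : G} (ha : a ∈ DD A₀) : a ∈ cls A₀ a := ⟨ha, fun _ _ => Iff.rfl⟩

theorem cls_congr {a b : G} (h : ∀ d ∈ DD A₀, Commute b d ↔ Commute a d) : cls A₀ b = cls A₀ a := by
  ext c
  exact ⟨fun hc => ⟨hc.1, fun d hd => (hc.2 d hd).trans (h d hd)⟩,
    fun hc => ⟨hc.1, fun d hd => (hc.2 d hd).trans (h d hd).symm⟩⟩

theorem cls_pre (g a : G) : {b | g⁻¹ * b * g ∈ cls A₀ a} = cls A₀ (g * a * g⁻¹) := by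
  ext b
  constructor
  · intro hb
    have := cls_conj g hb
    simpa [mul_assoc] using this
  · intro hb
    have := cls_conj g⁻¹ hb
    simpa [mul_assoc] using this

/-- the points -/
def Pt (A₀ : Subgroup G) : Type u := {S : Set G // ∃ a ∈ DD A₀, S = cls A₀ a}

instance : MulAction G (Pt A₀) where
  smul g S := ⟨{b | g⁻¹ * b * g ∈ S.1}, by
    obtain ⟨a, ha, h⟩ := S.2
    exact ⟨_, DD_conj g ha, by rw [h, cls_pre]⟩⟩
  one_smul S := by
    apply Subtype.ext
    ext b
    change 1⁻¹ * b * 1 ∈ S.1 ↔ _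
    simp
  mul_smul g h S := by
    apply Subtype.ext
    ext b
    change (g * h)⁻¹ * b * (g * h) ∈ S.1 ↔ h⁻¹ * (g⁻¹ * b * g) * h ∈ S.1
    simp [mul_assoc]

theorem smul_val (g : G) (S : Pt A₀) : (g • S).1 = {b | g⁻¹ * b * g ∈ S.1} := rfl

theorem val_eq {S : Pt A₀} {a : G} (ha : a ∈ S.1) : a ∈ DD A₀ ∧ S.1 = cls A₀ a := by
  obtain ⟨a0, -, h⟩ := S.2
  rw [h] at ha ⊢
  exact ⟨ha.1, (cls_congr ha.2).symm⟩

variable [Finite G] {p : ℕ}

theorem zpowers_eq (hp : p.Prime) {A : Subgroup G} (hA : Nat.card A = p) {a : G} (ha : a ∈ A)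
    (h1 : a ≠ 1) : orderOf a = p ∧ zpowers a = A := by
  have ho : orderOf a = p := by
    have hd : orderOf a ∣ p := hA ▸ orderOf_dvd_natCard A ha
    rcases (Nat.dvd_prime hp).1 hd with h | h
    · exact absurd (orderOf_eq_one_iff.1 h) h1
    · exact h
  refine ⟨ho, eq_of_le_of_card_ge (zpowers_le.2 ha) ?_⟩
  rw [Nat.card_zpowers, ho, hA]

omit [Finite G] in
theorem card_conj (hA₀ : Nat.card A₀ = p) (g : G) :
    Nat.card (A₀.map (MulAut.conj g).toMonoidHom) = p := by
  rw [card_map_of_injective (MulAut.conj g).injective, hA₀]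

omit [Finite G] in
theorem comm_pow (hp : p.Prime) {a : G} (ha : orderOf a = p) {k : ℕ} (hk : a ^ k ≠ 1) (d : G) :
    Commute (a ^ k) d ↔ Commute a d := by
  refine ⟨fun h => ?_, fun h => h.pow_left k⟩
  have hc : k.Coprime (orderOf a) := by
    rw [ha, Nat.coprime_comm, hp.coprime_iff_not_dvd]
    intro hd
    exact hk (orderOf_dvd_iff_pow_eq_one.1 (ha ▸ hd))
  obtain ⟨m, hm⟩ := exists_pow_eq_self_of_coprime hc
  rw [← hm]
  exact h.pow_left m

end B0

open B0 in
theorem exists_tg {G : Type u} [Group G] [Finite G]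
    (p : ℕ) (hp : p.Prime) (hp5 : 5 ≤ p)
    (hS : ∀ M : Subgroup G, M.Normal → Group.IsSolvable ↥M → M = ⊥)
    (A₀ : Subgroup G) (hA₀ : Nat.card ↥A₀ = p)
    (hgen : (⨆ g : G, A₀.map (MulAut.conj g).toMonoidHom) = ⊤)
    (hpair : ∀ g h : G, A₀.map (MulAut.conj g).toMonoidHom ≠ A₀.map (MulAut.conj h).toMonoidHom →
      Nonempty (↥(A₀.map (MulAut.conj g).toMonoidHom ⊔ A₀.map (MulAut.conj h).toMonoidHom) ≃*
        (Multiplicative (ZMod p) × Multiplicative (ZMod p))) ∨
      ∃ (K : Type) (_ : Field K) (_ : Fintype K) (m : ℕ), 1 ≤ m ∧ Fintype.card K = p ^ m ∧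
        (Nonempty (↥(A₀.map (MulAut.conj g).toMonoidHom ⊔ A₀.map (MulAut.conj h).toMonoidHom) ≃*
            Matrix.ProjectiveSpecialLinearGroup (Fin 2) K) ∨
          Nonempty (↥(A₀.map (MulAut.conj g).toMonoidHom ⊔ A₀.map (MulAut.conj h).toMonoidHom) ≃*
            Matrix.SpecialLinearGroup (Fin 2) K))) :
    ∃ (Ω : Type u) (_ : MulAction G Ω) (_ : Finite Ω) (E : Ω → Set G), TG E p := by
  have := Fact.mk hp
  have hodd : Odd p := hp.odd_of_ne_two (by omega)
  have hord : ∀ a ∈ DD A₀, orderOf a = p := by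
    rintro a ⟨h1, g, hg⟩
    exact (zpowers_eq hp (card_conj hA₀ g) hg h1).1
  have hpow : ∀ a ∈ DD A₀, ∀ k : ℕ, a ^ k ≠ 1 → a ^ k ∈ cls A₀ a := by
    intro a ha k hk
    obtain ⟨h1, g, hg⟩ := id ha
    exact ⟨⟨hk, g, pow_mem hg k⟩, fun d _ => comm_pow hp (hord a ha) hk d⟩
  have hcl : closure (DD A₀) = ⊤ := by
    rw [eq_top_iff, ← hgen]
    refine iSup_le fun g x hx => ?_
    by_cases h1 : x = 1
    · rw [h1]; exact one_mem _
    · exact subset_closure ⟨h1, g, hx⟩
  have hU : (⋃ x : Pt A₀, x.1) = DD A₀ := by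
    ext a
    simp only [Set.mem_iUnion]
    exact ⟨fun ⟨x, hx⟩ => (val_eq hx).1, fun ha => ⟨⟨_, a, ha, rfl⟩, cls_self ha⟩⟩
  refine ⟨Pt A₀, inferInstance, by unfold Pt; infer_instance, fun S => S.1, hp, hp5, ?_, ?_, ?_, ?_,
    ?_, ?_, ?_, ?_, ?_, ?_⟩
  · intro x
    obtain ⟨a, ha, h⟩ := x.2
    exact ⟨a, h ▸ cls_self ha⟩
  · intro x a ha
    exact hord a (val_eq ha).1
  · intro x a ha k hk
    rw [(val_eq ha).2]
    exact hpow a (val_eq ha).1 k hk
  · intro g x a ha
    rw [smul_val]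
    simpa [mul_assoc] using ha
  · intro x y a ha b hb
    have haD := (val_eq ha).1
    have hbD := (val_eq hb).1
    by_cases hn : Commute a b
    · exact Or.inl hn
    right
    obtain ⟨ha1, g, hg⟩ := id haD
    obtain ⟨hb1, h, hh⟩ := id hbD
    have hzA := (zpowers_eq hp (card_conj hA₀ g) hg ha1).2
    have hzB := (zpowers_eq hp (card_conj hA₀ h) hh hb1).2
    have hsup : A₀.map (MulAut.conj g).toMonoidHom ⊔ A₀.map (MulAut.conj h).toMonoidHom =
        closure {a, b} := by
      rw [← hzA, ← hzB, zpowers_eq_closure, zpowers_eq_closure, ← Subgroup.closure_union]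
      rfl
    have hne : A₀.map (MulAut.conj g).toMonoidHom ≠ A₀.map (MulAut.conj h).toMonoidHom := by
      intro he
      rw [← he, ← hzA] at hh
      obtain ⟨k, rfl⟩ := hh
      exact hn (Commute.zpow_right (Commute.refl a) k)
    have hp' := hpair g h hne
    rw [hsup] at hp'
    have hap : a ^ p = 1 := hord a haD ▸ pow_orderOf_eq_one a
    have hbp : b ^ p = 1 := hord b hbD ▸ pow_orderOf_eq_one b
    rcases hp' with ⟨⟨e⟩⟩ | ⟨K, _, _, m, -, hK, ⟨⟨e⟩⟩ | ⟨⟨e⟩⟩⟩
    · exfalso
      apply hn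
      have h1 : a ∈ closure ({a, b} : Set G) := subset_closure (by simp)
      have h2 : b ∈ closure ({a, b} : Set G) := subset_closure (by simp)
      have : (⟨a, h1⟩ * ⟨b, h2⟩ : closure ({a, b} : Set G)) = ⟨b, h2⟩ * ⟨a, h1⟩ := by
        apply e.injective
        rw [map_mul, map_mul, mul_comm]
      exact congrArg Subtype.val this
    · have : CharP K p := charP_of_card_eq_prime_pow hK
      refine loc_of hp hodd (((closure ({a, b} : Set G)).subtype.comp e.symm.toMonoidHom).comp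
        (QuotientGroup.mk' (center SL(2, K)))) ?_ ?_ hap hbp hn
      · intro z hz
        have h1 : (QuotientGroup.mk' (center SL(2, K))) z = 1 := by
          apply e.symm.injective
          apply Subtype.ext
          simpa using hz
        have h2 : z ∈ center SL(2, K) := (QuotientGroup.eq_one_iff z).1 h1
        obtain ⟨r, hr, hz'⟩ := Matrix.SpecialLinearGroup.mem_center_iff.1 h2
        apply Subtype.ext
        rw [Matrix.SpecialLinearGroup.coe_pow, ← hz', ← map_pow]
        simp only [Fintype.card_fin] at hr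
        rw [hr, map_one]
        rfl
      · rw [MonoidHom.range_comp, MonoidHom.range_eq_top.2 (QuotientGroup.mk'_surjective _),
          ← MonoidHom.range_eq_map, MonoidHom.range_comp,
          MonoidHom.range_eq_top.2 e.symm.surjective, ← MonoidHom.range_eq_map, range_subtype]
    · have : CharP K p := charP_of_card_eq_prime_pow hK
      refine loc_of hp hodd ((closure ({a, b} : Set G)).subtype.comp e.symm.toMonoidHom)
        ?_ ?_ hap hbp hn
      · intro z hz
        have h1 : z = 1 := by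
          apply e.symm.injective
          apply Subtype.ext
          simpa using hz
        rw [h1, one_pow]
      · rw [MonoidHom.range_comp,
          MonoidHom.range_eq_top.2 e.symm.surjective, ← MonoidHom.range_eq_map, range_subtype]
  · intro x y a ha a' ha' d hd hc
    rw [(val_eq ha).2] at ha'
    exact (ha'.2 d (val_eq hd).1).2 hc
  · intro x y a ha b hb h
    apply Subtype.ext
    rw [(val_eq ha).2, (val_eq hb).2]
    exact cls_congr fun d hd => h ⟨_, d, hd, rfl⟩ d (cls_self hd)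
  · rw [hU, hcl]
  · intro x y
    obtain ⟨a, ha, hx⟩ := x.2
    obtain ⟨b, hb, hy⟩ := y.2
    obtain ⟨ha1, g, a0, ha0, rfl⟩ := id ha
    obtain ⟨hb1, h, hh⟩ := id hb
    have hc := DD_conj (h * g⁻¹) ha
    have hmem : h * g⁻¹ * (MulAut.conj g).toMonoidHom a0 * (h * g⁻¹)⁻¹ ∈
        A₀.map (MulAut.conj h).toMonoidHom := ⟨a0, ha0, by simp [mul_assoc]⟩
    rw [← (zpowers_eq hp (card_conj hA₀ h) hmem hc.1).2, ← mem_powers_iff_mem_zpowers] at hh
    obtain ⟨k, rfl⟩ := hh
    refine ⟨h * g⁻¹, Subtype.ext ?_⟩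
    rw [smul_val, hx, cls_pre, hy]
    exact (cls_congr (hpow _ hc k hb1).2).symm
  · by_contra hnc
    push Not at hnc
    have hcomm : ∀ a ∈ DD A₀, ∀ b ∈ DD A₀, a * b = b * a := fun a ha b hb =>
      hnc ⟨_, a, ha, rfl⟩ ⟨_, b, hb, rfl⟩ a (cls_self ha) b (cls_self hb)
    have hall : ∀ x y : G, x * y = y * x := by
      intro x y
      have := Subgroup.isMulCommutative_closure (k := DD A₀) hcomm
      have h2 := this.is_comm.comm ⟨x, hcl ▸ mem_top x⟩ ⟨y, hcl ▸ mem_top y⟩
      exact congrArg Subtype.val h2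
    have hsol : Group.IsSolvable (⊤ : Subgroup G) :=
      Group.isSolvable_of_comm fun x y => Subtype.ext (hall _ _)
    have htop := hS ⊤ inferInstance hsol
    have hA : A₀ = ⊥ := by rw [eq_bot_iff, ← htop]; exact le_top
    rw [hA, card_bot] at hA₀
    omega

end Cfsg.Agent.PT
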