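import Mathlib
import Cfsg.Agent.Bld.Main

/-! A quadrangle of orthogonal kind in odd characteristic has no central elations. -/

set_option autoImplicit false

namespace Cfsg.Agent.PT

open Cfsg.Agent.Bld Cfsg.Agent.Bld.Bd Cfsg.Agent.Bld.Bd.PolyG Cfsg.Agent.Chev CoxeterSystem
open scoped commutatorElement

variable {B W : Type*} [Group W] {M : CoxeterMatrix B} {cs : CoxeterSystem M W} [Sph cs] [Finite W]
  {K : Set B} {C : Type*} {X : Bd cs K C} {i j k : B} {a : W → C}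

omit [Finite W] in
theorem ld_alt (hjk : k ≠ j) {n : ℕ} (hn : n + 1 ≤ M k j) :
    cs.IsLeftDescent (alt cs k j (n + 1)) k := by
  rw [IsLeftDescent, length_alt cs hjk hn, alt_succ, simple_mul_simple_cancel_left,
    length_alt cs hjk.symm (by rw [M.symmetric]; omega)]
  omega

theorem elt_of_fix (ha : X.IsApt K a) (hj : j ∈ K) (hk : k ∈ K) (h2 : M j k = 4) {g : C → C}
    (hg : X.IsoOn X (X.Res {j, k} (a 1)) g)
    (H : ∀ y ∈ X.Res {k} (a 1), ∀ x ∈ X.Res {j} y, g x = x) :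
    X.Elt {j, k} (sh a (cs.simple j)) k g := by
  have hjk : j ≠ k := Edge.ne_of h2 (by norm_num)
  have h2' : M k j = 4 := (M.symmetric k j).trans h2
  have sj := simple_mem_coxPar cs hj
  have sk := simple_mem_coxPar cs hk
  have a1 : a (cs.simple j) ∈ X.Res {j} (a 1) :=
    mem_res_single.2 (Or.inr (ha.δ_one sj))
  have a2 : a (cs.simple k) ∈ X.Res {k} (a 1) :=
    mem_res_single.2 (Or.inr (ha.δ_one sk))
  have a3 : a (cs.simple k * cs.simple j) ∈ X.Res {j} (a (cs.simple k)) :=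
    mem_res_single.2 (Or.inr (adj_y ha sk hj))
  have f1 : ∀ y ∈ X.Res {k} (a 1), ∀ z ∈ X.Res {j} y, X.FixP g j z := fun y hy z hz x hx =>
    H y hy x (X.res_trans hz hx)
  have f2 : ∀ y ∈ X.Res {k} (a 1), X.FixP g k y := fun y hy x hx =>
    H x (X.res_trans hy hx) x (X.self_mem_res _ _)
  refine ⟨?_, fun v hv hd => ?_⟩
  · rwa [sh_apply, mul_one, res_eq (res_mono (by simp) _ a1)]
  obtain ⟨n, hn, rfl⟩ : ∃ n ≤ 3, v = alt cs j k n := by
    obtain ⟨n, hn, h | h⟩ := exists_alt cs hv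
    · refine ⟨n, ?_, h⟩
      by_contra h3
      obtain rfl : n = M j k := by omega
      rw [h, alt_braid, h2] at hd
      exact hd (ld_alt hjk.symm (n := 3) (by omega))
    · rcases n with _ | n
      · exact ⟨0, by omega, h⟩
      · exact absurd (h ▸ ld_alt hjk.symm (by omega)) hd
  obtain rfl | rfl | rfl | rfl : n = 0 ∨ n = 1 ∨ n = 2 ∨ n = 3 := by omega
  · rw [alt_zero, sh_apply, mul_one]
    refine ⟨H _ (X.self_mem_res _ _) _ a1, ?_⟩
    rintro t (rfl | rfl) h
    · exact f1 _ (X.self_mem_res _ _) _ a1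
    · exact absurd (by simpa [alt_succ] using ld_alt (cs := cs) hjk.symm (n := 0) (by omega)) h
  · rw [alt_succ, alt_zero, sh_apply, simple_mul_simple_cancel_left]
    refine ⟨H _ (X.self_mem_res _ _) _ (X.self_mem_res _ _), ?_⟩
    rintro t (rfl | rfl) -
    · exact f1 _ (X.self_mem_res _ _) _ (X.self_mem_res _ _)
    · exact f2 _ (X.self_mem_res _ _)
  · rw [alt_succ, alt_succ, alt_zero, sh_apply, simple_mul_simple_cancel_left, mul_one]
    refine ⟨H _ a2 _ (X.self_mem_res _ _), ?_⟩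
    rintro t (rfl | rfl) -
    · exact f1 _ a2 _ (X.self_mem_res _ _)
    · exact f2 _ a2
  · rw [alt_succ, alt_succ, alt_succ, alt_zero, sh_apply, simple_mul_simple_cancel_left, mul_one]
    refine ⟨H _ a2 _ a3, ?_⟩
    rintro t (rfl | rfl) h
    · exact f1 _ a2 _ a3
    · refine absurd ?_ h
      have := ld_alt (cs := cs) hjk.symm (n := 3) (by omega)
      simp only [alt_succ, alt_zero, mul_one] at this
      rwa [braid_of_four cs h2', ← mul_assoc (cs.simple t), ← mul_assoc (cs.simple j)] at this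

variable [Finite C]

theorem fix_of_mouf (hX : X.Mouf) (hK : NoIso M K) (ha : X.IsApt K a) (hi : i ∈ K) (hj : j ∈ K)
    (hk : k ∈ K) (h1 : M i j = 3) (h2 : M j k = 4) (h3 : M i k = 2) (hkd : X.Kind j k a)
    (ho : Odd (X.par j (a 1))) {g : C → C} (hg : X.IsoOn X (X.Res {j, k} (a 1)) g)
    (H : ∀ y ∈ X.Res {k} (a 1), ∀ x ∈ X.Res {j} y, g x = x) :
    ∀ x ∈ X.Res {j, k} (a 1), g x = x := by
  have hjk : j ≠ k := Edge.ne_of h2 (by norm_num)
  have h2' : M k j = 4 := (M.symmetric k j).trans h2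
  have sj := simple_mem_coxPar cs hj
  have sk := simple_mem_coxPar cs hk
  obtain ⟨h, hh, e⟩ := hX.elt_lift (pair_sub hj hk) (ha.sh sj) (i := k) (j := j) (by simp) (by simp)
    (by omega) (elt_of_fix ha hj hk h2 hg H)
  rw [sh_apply, mul_one, res_eq (res_mono (J := {j}) (by simp) _
    (mem_res_single.2 (Or.inr (ha.δ_one sj))))] at e
  suffices h = 1 from fun x hx => by rw [e hx, this, Equiv.Perm.one_apply]
  have H' : ∀ y ∈ X.Res {k} (a 1), ∀ x ∈ X.Res {j} y, h x = x := fun y hy x hx => by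
    rw [← e (X.res_trans (res_mono (by simp) _ hy) (res_mono (by simp) _ hx)), H y hy x hx]
  have hb := hX.b3 hK ha hi hj hk h1 h2 h3
  obtain ⟨F, _, _, x0, x2, n, e0, act, π, σ, c⟩ := hb.exists_qc
  have hc := (hX.kind_iff hK ha hj hk h2).1 hkd
  have e3 : X.UZ a j k 3 = X.U a k := by
    have := UZ_pred (X := X) (a := a) hj hk hjk
    rwa [h2] at this
  have e2 : X.UZ a j k 2 = X.U (sh a (cs.simple k)) j := by
    rw [show X.UZ a j k 2 = X.UZ a k j 1 by rw [UZ_symm hj hk hjk, h2]; rfl, UZ, cyc_one]; rfl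
  have hh1 : h ∈ X.UZ a j k 1 := by rw [UZ, cyc_one]; exact hh
  have hv : n⁻¹ * h * n ∈ X.UZ a j k 3 := (c.n_mem _).2 (by simpa [mul_assoc] using hh1)
  generalize hve : n⁻¹ * h * n = v at hv
  have e4 : n * v * n⁻¹ = h := by rw [← hve]; group
  have h4 := c.c13' hb.quad hv hv
  rw [e4, c.i_self hb.quad hc hv] at h4
  have h5 : ⁅h, v⁆ = 1 := by
    refine U_free hK (ha.sh sk) hj (e2 ▸ h4 ▸ c.p2.q2_mem _) ?_
    have hv' := inv_mem (e3 ▸ hv)
    have a2 : a (cs.simple k) ∈ X.Res {k} (a 1) := mem_res_single.2 (Or.inr (ha.δ_one sk))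
    have a3 : a (cs.simple k * cs.simple j) ∈ X.Res {j} (a (cs.simple k)) :=
      mem_res_single.2 (Or.inr (adj_y ha sk hj))
    have a4 : h (v⁻¹ (a (cs.simple k * cs.simple j))) = v⁻¹ (a (cs.simple k * cs.simple j)) :=
      H' _ (aut_res hv'.1 (U_fix hv') a2) _ (by rw [Res, Set.mem_ofPred_eq, hv'.1]; exact a3)
    rw [sh_apply, commutatorElement_def, Equiv.Perm.mul_apply, Equiv.Perm.mul_apply,
      Equiv.Perm.mul_apply, inv_fix a4, app_inv, H' _ a2 _ a3]
  have : Fintype F := Fintype.ofFinite F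
  have h6 : (2 : F) ≠ 0 := Cl.o_two_ne_zero_of_odd_card (by
    rwa [← Nat.card_eq_fintype_card, ← c.p0.q2_card, UZ_zero, hX.card_U hK ha hj])
  rw [h5, ← c.p2.q2_zero] at h4
  have h7 := c.p2.inj h4
  rw [eq_comm, neg_eq_zero, mul_eq_zero, or_iff_right h6, c.π_eq hb.quad hv] at h7
  rw [← e4, h7]; group

/-- No central elations in a quadrangle of orthogonal kind. -/
theorem fix_of_kind [Finite B] (hF : FH M) (h : Rk3 M i j k) (h4 : M j k = 4) (hs : {i, j, k} ⊆ K)
    (ha : X.IsApt K a) (hkd : X.Kind j k a) (ho : Odd (X.par j (a 1))) {g : Equiv.Perm C}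
    (hg : g ∈ X.Aut) (H : ∀ y ∈ X.Res {k} (a 1), ∀ x ∈ X.Res {j} y, g x = x) :
    ∀ x ∈ X.Res {j, k} (a 1), g x = x := by
  have h0 : g (a 1) = a 1 := H _ (X.self_mem_res _ _) _ (X.self_mem_res _ _)
  have hJ : ({j, k} : Set B) ⊆ {i, j, k} := Set.subset_insert _ _
  intro x hx
  have := fix_of_mouf (mouf_three hF h (X.res hs (a 1))) (Glue.noIso h) (Glue.ra_apt hs ha) (i := i)
    (j := j) (k := k) (by simp) (by simp) (by simp) h.ij h4 h.ik ((Glue.kind_ra hs hJ ha).2 hkd)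
    (by rwa [Glue.par_ra hs (by simp)]) (g := fun x => ⟨g x, aut_res hg h0 x.2⟩)
    (fun x _ y _ => hg x y) (fun y hy x hx => Subtype.ext (H y (by
      rwa [Glue.mem_res_res, Glue.ra_one] at hy) x hx)) ⟨x, res_mono hJ _ hx⟩
    (by rwa [Glue.mem_res_res, Glue.ra_one])
  exact congrArg Subtype.val this

end Cfsg.Agent.PT
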