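import Mathlib
import Cfsg.Agent.PT.IdK

/-! Double cosets in the Coxeter group of type `B`; central elations of polar spaces. -/

set_option autoImplicit false

namespace Cfsg.Agent.PT

open Cfsg.Agent.Bld Cfsg.Agent.Bld.Bd Cfsg.Agent.Bld.Bd.PolyG Cfsg.Agent.Chev CoxeterSystem

section Chain

variable {W : Type*} [Group W]

/-- The relations of type `A`. -/
structure Chn (τ : ℕ → W) (N : ℕ) : Prop where
  sq : ∀ i < N, τ i * τ i = 1
  comm : ∀ i j, i + 1 < j → j < N → τ i * τ j = τ j * τ i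
  braid : ∀ i, i + 1 < N → τ i * (τ (i + 1) * τ i) = τ (i + 1) * (τ i * τ (i + 1))

/-- The product `τ 0 * ⋯ * τ (t - 1)`. -/
def rr (τ : ℕ → W) : ℕ → W
  | 0 => 1
  | t + 1 => rr τ t * τ t

variable {τ : ℕ → W} {N : ℕ}

theorem rr_comm {x : W} {t : ℕ} (h : ∀ i < t, τ i * x = x * τ i) : rr τ t * x = x * rr τ t := by
  induction t with
  | zero => simp [rr]
  | succ t ih => rw [rr, mul_assoc, h t (by omega), ← mul_assoc, ih fun i hi => h i (by omega), mul_assoc]

theorem rr_mem {U : Subgroup W} {t : ℕ} (h : ∀ i < t, τ i ∈ U) : rr τ t ∈ U := by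
  induction t with
  | zero => exact one_mem _
  | succ t ih => exact mul_mem (ih fun i hi => h i (by omega)) (h t (by omega))

theorem rr_head {U : Subgroup W} {t : ℕ} (h : ∀ i, 1 ≤ i → i ≤ t → τ i ∈ U) :
    ∃ v ∈ U, rr τ (t + 1) = τ 0 * v := by
  induction t with
  | zero => exact ⟨1, one_mem _, by simp [rr]⟩
  | succ t ih =>
    obtain ⟨v, hv, e⟩ := ih fun i h1 h2 => h i h1 (by omega)
    exact ⟨v * τ (t + 1), mul_mem hv (h _ (by omega) le_rfl), by rw [rr, e, mul_assoc]⟩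

theorem Chn.shift (h : Chn τ N) {i t : ℕ} (h1 : i + 2 ≤ t) (h2 : t ≤ N) :
    rr τ t * τ i = τ (i + 1) * rr τ t := by
  induction t, h1 using Nat.le_induction with
  | base =>
    rw [rr, rr, mul_assoc, mul_assoc, h.braid i (by omega), ← mul_assoc,
      rr_comm fun l hl => h.comm l _ (by omega) (by omega)]
    simp only [mul_assoc]
  | succ t h1 ih =>
    rw [rr, mul_assoc, ← h.comm i t (by omega) (by omega), ← mul_assoc, ih (by omega), mul_assoc]

theorem Chn.dec (h : Chn τ N) {U : Subgroup W} (hU : ∀ i, 1 ≤ i → i < N → τ i ∈ U) {v : W}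
    (hv : v ∈ Subgroup.closure (τ '' Set.Iio N)) : ∃ u ∈ U, ∃ t ≤ N, v = u * rr τ t := by
  have key : ∀ i < N, ∀ u ∈ U, ∀ t ≤ N, ∃ u' ∈ U, ∃ t' ≤ N, u * rr τ t * τ i = u' * rr τ t' := by
    intro i hi u hu t ht
    rcases (by omega : t < i ∨ t = i ∨ t = i + 1 ∨ i + 2 ≤ t) with e | rfl | rfl | e
    · exact ⟨u * τ i, mul_mem hu (hU i (by omega) hi), t, ht, by
        rw [mul_assoc, rr_comm fun l hl => h.comm l i (by omega) hi, mul_assoc]⟩
    · exact ⟨u, hu, t + 1, hi, by rw [rr, mul_assoc]⟩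
    · exact ⟨u, hu, i, hi.le, by rw [rr, mul_assoc, mul_assoc, h.sq i hi, mul_one]⟩
    · exact ⟨u * τ (i + 1), mul_mem hu (hU _ (by omega) (by omega)), t, ht, by
        rw [mul_assoc, h.shift e ht, mul_assoc]⟩
  induction hv using Subgroup.closure_induction_right with
  | one => exact ⟨1, one_mem _, 0, by omega, by simp [rr]⟩
  | mul_right x _ y hy ih =>
    obtain ⟨i, hi, rfl⟩ := hy
    obtain ⟨u, hu, t, ht, rfl⟩ := ih
    exact key i hi u hu t ht
  | mul_inv_cancel x _ y hy ih =>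
    obtain ⟨i, hi, rfl⟩ := hy
    obtain ⟨u, hu, t, ht, rfl⟩ := ih
    rw [inv_eq_of_mul_eq_one_right (h.sq i hi)]
    exact key i hi u hu t ht

theorem Chn.rev (h : Chn τ N) : Chn (fun t => τ (N - 1 - t)) N where
  sq i hi := h.sq _ (by omega)
  comm i j h1 h2 := (h.comm _ _ (by omega) (by omega)).symm
  braid i hi := by
    rw [show N - 1 - i = N - 1 - (i + 1) + 1 by omega]
    exact (h.braid _ (by omega)).symm

theorem Chn.step {n : ℕ} (h : Chn τ (n + 2)) {U : Subgroup W}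
    (hU : ∀ i, 1 ≤ i → i ≤ n + 2 → τ i ∈ U) (h1 : τ (n + 2) * τ (n + 2) = 1)
    (h2 : ∀ i ≤ n, τ i * τ (n + 2) = τ (n + 2) * τ i)
    (h4 : τ (n + 1) * (τ (n + 2) * (τ (n + 1) * τ (n + 2))) =
      τ (n + 2) * (τ (n + 1) * (τ (n + 2) * τ (n + 1)))) {w : W}
    (hw : ∃ u ∈ U, ∃ v ∈ Subgroup.closure (τ '' Set.Iio (n + 2)),
      w = u * v ∨ w = u * rr τ (n + 3) * v) :
    ∃ u ∈ U, ∃ v ∈ Subgroup.closure (τ '' Set.Iio (n + 2)),
      w * τ (n + 2) = u * v ∨ w * τ (n + 2) = u * rr τ (n + 3) * v := by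
  have hA : ∀ i < n + 2, τ i ∈ Subgroup.closure (τ '' Set.Iio (n + 2)) := fun i hi =>
    Subgroup.subset_closure ⟨i, hi, rfl⟩
  have hk := hU (n + 2) (by omega) le_rfl
  obtain ⟨u, hu, v, hv, rfl | rfl⟩ := hw
  · obtain ⟨u', hu', t, ht, rfl⟩ := h.dec (U := U) (fun i h1 h2 => hU i h1 h2.le) hv
    rcases ht.lt_or_eq with ht | rfl
    · refine ⟨u * u' * τ (n + 2), mul_mem (mul_mem hu hu') hk, rr τ t,
        rr_mem fun i hi => hA i (by omega), Or.inl ?_⟩
      rw [mul_assoc, mul_assoc, rr_comm fun i hi => h2 i (by omega)]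
      simp only [mul_assoc]
    · exact ⟨u * u', mul_mem hu hu', 1, one_mem _, Or.inr (by simp only [rr, mul_assoc, mul_one])⟩
  · let V : Subgroup W := U.comap (MulAut.conj (rr τ (n + 3))).toMonoidHom ⊓
      (Subgroup.centralizer {τ (n + 2)} ⊓ Subgroup.closure (τ '' Set.Iio (n + 2)))
    have hV : ∀ i, 1 ≤ i → i < n + 2 → τ (n + 2 - 1 - i) ∈ V := fun i h3 h5 => by
      refine ⟨?_, Subgroup.mem_centralizer_singleton_iff.2 (h2 _ (by omega)), hA _ (by omega)⟩
      change rr τ (n + 3) * τ _ * (rr τ (n + 3))⁻¹ ∈ U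
      rw [rr, mul_assoc (rr τ _), ← h2 _ (by omega), ← mul_assoc, h.shift (by omega) le_rfl,
        mul_assoc (τ _), mul_inv_cancel_right]
      exact hU _ (by omega) (by omega)
    obtain ⟨u', hu', t, ht, rfl⟩ := h.rev.dec hV (v := v) (Subgroup.closure_mono (by
      rintro _ ⟨i, hi, rfl⟩
      have hi' : i < n + 2 := hi
      exact ⟨n + 2 - 1 - i, show n + 2 - 1 - i < n + 2 by omega, congrArg τ (by omega)⟩) hv)
    have h5 : rr τ (n + 3) * u' * (rr τ (n + 3))⁻¹ ∈ U := hu'.1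
    generalize hx : rr τ (n + 3) * u' * (rr τ (n + 3))⁻¹ = x at h5
    have h6 : rr τ (n + 3) * u' = x * rr τ (n + 3) := by rw [← hx, inv_mul_cancel_right]
    rcases t with _ | t
    · refine ⟨u * x, mul_mem hu h5, rr τ (n + 2), rr_mem hA, Or.inl ?_⟩
      rw [rr, mul_one, mul_assoc u, h6, rr]
      simp only [mul_assoc, h1, mul_one]
    · obtain ⟨v', hv', e⟩ := rr_head (τ := fun t => τ (n + 2 - 1 - t)) (U := V) (t := t)
        fun i h3 h5 => hV i h3 (by omega)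
      have h7 : v' * τ (n + 2) = τ (n + 2) * v' := Subgroup.mem_centralizer_singleton_iff.1 hv'.2.1
      refine ⟨u * x * τ (n + 2), mul_mem (mul_mem hu h5) hk, τ (n + 1) * v',
        mul_mem (hA _ (by omega)) hv'.2.2, Or.inr ?_⟩
      have h8 : rr τ (n + 3) * (τ (n + 1) * τ (n + 2)) = τ (n + 2) * (rr τ (n + 3) * τ (n + 1)) := by
        rw [rr, rr, mul_assoc, mul_assoc, h4, ← mul_assoc, rr_comm fun i hi => h2 i (by omega)]
        simp only [mul_assoc]
      rw [e, show n + 2 - 1 - 0 = n + 1 from rfl]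
      calc _ = u * (rr τ (n + 3) * u') * τ (n + 1) * (v' * τ (n + 2)) := by simp only [mul_assoc]
        _ = u * x * (rr τ (n + 3) * (τ (n + 1) * τ (n + 2))) * v' := by
          rw [h6, h7]; simp only [mul_assoc]
        _ = _ := by rw [h8]; simp only [mul_assoc]

end Chain

variable {W : Type*} [Group W] {n : ℕ} {cs : CoxeterSystem (CoxeterMatrix.B (n + 3)) W} [Sph cs]

variable (cs) in
/-- The two double cosets of the stabilisers of a point and of a maximal subspace. -/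
theorem two_cosets : ∃ ρ ∈ coxPar cs {Fin.last (n + 2)}ᶜ,
    ρ * cs.simple (Fin.last (n + 2)) = cs.simple (Fin.last (n + 2)) * ρ ∧
      ∀ w, ∃ u ∈ coxPar cs {0}ᶜ, ∃ v ∈ coxPar cs {Fin.last (n + 2)}ᶜ, w = u * v ∨
        w = u * (ρ * cs.simple ⟨n + 1, by omega⟩ * cs.simple (Fin.last (n + 2))) * v := by
  let τ : ℕ → W := fun i => if h : i < n + 3 then cs.simple ⟨i, h⟩ else 1
  have hτ : ∀ i (h : i < n + 3), τ i = cs.simple ⟨i, h⟩ := fun i h => dif_pos h
  have h : Chn τ (n + 2) := by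
    refine ⟨fun i hi => ?_, fun i j h1 h2 => ?_, fun i hi => ?_⟩
    · rw [hτ i (by omega), simple_mul_simple_self]
    · rw [hτ i (by omega), hτ j (by omega)]
      exact comm_of_two cs (by rw [B_apply]; grind)
    · rw [hτ i (by omega), hτ (i + 1) (by omega)]
      exact braid_of_three cs (by rw [B_apply]; grind)
  have h2 : ∀ i ≤ n, τ i * τ (n + 2) = τ (n + 2) * τ i := fun i hi => by
    rw [hτ i (by omega), hτ (n + 2) (by omega)]
    exact comm_of_two cs (by rw [B_apply]; grind)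
  have hA : coxPar cs {Fin.last (n + 2)}ᶜ = Subgroup.closure (τ '' Set.Iio (n + 2)) := by
    refine congrArg Subgroup.closure (Set.ext fun x => ⟨?_, ?_⟩)
    · rintro ⟨i, hi, rfl⟩
      have : (i : ℕ) ≠ n + 2 := fun e => hi (Fin.ext e)
      have := i.2
      exact ⟨i, show (i : ℕ) < n + 2 by omega, hτ i i.2⟩
    · rintro ⟨i, hi, rfl⟩
      have hi' : i < n + 2 := hi
      exact ⟨⟨i, by omega⟩, fun e => hi'.ne (congrArg Fin.val e), (hτ i _).symm⟩
  have hk : cs.simple (Fin.last (n + 2)) = τ (n + 2) := (hτ _ (by omega)).symm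
  refine ⟨rr τ (n + 1), hA ▸ rr_mem fun i hi =>
    Subgroup.subset_closure ⟨i, show i < n + 2 by omega, rfl⟩,
    hk ▸ rr_comm fun i hi => h2 i (by omega), fun w => ?_⟩
  rw [← hτ, hk, hA]
  change ∃ u ∈ _, ∃ v ∈ _, w = u * v ∨ w = u * rr τ (n + 3) * v
  induction w using cs.simple_induction_right with
  | one => exact ⟨1, one_mem _, 1, one_mem _, Or.inl (mul_one 1).symm⟩
  | mul_simple_right w i ih =>
    by_cases hi : i = Fin.last (n + 2)
    · rw [hi, hk]
      refine h.step (fun l h1 h2 => ?_) ?_ h2 ?_ ih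
      · rw [hτ l (by omega)]
        exact simple_mem_coxPar cs fun e => by have := congrArg Fin.val e; simp at this; omega
      · rw [← hk, simple_mul_simple_self]
      · rw [hτ (n + 1) (by omega), hτ (n + 2) (by omega)]
        exact braid_of_four cs (by rw [B_apply]; grind)
    · obtain ⟨u, hu, v, hv, e⟩ := ih
      refine ⟨u, hu, v * cs.simple i, mul_mem hv (hA ▸ simple_mem_coxPar cs hi), ?_⟩
      rcases e with rfl | rfl
      · exact Or.inl (mul_assoc _ _ _)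
      · exact Or.inr (mul_assoc _ _ _)

theorem exists_res {B W : Type*} [Group W] {M : CoxeterMatrix B} {cs : CoxeterSystem M W}
    {C : Type*} (X : Bd cs Set.univ C) {A : Set B} (c y : C) {v : W} (hv : v ∈ coxPar cs A) :
    ∃ y' ∈ X.Res A y, X.δ c y' = X.δ c y * v := by
  refine coxPar_induction_right cs (p := fun v => ∃ y' ∈ X.Res A y, X.δ c y' = X.δ c y * v)
    ⟨y, X.self_mem_res _ _, (mul_one _).symm⟩ (fun w _ i hi _ ih => ?_) hv
  obtain ⟨z, hz, e⟩ := ih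
  obtain ⟨z', h1, h2⟩ := X.ex c z i trivial
  exact ⟨z', X.mem_res_of_adj hz hi h1, by rw [h2, e, mul_assoc]⟩

variable [Finite W] {C : Type*} [Finite C] {X : Bd cs Set.univ C} {a : W → C}

/-- A central elation in a polar space of orthogonal kind fixes all maximal subspaces. -/
theorem mem_res_of_kind (hF : FH (CoxeterMatrix.B (n + 3))) {Γ : Subgroup (Equiv.Perm C)}
    (hw : X.WT Γ) (ha : X.IsApt Set.univ a) (hkd : X.Kind ⟨n + 1, by omega⟩ (Fin.last (n + 2)) a)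
    (ho : Odd (X.par ⟨n + 1, by omega⟩ (a 1))) {d : Equiv.Perm C} (hd : d ∈ X.Aut) {c : C}
    (H : ∀ y ∈ X.Res {0}ᶜ c, ∀ x ∈ X.Res {Fin.last (n + 2)}ᶜ y, d x = x) (x : C) :
    d x ∈ X.Res {Fin.last (n + 2)}ᶜ x := by
  have h4 : CoxeterMatrix.B (n + 3) ⟨n + 1, by omega⟩ (Fin.last (n + 2)) = 4 := by
    simp [B_apply]
  have h : Rk3 (CoxeterMatrix.B (n + 3)) ⟨n, by omega⟩ ⟨n + 1, by omega⟩ (Fin.last (n + 2)) :=
    ⟨by simp [B_apply], Or.inr h4, by rw [B_apply]; grind [Fin.val_last]⟩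
  have hj : (⟨n + 1, by omega⟩ : Fin (n + 3)) ∈ ({Fin.last (n + 2)}ᶜ : Set (Fin (n + 3))) :=
    fun e => by have := congrArg Fin.val e; simp at this
  have hk : Fin.last (n + 2) ∈ ({0}ᶜ : Set (Fin (n + 3))) :=
    fun e => by have := congrArg Fin.val e; simp at this
  have H1 : ∀ y, ∀ u ∈ coxPar cs {0}ᶜ, ∀ v ∈ coxPar cs {Fin.last (n + 2)}ᶜ, X.δ c y = u * v →
      ∀ x ∈ X.Res {Fin.last (n + 2)}ᶜ y, d x = x := fun y u hu v hv e x hx => by
    obtain ⟨z, hz, e'⟩ := exists_res X c y (inv_mem hv)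
    rw [e, mul_inv_cancel_right] at e'
    exact H z (show X.δ c z ∈ _ from e' ▸ hu) x (X.res_trans (X.res_symm hz) hx)
  obtain ⟨ρ, h1, h2, h3⟩ := two_cosets cs
  obtain ⟨u, hu, v, hv, e | e⟩ := h3 (X.δ c x)
  · rw [H1 x u hu v hv e x (X.self_mem_res _ _)]
    exact X.self_mem_res _ _
  obtain ⟨x', hx', e1⟩ := exists_res X c x (inv_mem hv)
  obtain ⟨z, hz, e2⟩ := exists_res X (A := {⟨n + 1, by omega⟩, Fin.last (n + 2)}) c x'
    (inv_mem (mul_mem (simple_mem_coxPar cs (Or.inl rfl)) (simple_mem_coxPar cs (Or.inr rfl))))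
  rw [e1, e, mul_inv_cancel_right, mul_assoc ρ, ← mul_assoc u, mul_inv_cancel_right] at e2
  refine aut_mem_res hd hx' ?_ (X.self_mem_res _ _)
  obtain ⟨g, hg, h5, -⟩ := hw.2 (a 1) (a 1) z z ((X.δ_self _).trans (X.δ_self _).symm)
  have hg' := hw.1 hg
  have h6 := fix_of_kind hF h h4 (Set.subset_univ _) ha hkd ho
    (mul_mem (mul_mem (inv_mem hg') hd) hg') (fun y hy t ht => ?_) (g⁻¹ x') (by
      rw [Res, Set.mem_ofPred_eq, ← hg', h5, app_inv]; exact X.res_symm hz)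
  · simpa using h6
  rw [Equiv.Perm.mul_apply, Equiv.Perm.mul_apply, Equiv.Perm.inv_eq_iff_eq]
  have h7 : g t ∈ X.Res {Fin.last (n + 2)}ᶜ (g y) := by
    rw [Res, Set.mem_ofPred_eq, hg']
    exact res_mono (Set.singleton_subset_iff.2 hj) _ ht
  have h8 : g y ∈ X.Res {Fin.last (n + 2)} z := by
    rw [Res, Set.mem_ofPred_eq, ← h5, hg']; exact hy
  rcases (mem_par_single cs).1 (X.δ_mem_coset c h8) with h9 | h9
  · exact H1 _ u hu ρ h1 (by rw [← e2, inv_mul_eq_one.1 h9]) _ h7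
  · exact H1 _ (u * cs.simple (Fin.last (n + 2))) (mul_mem hu (simple_mem_coxPar cs hk)) ρ h1
      (by rw [inv_mul_eq_iff_eq_mul.1 h9, e2, mul_assoc, h2, mul_assoc]) _ h7

/-- A simple Weyl transitive group on a polar space of orthogonal kind has no central elations. -/
theorem eq_one_of_kind (hF : FH (CoxeterMatrix.B (n + 3))) {G : Type*} [Group G] [IsSimpleGroup G]
    {ρ : G →* Equiv.Perm C} (hw : X.WT ρ.range) (ha : X.IsApt Set.univ a)
    (hkd : X.Kind ⟨n + 1, by omega⟩ (Fin.last (n + 2)) a)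
    (ho : Odd (X.par ⟨n + 1, by omega⟩ (a 1))) {d : G} {c : C}
    (H : ∀ y ∈ X.Res {0}ᶜ c, ∀ x ∈ X.Res {Fin.last (n + 2)}ᶜ y, ρ d x = x) : d = 1 := by
  have hρ : ∀ g, ρ g ∈ X.Aut := fun g => hw.1 ⟨g, rfl⟩
  let N : Subgroup G :=
    { carrier := {g | ∀ x, ρ g x ∈ X.Res {Fin.last (n + 2)}ᶜ x}
      one_mem' := fun x => by simpa using X.self_mem_res _ x
      mul_mem' := fun {g h} hg hh x => by
        rw [map_mul, Equiv.Perm.mul_apply]; exact X.res_trans (hh x) (hg _)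
      inv_mem' := fun {g} hg x => by
        have := hg (ρ g⁻¹ x)
        rw [map_inv, app_inv] at this
        rw [map_inv]; exact X.res_symm this }
  have hN : N.Normal := ⟨fun g hg k x => by
    have := hg ((ρ k)⁻¹ x)
    rw [Res, Set.mem_ofPred_eq, ← hρ k, app_inv] at this
    rw [map_mul, map_mul, map_inv]; exact this⟩
  rcases hN.eq_bot_or_eq_top with h | h
  · exact Subgroup.mem_bot.1 (h.le (mem_res_of_kind hF hw ha hkd ho (hρ d) H))
  · obtain ⟨y, -, h1, -⟩ := X.thick c (Fin.last (n + 2)) trivial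
    obtain ⟨_, ⟨g, rfl⟩, h2, -⟩ := hw.2 c c y y ((X.δ_self _).trans (X.δ_self _).symm)
    have h3 : ρ g c ∈ X.Res {Fin.last (n + 2)}ᶜ c := (h.ge (Subgroup.mem_top g) : g ∈ N) c
    rw [h2, Res, Set.mem_ofPred_eq, h1, simple_mem_par] at h3
    exact absurd rfl h3

end Cfsg.Agent.PT
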