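import Mathlib
import Cfsg.Agent.Bld.Main

/-! The building of the symplectic group in odd characteristic is not of orthogonal kind. -/

set_option autoImplicit false

namespace Cfsg.Agent.PT

open Cfsg Cfsg.Agent.Bld Cfsg.Agent.Bld.KC Cfsg.Agent.Ch Cfsg.Agent.Ch.BakForm Cfsg.Agent.Chev
  Cfsg.Agent.Cl Cfsg.Agent.Cl.EB Module CoxeterSystem

/-- The first and the third root group of the quadrangle `{j, k}` do not commute. -/
def NC {X Φ B : Type*} [Group X] (R : RootBN X Φ B) (j k : B) : Prop :=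
  ∃ x ∈ R.X (R.simple j), ∃ h ∈ R.X (R.w (R.s j) (R.w (R.s k) (R.simple j))),
    x * h * x⁻¹ * h⁻¹ ∈ R.X (R.w (R.s j) (R.simple k)) ∧ x * h * x⁻¹ * h⁻¹ ≠ 1

/-- `KL` together with `NC`. -/
def KN (p : ℕ) (G : Type*) [Group G] (Φ : Type) {B : Type} (M : B → B → ℕ) (q : B → ℕ) (j k : B) :
    Prop :=
  ∃ R : RootBN G Φ B, R.G = ⊤ ∧ R.Lie p ∧
    (∀ i j, orderOf (R.w (R.s i) * R.w (R.s j)) = M i j) ∧
      (∀ i, Nat.card (R.X (R.simple i)) = q i) ∧ NC R j k

section Transfer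

variable {p : ℕ} [hp : Fact p.Prime] {G G' : Type*} [Group G] [Finite G] [Group G'] {Φ B : Type}
  [Finite Φ] {M : B → B → ℕ} {q : B → ℕ} {j k : B}

theorem KN.map (h : KN p G Φ M q j k) (π : G →* G') (h1 : Function.Surjective π)
    (h2 : π.ker ≤ Subgroup.center G) : KN p G' Φ M q j k := by
  obtain ⟨R, hG, hL, h3, h4, x, hx, y, hy, h5, h6⟩ := h
  have hπ : (π.comp R.G.subtype).ker ≤ Subgroup.center R.G := fun x hx =>
    Subgroup.mem_center_iff.2 fun y => Subtype.ext (Subgroup.mem_center_iff.1 (h2 hx) y)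
  refine ⟨RootBN.map hπ, ?_, hL.map hπ, fun i j => ?_, fun i => ?_, ?_⟩
  · rw [RootBN.map_G, MonoidHom.range_eq_top]
    exact h1.comp fun g => ⟨⟨g, hG.ge trivial⟩, rfl⟩
  · simp only [RootBN.map_w_s, h3]
  · rw [RootBN.card_map_X, RootBN.map_simple, h4]
  · simp only [NC, RootBN.map_w_s, RootBN.map_simple, RootBN.map_X]
    let x' : R.G := ⟨x, hG.ge trivial⟩
    let y' : R.G := ⟨y, hG.ge trivial⟩
    refine ⟨_, RootBN.apply_mem_img (x := x') hx, _, RootBN.apply_mem_img (x := y') hy, ?_, ?_⟩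
    · rw [← map_inv, ← map_inv, ← map_mul, ← map_mul, ← map_mul]
      exact RootBN.apply_mem_img h5
    · rw [← map_inv, ← map_inv, ← map_mul, ← map_mul, ← map_mul]
      exact fun e => h6 (congrArg Subtype.val (RootBN.eq_one_of_mem_X hπ (x := x' * y' * x'⁻¹ * y'⁻¹)
        h5 e))

end Transfer

variable {m : ℕ}

theorem nc_EG {K V : Type*} [Field K] [AddCommGroup V] [Module K V] [FiniteDimensional K V]
    {B : LinearMap.BilinForm K V} {hB : B.Nondegenerate} {hA : B.IsAlt}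
    (f : (bakSp hB hA).Frame (Fin m)) (h2 : (2 : K) ≠ 0) (hm : IsD f → m ≠ 1) {j k : Fin m}
    (hj : (j : ℕ) + 2 = m) (hk : (k : ℕ) + 1 = m) : NC (rootBN hm) j k := by
  have d : ¬ IsD f := fun d => one_ne_zero (d 0 (zero_mem _) 1 trivial)
  have a1 : ht (sp (IsD f) j) = 2 := by have := ht_sp_sq hm j; omega
  have a2 : ht (sq j) = -1 := by have := ht_sp_sq hm j; omega
  have a3 : ht (sp (IsD f) k) = 1 := by
    rcases ht_sp_sq hm k with h | h | h
    · omega
    · exact absurd h.1 d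
    · exact h.2.2.1
  have a4 : ht (sq k) = 1 := by have := ht_sp_sq hm k; omega
  have n1 : (sp (IsD f) j).1 ≠ (sq j).1 := by
    rw [fst_ne_iff, Ne, Ne, eq_iff_ht, eq_iff_ht, ht_bar, a1, a2]; decide
  have n2 : (sp (IsD f) j).1 ≠ (bar (sq j)).1 := by rwa [bar_fst]
  have e1 : act (sf hm j) (act (sf hm k) (sr hm j)) =
      mk (sp (IsD f) j) (bar (sq j)) (ok_of_fst_ne n2) := by
    simp only [sr, sf, act_mk, mk_eq_mk, rf_apply, eq_iff_ht, ht_rfF, ht_bar, a1, a2, a3, a4]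
    decide
  have e2 : act (sf hm j) (sr hm k) = mk (sp (IsD f) j) (sp (IsD f) j) (ok_self d _) := by
    simp only [sr, sf, act_mk, mk_eq_mk, rf_apply, eq_iff_ht, ht_rfF, a1, a2, a3, a4]
    decide
  rw [NC, rootBN_w_s, rootBN_w_s, rootBN_simple, rootBN_X, e1, e2]
  have v1 := f.val_smul (fst_ne_iff.1 n1).2 (1 : K)
  have v2 := f.val_smul (fst_ne_iff.1 n2).2 (1 : K)
  have v3 : ∀ s : K, (bakSp hB hA).Val (f.v (sp (IsD f) j)) 0 s := fun s =>
    (f.sing _).val_zero (by rw [bakSp_Λ]; trivial)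
  refine ⟨_, T_mem_Xr n1 (ok_sp_sq hm j) 1, _, T_mem_Xr n2 _ 1, ?_⟩
  rw [v1.T_commutator v2]
  refine ⟨(mem_Xr_self _).2 ⟨0, zero_mem _, _, v3 _, rfl⟩, fun e => ?_⟩
  have h3 := T_v_bar (f := f) (zero_mem _) (v3 ((bakSp hB hA).ε *
    ((bakSp hB hA).B ((1 : K) • f.v (sq j)) ((1 : K) • f.v (bar (sq j))) -
      (bakSp hB hA).B ((1 : K) • f.v (bar (sq j))) ((1 : K) • f.v (sq j)))))
  rw [e, EG_one_apply, f.co_of_ne (ne_bar _), one_smul, one_smul, f.B_bar, f.B_bar', bakSp_ε] at h3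
  have h4 := (bakSp hB hA).η_ne_zero (sq j)
  have h5 := (bakSp hB hA).η_ne_zero (sp (IsD f) j)
  exact mul_ne_zero (mul_ne_zero h2 h4) h5 (by linear_combination -h3)

theorem kn_psp' {K : Type} [Field K] [Finite K] (p : ℕ) [Fact p.Prime] [CharP K p]
    (h2 : (2 : K) ≠ 0) {j k : Fin m} (hj : (j : ℕ) + 2 = m) (hk : (k : ℕ) + 1 = m) :
    ∃ (Φ : Type) (_ : Finite Φ), KN p (PSp m K) Φ (fun i j => CoxeterMatrix.B m i j)
      (fun _ => Nat.card K) j k := by
  obtain ⟨f⟩ := bakSp_exists_frame (spB_nondegenerate (m := m) (R := K)) spB_isAlt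
    (m := m) (by simp [two_mul])
  have := (bakSp (spB_nondegenerate (m := m) (R := K)) spB_isAlt).finite_EG
  have d : ¬ IsD f := fun d => one_ne_zero (d 0 (zero_mem _) 1 trivial)
  have hm : IsD f → m ≠ 1 := fun h => absurd h d
  have hH : ∀ h ∈ HH f, h ^ p = 1 → h = 1 :=
    fun _ => eq_one_of_mem_HH_of_le (by rw [bakSp_V0]; simp)
  have h0 : KN p (bakSp (spB_nondegenerate (m := m) (R := K)) spB_isAlt).EG (Rt (IsD f) m)
      (fun i j => CoxeterMatrix.B m i j) (fun _ => Nat.card K) j k := by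
    refine ⟨rootBN hm, rfl, rootBN_lie hm (fun h => absurd h d) hH, fun i j => ?_, fun i => ?_,
      nc_EG f h2 hm hj hk⟩
    · refine Eq.trans ?_ (mat_false i j)
      rw [← eq_false d]
      unfold mat
      split_ifs with h1 h2 h3
      · rw [h1, Iv.σ_σ', orderOf_one]
      · refine ord4 h1 ?_ ?_
        · rw [rootBN_w_s, rootBN_simple, Ne, act_sf_sr_iff hm h1, not_not]
          exact h2
        · rw [rootBN_w_s, rootBN_w_s, rootBN_simple]
          exact act_four hm h2 h3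
      · refine ord3 h1 ?_
        rw [rootBN_w_s, rootBN_w_s, rootBN_simple]
        exact act_braid hm h2 h3
      · refine ord2 h1 ?_
        rw [rootBN_w_s, rootBN_simple, act_sf_sr_iff hm h1]
        exact h2
    · refine (card_Xr_sr hm i).trans ?_
      rw [bakSp_V0, bakSp_Λ, Nat.card_unique (α := (⊥ : Submodule K _)), AddSubgroup.card_top,
        one_mul, ite_self]
  let e := (spEquivEG m K).symm
  have h1 := h0.map e.toMonoidHom e.surjective (by
    rw [(MonoidHom.ker_eq_bot_iff _).2 e.injective]; exact bot_le)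
  exact ⟨_, inferInstance, h1.map (QuotientGroup.mk' _) (QuotientGroup.mk'_surjective _)
    (QuotientGroup.ker_mk' _).le⟩

open EndAux EndAux.Setup RootBN in
theorem not_kind {X Φ B W : Type*} [Group X] [Group W] {M : CoxeterMatrix B} [Finite Φ]
    {R : RootBN X Φ B} {cs : CoxeterSystem M W} [Sph cs] [Finite W] (S : Setup R cs)
    (hG : R.G = ⊤) {j k : B} (h : NC R j k) : ¬ S.Y.Kind j k S.a := by
  obtain ⟨x, hx, y, hy, h1, h2⟩ := h
  intro hK
  have hn := mul_mem (R.s_mem j) (R.s_mem k)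
  have hc : S.c (R.s j * R.s k) = cs.simple j * cs.simple k := by
    rw [S.c_mul (R.s_mem j) (R.s_mem k), S.c_s, S.c_s]
  rw [← w_mul_apply (R.s_mem j) (R.s_mem k)] at hy
  have h3 := Bd.conj_mem_U_of (b := sh S.a (cs.simple j * cs.simple k)) (S.ρ_mem (R.s j * R.s k))
    (fun v _ => by rw [S.ρ_a hn, hc, sh_apply]) (S.ρ_mem_U hG (conj_X_inv hn (inv_mem hy)))
  rw [← map_inv, ← map_mul, ← map_mul, show R.s j * R.s k * ((R.s j * R.s k)⁻¹ * y⁻¹ *
    (R.s j * R.s k)) * (R.s j * R.s k)⁻¹ = y⁻¹ by group] at h3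
  have h4 := hK _ _ (Bd.elt_of_mem_U (Set.subset_univ _) (S.ρ_mem_U hG (inv_mem hx)))
    (Bd.elt_of_mem_U (Set.subset_univ _) h3) (S.a (cs.simple j * cs.simple k))
    ((S.isApt.mono (Set.subset_univ _)).mem_res (mul_mem (simple_mem_coxPar cs (by simp))
      (simple_mem_coxPar cs (by simp))))
  rw [← hc, ← S.mk_eq hn, ρ_mk, ρ_mk, ρ_mk, ρ_mk, QuotientGroup.eq] at h4
  have h5 := conj_s_inv_X (conj_X_inv (R.s_mem j) (inv_mem h1))
  have h6 := eq_one_of_mem_B_V (R := R) (by convert h4 using 1; group)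
    (X_le_V (not_pos_neg_simple k) h5)
  apply h2
  rw [← inv_eq_one]
  calc _ = R.s j * (R.s k * ((R.s k)⁻¹ * ((R.s j)⁻¹ * (x * y * x⁻¹ * y⁻¹)⁻¹ * R.s j) * R.s k) *
      (R.s k)⁻¹) * (R.s j)⁻¹ := by group
    _ = 1 := by rw [h6]; group

open EndAux EndAux.Setup in
/-- The building of the symplectic group in odd characteristic. -/
theorem psp_model (hm : 3 ≤ m) {W : Type*} [Group W] [Finite W]
    (cs : CoxeterSystem (CoxeterMatrix.B m) W) [Sph cs] (hM : NoIso (CoxeterMatrix.B m) Set.univ)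
    {K : Type} [Field K] [Fintype K] (p : ℕ) [Fact p.Prime] [CharP K p] (h2 : (2 : K) ≠ 0)
    {j k : Fin m} (hj : (j : ℕ) + 2 = m) (hk : (k : ℕ) + 1 = m) :
    ∃ (C : Type) (_ : Finite C) (Y : Bd cs Set.univ C) (a : W → C), Y.IsApt Set.univ a ∧
      (∀ i, Y.par i (a 1) = Nat.card K) ∧ ¬ Y.Kind j k a ∧
      ∀ G : Subgroup (Equiv.Perm C), IsSimpleGroup G → Y.WT G → Nonempty (G ≃* PSp m K) := by
  obtain ⟨_, _, hK, -⟩ := kn_psp hm (K := K) p
  obtain ⟨Φ, _, R, hG, hL, ho, hq, hN⟩ := kn_psp' p h2 hj hk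
  have : Nonempty (Fin m) := ⟨j⟩
  obtain ⟨S⟩ := exists_setup R hG cs ho
  have hρ := ρ_inj hG hL
  refine ⟨_, inferInstance, S.Y, S.a, S.isApt, fun i => (S.par_eq hG i).trans (hq i),
    not_kind S hG hN, fun G _ hW => ?_⟩
  let e := MonoidHom.ofInjective hρ
  have := e.symm.isSimpleGroup
  have h1 : G ≤ (ρ R).range := le_of_schreier (not_comm hW) (hW.1.trans (S.le_normalizer hG hM hL))
    (schreier_lie (hK.of_mulEquiv e.symm))
    fun g hg => eq_one_of_comm hG hL fun x => hg _ ⟨x, rfl⟩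
  have h2 : (G.comap (ρ R)).map (ρ R) = G := Subgroup.map_comap_eq_self h1
  have h3 := eq_top hG hL S (D := G.comap (ρ R)) (h2.symm ▸ hW)
  rw [h3, ← MonoidHom.range_eq_map] at h2
  exact ⟨(MulEquiv.subgroupCongr h2.symm).trans e.symm⟩

end Cfsg.Agent.PT
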